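import Cfsg.Agent.Helper17.FiQ3TC.Lemmas

set_option autoImplicit false
set_option linter.all false

noncomputable section

namespace Cfsg.Agent.Helper17.FiQ3TC

theorem F1 : act 1 n0 = n0 := d15_0 B0 
theorem F2 : act 2 n0 = n0 := d16_0 B1 
theorem F3 : act 3 n0 = n0 := d17_0 B2 
theorem F4 : act 4 n0 = n0 := d18_0 B3 
def n1 : Q := act 0 n0
theorem D1 : act 0 n0 = n1 := rfl
theorem F5 : act 2 n1 = n1 := d1_2 F2 D1 (iv D1)
theorem F6 : act 3 n1 = n1 := d2_2 F3 D1 (iv D1)
theorem F7 : act 4 n1 = n1 := d3_2 F4 D1 (iv D1)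
def n2 : Q := act 5 n0
theorem D2 : act 5 n0 = n2 := rfl
theorem F8 : act 1 n2 = n2 := d8_1 D2 (iv D2) F1
theorem F9 : act 3 n2 = n2 := d13_1 D2 (iv D2) F3
theorem F10 : act 4 n2 = n2 := d14_1 D2 (iv D2) F4
def n3 : Q := act 1 n1
theorem D3 : act 1 n1 = n3 := rfl
theorem F11 : act 0 n3 = n3 := d0_1 D3 (iv D3) (iv D1) F1 D1
theorem F12 : act 3 n3 = n3 := d6_2 F6 D3 (iv D3)
theorem F13 : act 4 n3 = n3 := d7_2 F7 D3 (iv D3)
def n4 : Q := act 5 n1
theorem D4 : act 5 n1 = n4 := rfl
theorem F14 : act 0 n4 = n2 := d4_1 D4 (iv D2) D1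
theorem F15 : act 3 n4 = n4 := d13_1 D4 (iv D4) F6
theorem F16 : act 4 n4 = n4 := d14_1 D4 (iv D4) F7
def n5 : Q := act 2 n2
theorem D5 : act 2 n2 = n5 := rfl
theorem F17 : act 4 n5 = n5 := d10_2 F10 D5 (iv D5)
theorem F18 : act 5 n5 = n5 := d11_2 D2 D5 (iv D5) (iv D2) F2
def n6 : Q := act 2 n3
theorem D6 : act 2 n3 = n6 := rfl
theorem F19 : act 0 n6 = n6 := d1_1 D6 (iv D6) F11
theorem F20 : act 1 n6 = n6 := d5_1 D6 (iv D6) (iv D3) F5 D3
theorem F21 : act 4 n6 = n6 := d10_2 F13 D6 (iv D6)
def n7 : Q := act 5 n3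
theorem D7 : act 5 n3 = n7 := rfl
theorem F22 : act 0 n7 = n7 := d4_1 D7 (iv D7) F11
theorem F23 : act 1 n7 = n4 := d8_1 D7 (iv D4) D3
theorem F24 : act 3 n7 = n7 := d13_1 D7 (iv D7) F12
theorem F25 : act 4 n7 = n7 := d14_1 D7 (iv D7) F13
def n8 : Q := act 2 n4
theorem D8 : act 2 n4 = n8 := rfl
theorem F26 : act 0 n8 = n5 := d1_1 D8 (iv D5) (iv F14)
theorem F27 : act 4 n8 = n8 := d10_2 F16 D8 (iv D8)
theorem F28 : act 5 n8 = n8 := d11_2 D4 D8 (iv D8) (iv D4) F5
def n9 : Q := act 1 n5
theorem D9 : act 1 n5 = n9 := rfl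
theorem F29 : act 2 n9 = n9 := d5_2 D5 D9 (iv D9) (iv D5) F8
theorem F30 : act 4 n9 = n9 := d7_2 F17 D9 (iv D9)
theorem F31 : act 5 n9 = n9 := d8_2 F18 D9 (iv D9)
def n10 : Q := act 3 n5
theorem D10 : act 3 n5 = n10 := rfl
theorem F32 : act 2 n10 = n10 := d9_1 D10 (iv D10) (iv D5) F9 D5
theorem F33 : act 5 n10 = n10 := d13_2 F18 D10 (iv D10)
def n11 : Q := act 3 n6
theorem D11 : act 3 n6 = n11 := rfl
theorem F34 : act 0 n11 = n11 := d2_1 D11 (iv D11) F19
theorem F35 : act 1 n11 = n11 := d6_1 D11 (iv D11) F20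
theorem F36 : act 2 n11 = n11 := d9_1 D11 (iv D11) (iv D6) F12 D6
def n12 : Q := act 5 n6
theorem D12 : act 5 n6 = n12 := rfl
theorem F37 : act 0 n12 = n12 := d4_1 D12 (iv D12) F19
theorem F38 : act 1 n12 = n12 := d8_1 D12 (iv D12) F20
theorem F39 : act 4 n12 = n12 := d14_1 D12 (iv D12) F21
def n13 : Q := act 2 n7
theorem D13 : act 2 n7 = n13 := rfl
theorem F40 : act 0 n13 = n13 := d1_1 D13 (iv D13) F22
theorem F41 : act 4 n13 = n13 := d10_2 F25 D13 (iv D13)
def n14 : Q := act 1 n8
theorem D14 : act 1 n8 = n14 := rfl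
theorem F42 : act 4 n14 = n14 := d7_2 F27 D14 (iv D14)
theorem F43 : act 5 n14 = n14 := d8_2 F28 D14 (iv D14)
def n15 : Q := act 3 n8
theorem D15 : act 3 n8 = n15 := rfl
theorem F44 : act 0 n15 = n10 := d2_1 D15 (iv D10) (iv F26)
theorem F45 : act 2 n15 = n15 := d9_1 D15 (iv D15) (iv D8) F15 D8
theorem F46 : act 5 n15 = n15 := d13_2 F28 D15 (iv D15)
def n16 : Q := act 0 n9
theorem D16 : act 0 n9 = n16 := rfl
theorem F47 : act 2 n16 = n16 := d1_2 F29 D16 (iv D16)
theorem F48 : act 4 n16 = n16 := d3_2 F30 D16 (iv D16)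
theorem F49 : act 5 n16 = n16 := d4_2 F31 D16 (iv D16)
def n17 : Q := act 3 n9
theorem D17 : act 3 n9 = n17 := rfl
theorem F50 : act 1 n17 = n10 := d6_1 D17 (iv D10) D9
theorem F51 : act 5 n17 = n17 := d13_2 F31 D17 (iv D17)
def n18 : Q := act 4 n10
theorem D18 : act 4 n10 = n18 := rfl
theorem F52 : act 2 n18 = n18 := d10_1 D18 (iv D18) F32
theorem F53 : act 3 n18 = n18 := d12_1 D18 (iv D18) (iv D10) F17 D10
theorem F54 : act 5 n18 = n18 := d14_2 F33 D18 (iv D18)
def n19 : Q := act 4 n11
theorem D19 : act 4 n11 = n19 := rfl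
theorem F55 : act 0 n19 = n19 := d3_1 D19 (iv D19) F34
theorem F56 : act 1 n19 = n19 := d7_1 D19 (iv D19) F35
theorem F57 : act 2 n19 = n19 := d10_1 D19 (iv D19) F36
theorem F58 : act 3 n19 = n19 := d12_1 D19 (iv D19) (iv D11) F21 D11
def n20 : Q := act 5 n11
theorem D20 : act 5 n11 = n20 := rfl
theorem F59 : act 0 n20 = n20 := d4_1 D20 (iv D20) F34
theorem F60 : act 1 n20 = n20 := d8_1 D20 (iv D20) F35
theorem F61 : act 3 n20 = n12 := d13_1 D20 (iv D12) D11
def n21 : Q := act 2 n12
theorem D21 : act 2 n12 = n21 := rfl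
theorem F62 : act 0 n21 = n21 := d1_1 D21 (iv D21) F37
theorem F63 : act 4 n21 = n21 := d10_2 F39 D21 (iv D21)
theorem F64 : act 5 n21 = n13 := d11_2 D12 D21 (iv D13) (iv D7) D6
def n22 : Q := act 1 n13
theorem D22 : act 1 n13 = n22 := rfl
theorem F65 : act 2 n22 = n14 := d5_2 D13 D22 (iv D14) (iv D8) (iv F23)
theorem F66 : act 4 n22 = n22 := d7_2 F41 D22 (iv D22)
def n23 : Q := act 3 n13
theorem D23 : act 3 n13 = n23 := rfl
theorem F67 : act 0 n23 = n23 := d2_1 D23 (iv D23) F40
theorem F68 : act 2 n23 = n23 := d9_1 D23 (iv D23) (iv D13) F24 D13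
def n24 : Q := act 0 n14
theorem D24 : act 0 n14 = n24 := rfl
theorem F69 : act 1 n24 = n16 := d0_2 D14 D24 (iv D16) (iv D9) (iv F26)
theorem F70 : act 4 n24 = n24 := d3_2 F42 D24 (iv D24)
theorem F71 : act 5 n24 = n24 := d4_2 F43 D24 (iv D24)
def n25 : Q := act 3 n14
theorem D25 : act 3 n14 = n25 := rfl
theorem F72 : act 1 n25 = n15 := d6_1 D25 (iv D15) D14
theorem F73 : act 5 n25 = n25 := d13_2 F43 D25 (iv D25)
def n26 : Q := act 4 n15
theorem D26 : act 4 n15 = n26 := rfl
theorem F74 : act 0 n26 = n18 := d3_1 D26 (iv D18) (iv F44)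
theorem F75 : act 2 n26 = n26 := d10_1 D26 (iv D26) F45
theorem F76 : act 3 n26 = n26 := d12_1 D26 (iv D26) (iv D15) F27 D15
theorem F77 : act 5 n26 = n26 := d14_2 F46 D26 (iv D26)
def n27 : Q := act 3 n16
theorem D27 : act 3 n16 = n27 := rfl
theorem F78 : act 0 n27 = n17 := d2_1 D27 (iv D17) D16
theorem F79 : act 5 n27 = n27 := d13_2 F49 D27 (iv D27)
def n28 : Q := act 2 n17
theorem D28 : act 2 n17 = n28 := rfl
theorem F80 : act 1 n28 = n28 := d5_1 D28 (iv D28) F50 F32 (iv F50)
theorem F81 : act 3 n28 = n28 := d9_2 D17 D28 (iv D28) (iv D17) F29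
def n29 : Q := act 4 n17
theorem D29 : act 4 n17 = n29 := rfl
theorem F82 : act 1 n29 = n18 := d7_1 D29 (iv D18) (iv F50)
theorem F83 : act 3 n29 = n29 := d12_1 D29 (iv D29) (iv D17) F30 D17
theorem F84 : act 5 n29 = n29 := d14_2 F51 D29 (iv D29)
def n30 : Q := act 5 n19
theorem D30 : act 5 n19 = n30 := rfl
theorem F85 : act 0 n30 = n30 := d4_1 D30 (iv D30) F55
theorem F86 : act 1 n30 = n30 := d8_1 D30 (iv D30) F56
theorem F87 : act 3 n30 = n30 := d13_1 D30 (iv D30) F58
theorem F88 : act 4 n30 = n20 := d14_1 D30 (iv D20) D19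
def n31 : Q := act 2 n20
theorem D31 : act 2 n20 = n31 := rfl
theorem F89 : act 0 n31 = n31 := d1_1 D31 (iv D31) F59
theorem F90 : act 5 n31 = n31 := d11_2 D20 D31 (iv D31) (iv D20) F36
def n32 : Q := act 1 n21
theorem D32 : act 1 n21 = n32 := rfl
theorem F91 : act 2 n32 = n32 := d5_2 D21 D32 (iv D32) (iv D21) F38
theorem F92 : act 4 n32 = n32 := d7_2 F63 D32 (iv D32)
theorem F93 : act 5 n32 = n22 := d8_2 (iv F64) D32 (iv D22)
def n33 : Q := act 3 n21
theorem D33 : act 3 n21 = n33 := rfl
theorem F94 : act 0 n33 = n33 := d2_1 D33 (iv D33) F62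
theorem F95 : act 5 n33 = n23 := d13_2 (iv F64) D33 (iv D23)
def n34 : Q := act 0 n22
theorem D34 : act 0 n22 = n34 := rfl
theorem F96 : act 1 n34 = n34 := d0_2 D22 D34 (iv D34) (iv D22) F40
theorem F97 : act 2 n34 = n24 := d1_2 (iv F65) D34 (iv D24)
theorem F98 : act 4 n34 = n34 := d3_2 F66 D34 (iv D34)
def n35 : Q := act 3 n22
theorem D35 : act 3 n22 = n35 := rfl
theorem F99 : act 1 n35 = n23 := d6_1 D35 (iv D23) D22
def n36 : Q := act 4 n23
theorem D36 : act 4 n23 = n36 := rfl
theorem F100 : act 0 n36 = n36 := d3_1 D36 (iv D36) F67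
theorem F101 : act 2 n36 = n36 := d10_1 D36 (iv D36) F68
theorem F102 : act 3 n36 = n36 := d12_1 D36 (iv D36) (iv D23) F41 D23
def n37 : Q := act 3 n24
theorem D37 : act 3 n24 = n37 := rfl
theorem F103 : act 0 n37 = n25 := d2_1 D37 (iv D25) D24
theorem F104 : act 1 n37 = n27 := d6_1 D37 (iv D27) (iv F69)
theorem F105 : act 5 n37 = n37 := d13_2 F71 D37 (iv D37)
def n38 : Q := act 2 n25
theorem D38 : act 2 n25 = n38 := rfl
theorem F106 : act 1 n38 = n38 := d5_1 D38 (iv D38) F72 F45 (iv F72)
def n39 : Q := act 4 n25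
theorem D39 : act 4 n25 = n39 := rfl
theorem F107 : act 1 n39 = n26 := d7_1 D39 (iv D26) (iv F72)
theorem F108 : act 3 n39 = n39 := d12_1 D39 (iv D39) (iv D25) F42 D25
theorem F109 : act 5 n39 = n39 := d14_2 F73 D39 (iv D39)
def n40 : Q := act 2 n27
theorem D40 : act 2 n27 = n40 := rfl
theorem F110 : act 0 n40 = n28 := d1_1 D40 (iv D28) (iv F78)
theorem F111 : act 3 n40 = n40 := d9_2 D27 D40 (iv D40) (iv D27) F47
def n41 : Q := act 4 n27
theorem D41 : act 4 n27 = n41 := rfl
theorem F112 : act 0 n41 = n29 := d3_1 D41 (iv D29) (iv F78)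
theorem F113 : act 3 n41 = n41 := d12_1 D41 (iv D41) (iv D27) F48 D27
theorem F114 : act 5 n41 = n41 := d14_2 F79 D41 (iv D41)
def n42 : Q := act 4 n28
theorem D42 : act 4 n28 = n42 := rfl
theorem F115 : act 1 n42 = n42 := d7_1 D42 (iv D42) F80
theorem F116 : act 2 n42 = n29 := d10_1 D42 (iv D29) D28
def n43 : Q := act 5 n28
theorem D43 : act 5 n28 = n43 := rfl
theorem F117 : act 1 n43 = n43 := d8_1 D43 (iv D43) F80
theorem F118 : act 2 n43 = n43 := d11_1 D43 (iv D43) (iv D28) F51 D28
theorem F119 : act 3 n43 = n43 := d13_1 D43 (iv D43) F81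
def n44 : Q := act 2 n30
theorem D44 : act 2 n30 = n44 := rfl
theorem F120 : act 0 n44 = n44 := d1_1 D44 (iv D44) F85
theorem F121 : act 4 n44 = n31 := d10_2 (iv F88) D44 (iv D31)
theorem F122 : act 5 n44 = n44 := d11_2 D30 D44 (iv D44) (iv D30) F57
def n45 : Q := act 1 n31
theorem D45 : act 1 n31 = n45 := rfl
theorem F123 : act 2 n45 = n45 := d5_2 D31 D45 (iv D45) (iv D31) F60
theorem F124 : act 5 n45 = n45 := d8_2 F90 D45 (iv D45)
def n46 : Q := act 3 n31
theorem D46 : act 3 n31 = n46 := rfl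
theorem F125 : act 0 n46 = n46 := d2_1 D46 (iv D46) F89
theorem F126 : act 2 n46 = n33 := d9_1 D46 (iv D33) (iv D21) (iv F61) D31
theorem F127 : act 5 n46 = n46 := d13_2 F90 D46 (iv D46)
def n47 : Q := act 0 n32
theorem D47 : act 0 n32 = n47 := rfl
theorem F128 : act 1 n47 = n47 := d0_2 D32 D47 (iv D47) (iv D32) F62
theorem F129 : act 2 n47 = n47 := d1_2 F91 D47 (iv D47)
theorem F130 : act 4 n47 = n47 := d3_2 F92 D47 (iv D47)
theorem F131 : act 5 n47 = n34 := d4_2 (iv F93) D47 (iv D34)
def n48 : Q := act 3 n32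
theorem D48 : act 3 n32 = n48 := rfl
theorem F132 : act 1 n48 = n33 := d6_1 D48 (iv D33) D32
theorem F133 : act 5 n48 = n35 := d13_2 (iv F93) D48 (iv D35)
def n49 : Q := act 4 n33
theorem D49 : act 4 n33 = n49 := rfl
theorem F134 : act 0 n49 = n49 := d3_1 D49 (iv D49) F94
theorem F135 : act 3 n49 = n49 := d12_1 D49 (iv D49) (iv D33) F63 D33
theorem F136 : act 5 n49 = n36 := d14_2 (iv F95) D49 (iv D36)
def n50 : Q := act 3 n34
theorem D50 : act 3 n34 = n50 := rfl
theorem F137 : act 0 n50 = n35 := d2_1 D50 (iv D35) D34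
theorem F138 : act 1 n50 = n50 := d6_1 D50 (iv D50) F96
def n51 : Q := act 2 n35
theorem D51 : act 2 n35 = n51 := rfl
theorem F139 : act 1 n51 = n51 := d5_1 D51 (iv D51) F99 F68 (iv F99)
theorem F140 : act 3 n51 = n38 := d9_2 D35 D51 (iv D38) (iv D25) (iv F65)
def n52 : Q := act 4 n35
theorem D52 : act 4 n35 = n52 := rfl
theorem F141 : act 1 n52 = n36 := d7_1 D52 (iv D36) (iv F99)
theorem F142 : act 3 n52 = n52 := d12_1 D52 (iv D52) (iv D35) F66 D35
def n53 : Q := act 2 n37
theorem D53 : act 2 n37 = n53 := rfl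
theorem F143 : act 0 n53 = n38 := d1_1 D53 (iv D38) (iv F103)
def n54 : Q := act 4 n37
theorem D54 : act 4 n37 = n54 := rfl
theorem F144 : act 0 n54 = n39 := d3_1 D54 (iv D39) (iv F103)
theorem F145 : act 1 n54 = n41 := d7_1 D54 (iv D41) (iv F104)
theorem F146 : act 3 n54 = n54 := d12_1 D54 (iv D54) (iv D37) F70 D37
theorem F147 : act 5 n54 = n54 := d14_2 F105 D54 (iv D54)
def n55 : Q := act 4 n38
theorem D55 : act 4 n38 = n55 := rfl
theorem F148 : act 1 n55 = n55 := d7_1 D55 (iv D55) F106
theorem F149 : act 2 n55 = n39 := d10_1 D55 (iv D39) D38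
def n56 : Q := act 5 n38
theorem D56 : act 5 n38 = n56 := rfl
theorem F150 : act 1 n56 = n56 := d8_1 D56 (iv D56) F106
theorem F151 : act 2 n56 = n56 := d11_1 D56 (iv D56) (iv D38) F73 D38
def n57 : Q := act 1 n40
theorem D57 : act 1 n40 = n57 := rfl
theorem F152 : act 0 n57 = n57 := d0_1 D57 (iv D57) F110 F80 (iv F110)
theorem F153 : act 3 n57 = n57 := d6_2 F111 D57 (iv D57)
def n58 : Q := act 4 n40
theorem D58 : act 4 n40 = n58 := rfl
theorem F154 : act 0 n58 = n42 := d3_1 D58 (iv D42) (iv F110)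
theorem F155 : act 2 n58 = n41 := d10_1 D58 (iv D41) D40
def n59 : Q := act 5 n40
theorem D59 : act 5 n40 = n59 := rfl
theorem F156 : act 0 n59 = n43 := d4_1 D59 (iv D43) (iv F110)
theorem F157 : act 2 n59 = n59 := d11_1 D59 (iv D59) (iv D40) F79 D40
theorem F158 : act 3 n59 = n59 := d13_1 D59 (iv D59) F111
def n60 : Q := act 3 n42
theorem D60 : act 3 n42 = n60 := rfl
theorem F159 : act 1 n60 = n60 := d6_1 D60 (iv D60) F115
theorem F160 : act 2 n60 = n60 := d9_1 D60 (iv D60) F116 F83 (iv F116)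
theorem F161 : act 4 n60 = n60 := d12_2 D42 D60 (iv D60) (iv D42) F81
def n61 : Q := act 5 n42
theorem D61 : act 5 n42 = n61 := rfl
theorem F162 : act 1 n61 = n61 := d8_1 D61 (iv D61) F115
theorem F163 : act 2 n61 = n61 := d11_1 D61 (iv D61) F116 F84 (iv F116)
theorem F164 : act 4 n61 = n43 := d14_1 D61 (iv D43) D42
def n62 : Q := act 1 n44
theorem D62 : act 1 n44 = n62 := rfl
theorem F165 : act 2 n62 = n62 := d5_2 D44 D62 (iv D62) (iv D44) F86
theorem F166 : act 4 n62 = n45 := d7_2 (iv F121) D62 (iv D45)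
theorem F167 : act 5 n62 = n62 := d8_2 F122 D62 (iv D62)
def n63 : Q := act 3 n44
theorem D63 : act 3 n44 = n63 := rfl
theorem F168 : act 0 n63 = n63 := d2_1 D63 (iv D63) F120
theorem F169 : act 2 n63 = n63 := d9_1 D63 (iv D63) (iv D44) F87 D44
theorem F170 : act 5 n63 = n63 := d13_2 F122 D63 (iv D63)
def n64 : Q := act 0 n45
theorem D64 : act 0 n45 = n64 := rfl
theorem F171 : act 1 n64 = n64 := d0_2 D45 D64 (iv D64) (iv D45) F89
theorem F172 : act 2 n64 = n64 := d1_2 F123 D64 (iv D64)
theorem F173 : act 5 n64 = n64 := d4_2 F124 D64 (iv D64)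
def n65 : Q := act 3 n45
theorem D65 : act 3 n45 = n65 := rfl
theorem F174 : act 1 n65 = n46 := d6_1 D65 (iv D46) D45
theorem F175 : act 5 n65 = n65 := d13_2 F124 D65 (iv D65)
def n66 : Q := act 4 n46
theorem D66 : act 4 n46 = n66 := rfl
theorem F176 : act 0 n66 = n66 := d3_1 D66 (iv D66) F125
theorem F177 : act 2 n66 = n49 := d10_1 D66 (iv D49) (iv F126)
theorem F178 : act 5 n66 = n66 := d14_2 F127 D66 (iv D66)
def n67 : Q := act 3 n47
theorem D67 : act 3 n47 = n67 := rfl
theorem F179 : act 0 n67 = n48 := d2_1 D67 (iv D48) D47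
theorem F180 : act 1 n67 = n67 := d6_1 D67 (iv D67) F128
theorem F181 : act 5 n67 = n50 := d13_2 (iv F131) D67 (iv D50)
def n68 : Q := act 2 n48
theorem D68 : act 2 n48 = n68 := rfl
theorem F182 : act 3 n68 = n68 := d9_2 D48 D68 (iv D68) (iv D48) F91
def n69 : Q := act 4 n48
theorem D69 : act 4 n48 = n69 := rfl
theorem F183 : act 1 n69 = n49 := d7_1 D69 (iv D49) (iv F132)
theorem F184 : act 3 n69 = n69 := d12_1 D69 (iv D69) (iv D48) F92 D48
theorem F185 : act 5 n69 = n52 := d14_2 (iv F133) D69 (iv D52)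
def n70 : Q := act 2 n50
theorem D70 : act 2 n50 = n70 := rfl
theorem F186 : act 0 n70 = n51 := d1_1 D70 (iv D51) (iv F137)
theorem F187 : act 3 n70 = n53 := d9_2 D50 D70 (iv D53) (iv D37) (iv F97)
def n71 : Q := act 4 n50
theorem D71 : act 4 n50 = n71 := rfl
theorem F188 : act 0 n71 = n52 := d3_1 D71 (iv D52) (iv F137)
theorem F189 : act 1 n71 = n71 := d7_1 D71 (iv D71) F138
theorem F190 : act 3 n71 = n71 := d12_1 D71 (iv D71) (iv D50) F98 D50
def n72 : Q := act 4 n51
theorem D72 : act 4 n51 = n72 := rfl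
theorem F191 : act 1 n72 = n72 := d7_1 D72 (iv D72) F139
theorem F192 : act 2 n72 = n52 := d10_1 D72 (iv D52) D51
def n73 : Q := act 5 n51
theorem D73 : act 5 n51 = n73 := rfl
theorem F193 : act 1 n73 = n73 := d8_1 D73 (iv D73) F139
theorem F194 : act 3 n73 = n56 := d13_1 D73 (iv D56) (iv F140)
def n74 : Q := act 1 n53
theorem D74 : act 1 n53 = n74 := rfl
theorem F195 : act 0 n74 = n74 := d0_1 D74 (iv D74) F143 F106 (iv F143)
theorem F196 : act 2 n74 = n57 := d5_2 D53 D74 (iv D57) (iv D40) (iv F104)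
def n75 : Q := act 4 n53
theorem D75 : act 4 n53 = n75 := rfl
theorem F197 : act 0 n75 = n55 := d3_1 D75 (iv D55) (iv F143)
theorem F198 : act 2 n75 = n54 := d10_1 D75 (iv D54) D53
def n76 : Q := act 5 n53
theorem D76 : act 5 n53 = n76 := rfl
theorem F199 : act 0 n76 = n56 := d4_1 D76 (iv D56) (iv F143)
theorem F200 : act 2 n76 = n76 := d11_1 D76 (iv D76) (iv D53) F105 D53
def n77 : Q := act 3 n55
theorem D77 : act 3 n55 = n77 := rfl
theorem F201 : act 1 n77 = n77 := d6_1 D77 (iv D77) F148
theorem F202 : act 2 n77 = n77 := d9_1 D77 (iv D77) F149 F108 (iv F149)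
def n78 : Q := act 5 n55
theorem D78 : act 5 n55 = n78 := rfl
theorem F203 : act 1 n78 = n78 := d8_1 D78 (iv D78) F148
theorem F204 : act 2 n78 = n78 := d11_1 D78 (iv D78) F149 F109 (iv F149)
theorem F205 : act 4 n78 = n56 := d14_1 D78 (iv D56) D55
def n79 : Q := act 4 n57
theorem D79 : act 4 n57 = n79 := rfl
theorem F206 : act 0 n79 = n79 := d3_1 D79 (iv D79) F152
theorem F207 : act 1 n79 = n58 := d7_1 D79 (iv D58) D57
def n80 : Q := act 5 n57
theorem D80 : act 5 n57 = n80 := rfl
theorem F208 : act 0 n80 = n80 := d4_1 D80 (iv D80) F152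
theorem F209 : act 1 n80 = n59 := d8_1 D80 (iv D59) D57
theorem F210 : act 3 n80 = n80 := d13_1 D80 (iv D80) F153
def n81 : Q := act 3 n58
theorem D81 : act 3 n58 = n81 := rfl
theorem F211 : act 0 n81 = n60 := d2_1 D81 (iv D60) (iv F154)
theorem F212 : act 2 n81 = n81 := d9_1 D81 (iv D81) F155 F113 (iv F155)
theorem F213 : act 4 n81 = n81 := d12_2 D58 D81 (iv D81) (iv D58) F111
def n82 : Q := act 5 n58
theorem D82 : act 5 n58 = n82 := rfl
theorem F214 : act 0 n82 = n61 := d4_1 D82 (iv D61) (iv F154)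
theorem F215 : act 2 n82 = n82 := d11_1 D82 (iv D82) F155 F114 (iv F155)
theorem F216 : act 4 n82 = n59 := d14_1 D82 (iv D59) D58
def n83 : Q := act 5 n60
theorem D83 : act 5 n60 = n83 := rfl
theorem F217 : act 1 n83 = n83 := d8_1 D83 (iv D83) F159
theorem F218 : act 3 n83 = n61 := d13_1 D83 (iv D61) D60
theorem F219 : act 4 n83 = n83 := d14_1 D83 (iv D83) F161
def n84 : Q := act 0 n62
theorem D84 : act 0 n62 = n84 := rfl
theorem F220 : act 1 n84 = n84 := d0_2 D62 D84 (iv D84) (iv D62) F120
theorem F221 : act 2 n84 = n84 := d1_2 F165 D84 (iv D84)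
theorem F222 : act 4 n84 = n64 := d3_2 (iv F166) D84 (iv D64)
theorem F223 : act 5 n84 = n84 := d4_2 F167 D84 (iv D84)
def n85 : Q := act 3 n62
theorem D85 : act 3 n62 = n85 := rfl
theorem F224 : act 1 n85 = n63 := d6_1 D85 (iv D63) D62
theorem F225 : act 5 n85 = n85 := d13_2 F167 D85 (iv D85)
def n86 : Q := act 4 n63
theorem D86 : act 4 n63 = n86 := rfl
theorem F226 : act 0 n86 = n86 := d3_1 D86 (iv D86) F168
theorem F227 : act 2 n86 = n86 := d10_1 D86 (iv D86) F169
theorem F228 : act 3 n86 = n66 := d12_1 D86 (iv D66) (iv D46) (iv F121) D63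
theorem F229 : act 5 n86 = n86 := d14_2 F170 D86 (iv D86)
def n87 : Q := act 3 n64
theorem D87 : act 3 n64 = n87 := rfl
theorem F230 : act 0 n87 = n65 := d2_1 D87 (iv D65) D64
theorem F231 : act 1 n87 = n87 := d6_1 D87 (iv D87) F171
theorem F232 : act 5 n87 = n87 := d13_2 F173 D87 (iv D87)
def n88 : Q := act 2 n65
theorem D88 : act 2 n65 = n88 := rfl
theorem F233 : act 1 n88 = n68 := d5_1 D88 (iv D68) F132 (iv F126) (iv F174)
theorem F234 : act 3 n88 = n88 := d9_2 D65 D88 (iv D88) (iv D65) F123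
def n89 : Q := act 4 n65
theorem D89 : act 4 n65 = n89 := rfl
theorem F235 : act 1 n89 = n66 := d7_1 D89 (iv D66) (iv F174)
theorem F236 : act 5 n89 = n89 := d14_2 F175 D89 (iv D89)
def n90 : Q := act 2 n67
theorem D90 : act 2 n67 = n90 := rfl
theorem F237 : act 0 n90 = n68 := d1_1 D90 (iv D68) (iv F179)
theorem F238 : act 3 n90 = n90 := d9_2 D67 D90 (iv D90) (iv D67) F129
def n91 : Q := act 4 n67
theorem D91 : act 4 n67 = n91 := rfl
theorem F239 : act 0 n91 = n69 := d3_1 D91 (iv D69) (iv F179)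
theorem F240 : act 1 n91 = n91 := d7_1 D91 (iv D91) F180
theorem F241 : act 3 n91 = n91 := d12_1 D91 (iv D91) (iv D67) F130 D67
theorem F242 : act 5 n91 = n71 := d14_2 (iv F181) D91 (iv D71)
def n92 : Q := act 4 n68
theorem D92 : act 4 n68 = n92 := rfl
theorem F243 : act 2 n92 = n69 := d10_1 D92 (iv D69) D68
def n93 : Q := act 5 n68
theorem D93 : act 5 n68 = n93 := rfl
theorem F244 : act 2 n93 = n73 := d11_1 D93 (iv D73) (iv D51) (iv F133) D68
theorem F245 : act 3 n93 = n93 := d13_1 D93 (iv D93) F182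
def n94 : Q := act 1 n70
theorem D94 : act 1 n70 = n94 := rfl
theorem F246 : act 0 n94 = n94 := d0_1 D94 (iv D94) F186 F139 (iv F186)
theorem F247 : act 2 n94 = n94 := d5_2 D70 D94 (iv D94) (iv D70) F138
theorem F248 : act 3 n94 = n74 := d6_2 (iv F187) D94 (iv D74)
def n95 : Q := act 4 n70
theorem D95 : act 4 n70 = n95 := rfl
theorem F249 : act 0 n95 = n72 := d3_1 D95 (iv D72) (iv F186)
theorem F250 : act 2 n95 = n71 := d10_1 D95 (iv D71) D70
def n96 : Q := act 5 n70
theorem D96 : act 5 n70 = n96 := rfl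
theorem F251 : act 0 n96 = n73 := d4_1 D96 (iv D73) (iv F186)
theorem F252 : act 3 n96 = n76 := d13_1 D96 (iv D76) (iv F187)
def n97 : Q := act 3 n72
theorem D97 : act 3 n72 = n97 := rfl
theorem F253 : act 1 n97 = n97 := d6_1 D97 (iv D97) F191
theorem F254 : act 2 n97 = n97 := d9_1 D97 (iv D97) F192 F142 (iv F192)
theorem F255 : act 4 n97 = n77 := d12_2 D72 D97 (iv D77) (iv D55) (iv F140)
def n98 : Q := act 5 n72
theorem D98 : act 5 n72 = n98 := rfl
theorem F256 : act 1 n98 = n98 := d8_1 D98 (iv D98) F191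
theorem F257 : act 4 n98 = n73 := d14_1 D98 (iv D73) D72
def n99 : Q := act 4 n74
theorem D99 : act 4 n74 = n99 := rfl
theorem F258 : act 0 n99 = n99 := d3_1 D99 (iv D99) F195
theorem F259 : act 1 n99 = n75 := d7_1 D99 (iv D75) D74
theorem F260 : act 2 n99 = n79 := d10_1 D99 (iv D79) (iv F196)
def n100 : Q := act 5 n74
theorem D100 : act 5 n74 = n100 := rfl
theorem F261 : act 0 n100 = n100 := d4_1 D100 (iv D100) F195
theorem F262 : act 1 n100 = n76 := d8_1 D100 (iv D76) D74
def n101 : Q := act 3 n75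
theorem D101 : act 3 n75 = n101 := rfl
theorem F263 : act 0 n101 = n77 := d2_1 D101 (iv D77) (iv F197)
theorem F264 : act 2 n101 = n101 := d9_1 D101 (iv D101) F198 F146 (iv F198)
def n102 : Q := act 5 n75
theorem D102 : act 5 n75 = n102 := rfl
theorem F265 : act 0 n102 = n78 := d4_1 D102 (iv D78) (iv F197)
theorem F266 : act 2 n102 = n102 := d11_1 D102 (iv D102) F198 F147 (iv F198)
theorem F267 : act 4 n102 = n76 := d14_1 D102 (iv D76) D75
def n103 : Q := act 5 n77
theorem D103 : act 5 n77 = n103 := rfl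
theorem F268 : act 1 n103 = n103 := d8_1 D103 (iv D103) F201
theorem F269 : act 3 n103 = n78 := d13_1 D103 (iv D78) D77
def n104 : Q := act 3 n79
theorem D104 : act 3 n79 = n104 := rfl
theorem F270 : act 0 n104 = n104 := d2_1 D104 (iv D104) F206
theorem F271 : act 1 n104 = n81 := d6_1 D104 (iv D81) (iv F207)
theorem F272 : act 4 n104 = n104 := d12_2 D79 D104 (iv D104) (iv D79) F153
def n105 : Q := act 5 n79
theorem D105 : act 5 n79 = n105 := rfl
theorem F273 : act 0 n105 = n105 := d4_1 D105 (iv D105) F206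
theorem F274 : act 1 n105 = n82 := d8_1 D105 (iv D82) (iv F207)
theorem F275 : act 4 n105 = n80 := d14_1 D105 (iv D80) D79
def n106 : Q := act 2 n80
theorem D106 : act 2 n80 = n106 := rfl
theorem F276 : act 0 n106 = n106 := d1_1 D106 (iv D106) F208
theorem F277 : act 1 n106 = n106 := d5_1 D106 (iv D106) F209 F157 (iv F209)
def n107 : Q := act 5 n81
theorem D107 : act 5 n81 = n107 := rfl
theorem F278 : act 0 n107 = n83 := d4_1 D107 (iv D83) (iv F211)
theorem F279 : act 3 n107 = n82 := d13_1 D107 (iv D82) D81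
theorem F280 : act 4 n107 = n107 := d14_1 D107 (iv D107) F213
def n108 : Q := act 2 n83
theorem D108 : act 2 n83 = n108 := rfl
theorem F281 : act 3 n108 = n108 := d9_2 (iv F218) D108 (iv D108) F218 F163
theorem F282 : act 4 n108 = n108 := d10_2 F219 D108 (iv D108)
theorem F283 : act 5 n108 = n108 := d11_2 D83 D108 (iv D108) (iv D83) F160
def n109 : Q := act 3 n84
theorem D109 : act 3 n84 = n109 := rfl
theorem F284 : act 0 n109 = n85 := d2_1 D109 (iv D85) D84
theorem F285 : act 1 n109 = n109 := d6_1 D109 (iv D109) F220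
theorem F286 : act 5 n109 = n109 := d13_2 F223 D109 (iv D109)
def n110 : Q := act 2 n85
theorem D110 : act 2 n85 = n110 := rfl
theorem F287 : act 1 n110 = n110 := d5_1 D110 (iv D110) F224 F169 (iv F224)
theorem F288 : act 3 n110 = n110 := d9_2 D85 D110 (iv D110) (iv D85) F165
def n111 : Q := act 4 n85
theorem D111 : act 4 n85 = n111 := rfl
theorem F289 : act 1 n111 = n86 := d7_1 D111 (iv D86) (iv F224)
theorem F290 : act 3 n111 = n89 := d12_1 D111 (iv D89) (iv D65) (iv F166) D85
theorem F291 : act 5 n111 = n111 := d14_2 F225 D111 (iv D111)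
def n112 : Q := act 2 n87
theorem D112 : act 2 n87 = n112 := rfl
theorem F292 : act 0 n112 = n88 := d1_1 D112 (iv D88) (iv F230)
theorem F293 : act 3 n112 = n112 := d9_2 D87 D112 (iv D112) (iv D87) F172
def n113 : Q := act 4 n87
theorem D113 : act 4 n87 = n113 := rfl
theorem F294 : act 0 n113 = n89 := d3_1 D113 (iv D89) (iv F230)
theorem F295 : act 1 n113 = n113 := d7_1 D113 (iv D113) F231
theorem F296 : act 5 n113 = n113 := d14_2 F232 D113 (iv D113)
def n114 : Q := act 4 n88
theorem D114 : act 4 n88 = n114 := rfl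
theorem F297 : act 1 n114 = n92 := d7_1 D114 (iv D92) (iv F233)
theorem F298 : act 2 n114 = n89 := d10_1 D114 (iv D89) D88
def n115 : Q := act 5 n88
theorem D115 : act 5 n88 = n115 := rfl
theorem F299 : act 1 n115 = n93 := d8_1 D115 (iv D93) (iv F233)
theorem F300 : act 2 n115 = n115 := d11_1 D115 (iv D115) (iv D88) F175 D88
theorem F301 : act 3 n115 = n115 := d13_1 D115 (iv D115) F234
def n116 : Q := act 1 n90
theorem D116 : act 1 n90 = n116 := rfl
theorem F302 : act 2 n116 = n116 := d5_2 D90 D116 (iv D116) (iv D90) F180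
theorem F303 : act 3 n116 = n116 := d6_2 F238 D116 (iv D116)
def n117 : Q := act 4 n90
theorem D117 : act 4 n90 = n117 := rfl
theorem F304 : act 0 n117 = n92 := d3_1 D117 (iv D92) (iv F237)
theorem F305 : act 2 n117 = n91 := d10_1 D117 (iv D91) D90
def n118 : Q := act 5 n90
theorem D118 : act 5 n90 = n118 := rfl
theorem F306 : act 0 n118 = n93 := d4_1 D118 (iv D93) (iv F237)
theorem F307 : act 2 n118 = n96 := d11_1 D118 (iv D96) (iv D70) (iv F181) D90
theorem F308 : act 3 n118 = n118 := d13_1 D118 (iv D118) F238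
def n119 : Q := act 3 n92
theorem D119 : act 3 n92 = n119 := rfl
theorem F309 : act 2 n119 = n119 := d9_1 D119 (iv D119) F243 F184 (iv F243)
theorem F310 : act 4 n119 = n119 := d12_2 D92 D119 (iv D119) (iv D92) F182
def n120 : Q := act 5 n92
theorem D120 : act 5 n92 = n120 := rfl
theorem F311 : act 2 n120 = n98 := d11_1 D120 (iv D98) F192 (iv F185) (iv F243)
theorem F312 : act 4 n120 = n93 := d14_1 D120 (iv D93) D92
def n121 : Q := act 4 n94
theorem D121 : act 4 n94 = n121 := rfl
theorem F313 : act 0 n121 = n121 := d3_1 D121 (iv D121) F246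
theorem F314 : act 1 n121 = n95 := d7_1 D121 (iv D95) D94
theorem F315 : act 2 n121 = n121 := d10_1 D121 (iv D121) F247
def n122 : Q := act 5 n94
theorem D122 : act 5 n94 = n122 := rfl
theorem F316 : act 0 n122 = n122 := d4_1 D122 (iv D122) F246
theorem F317 : act 1 n122 = n96 := d8_1 D122 (iv D96) D94
theorem F318 : act 3 n122 = n100 := d13_1 D122 (iv D100) (iv F248)
def n123 : Q := act 3 n95
theorem D123 : act 3 n95 = n123 := rfl
theorem F319 : act 0 n123 = n97 := d2_1 D123 (iv D97) (iv F249)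
theorem F320 : act 2 n123 = n123 := d9_1 D123 (iv D123) F250 F190 (iv F250)
theorem F321 : act 4 n123 = n101 := d12_2 D95 D123 (iv D101) (iv D75) (iv F187)
def n124 : Q := act 5 n95
theorem D124 : act 5 n95 = n124 := rfl
theorem F322 : act 0 n124 = n98 := d4_1 D124 (iv D98) (iv F249)
theorem F323 : act 4 n124 = n96 := d14_1 D124 (iv D96) D95
def n125 : Q := act 5 n97
theorem D125 : act 5 n97 = n125 := rfl
theorem F324 : act 1 n125 = n125 := d8_1 D125 (iv D125) F253
theorem F325 : act 3 n125 = n98 := d13_1 D125 (iv D98) D97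
theorem F326 : act 4 n125 = n103 := d14_1 D125 (iv D103) (iv F255)
def n126 : Q := act 3 n99
theorem D126 : act 3 n99 = n126 := rfl
theorem F327 : act 0 n126 = n126 := d2_1 D126 (iv D126) F258
theorem F328 : act 1 n126 = n101 := d6_1 D126 (iv D101) (iv F259)
def n127 : Q := act 5 n99
theorem D127 : act 5 n99 = n127 := rfl
theorem F329 : act 0 n127 = n127 := d4_1 D127 (iv D127) F258
theorem F330 : act 1 n127 = n102 := d8_1 D127 (iv D102) (iv F259)
theorem F331 : act 4 n127 = n100 := d14_1 D127 (iv D100) D99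
def n128 : Q := act 2 n100
theorem D128 : act 2 n100 = n128 := rfl
theorem F332 : act 0 n128 = n128 := d1_1 D128 (iv D128) F261
theorem F333 : act 1 n128 = n128 := d5_1 D128 (iv D128) F262 F200 (iv F262)
theorem F334 : act 5 n128 = n106 := d11_2 D100 D128 (iv D106) (iv D80) (iv F196)
def n129 : Q := act 5 n101
theorem D129 : act 5 n101 = n129 := rfl
theorem F335 : act 0 n129 = n103 := d4_1 D129 (iv D103) (iv F263)
theorem F336 : act 3 n129 = n102 := d13_1 D129 (iv D102) D101
def n130 : Q := act 2 n103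
theorem D130 : act 2 n103 = n130 := rfl
theorem F337 : act 3 n130 = n130 := d9_2 (iv F269) D130 (iv D130) F269 F204
theorem F338 : act 5 n130 = n130 := d11_2 D103 D130 (iv D130) (iv D103) F202
def n131 : Q := act 2 n104
theorem D131 : act 2 n104 = n131 := rfl
theorem F339 : act 0 n131 = n131 := d1_1 D131 (iv D131) F270
theorem F340 : act 1 n131 = n131 := d5_1 D131 (iv D131) F271 F212 (iv F271)
theorem F341 : act 4 n131 = n131 := d10_2 F272 D131 (iv D131)
def n132 : Q := act 5 n104
theorem D132 : act 5 n104 = n132 := rfl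
theorem F342 : act 0 n132 = n132 := d4_1 D132 (iv D132) F270
theorem F343 : act 1 n132 = n107 := d8_1 D132 (iv D107) (iv F271)
theorem F344 : act 3 n132 = n105 := d13_1 D132 (iv D105) D104
theorem F345 : act 4 n132 = n132 := d14_1 D132 (iv D132) F272
def n133 : Q := act 2 n105
theorem D133 : act 2 n105 = n133 := rfl
theorem F346 : act 0 n133 = n133 := d1_1 D133 (iv D133) F273
theorem F347 : act 1 n133 = n133 := d5_1 D133 (iv D133) F274 F215 (iv F274)
theorem F348 : act 4 n133 = n106 := d10_2 (iv F275) D133 (iv D106)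
def n134 : Q := act 3 n106
theorem D134 : act 3 n106 = n134 := rfl
theorem F349 : act 0 n134 = n134 := d2_1 D134 (iv D134) F276
theorem F350 : act 1 n134 = n134 := d6_1 D134 (iv D134) F277
theorem F351 : act 2 n134 = n134 := d9_1 D134 (iv D134) (iv D106) F210 D106
def n135 : Q := act 2 n107
theorem D135 : act 2 n107 = n135 := rfl
theorem F352 : act 0 n135 = n108 := d1_1 D135 (iv D108) (iv F278)
theorem F353 : act 3 n135 = n135 := d9_2 (iv F279) D135 (iv D135) F279 F215
theorem F354 : act 4 n135 = n135 := d10_2 F280 D135 (iv D135)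
theorem F355 : act 5 n135 = n135 := d11_2 D107 D135 (iv D135) (iv D107) F212
def n136 : Q := act 1 n108
theorem D136 : act 1 n108 = n136 := rfl
theorem F356 : act 2 n136 = n136 := d5_2 D108 D136 (iv D136) (iv D108) F217
theorem F357 : act 3 n136 = n136 := d6_2 F281 D136 (iv D136)
theorem F358 : act 4 n136 = n136 := d7_2 F282 D136 (iv D136)
theorem F359 : act 5 n136 = n136 := d8_2 F283 D136 (iv D136)
def n137 : Q := act 2 n109
theorem D137 : act 2 n109 = n137 := rfl
theorem F360 : act 0 n137 = n110 := d1_1 D137 (iv D110) (iv F284)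
theorem F361 : act 3 n137 = n137 := d9_2 D109 D137 (iv D137) (iv D109) F221
def n138 : Q := act 4 n109
theorem D138 : act 4 n109 = n138 := rfl
theorem F362 : act 0 n138 = n111 := d3_1 D138 (iv D111) (iv F284)
theorem F363 : act 1 n138 = n138 := d7_1 D138 (iv D138) F285
theorem F364 : act 3 n138 = n113 := d12_1 D138 (iv D113) (iv D87) (iv F222) D109
theorem F365 : act 5 n138 = n138 := d14_2 F286 D138 (iv D138)
def n139 : Q := act 4 n110
theorem D139 : act 4 n110 = n139 := rfl
theorem F366 : act 1 n139 = n139 := d7_1 D139 (iv D139) F287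
theorem F367 : act 2 n139 = n111 := d10_1 D139 (iv D111) D110
def n140 : Q := act 5 n110
theorem D140 : act 5 n110 = n140 := rfl
theorem F368 : act 1 n140 = n140 := d8_1 D140 (iv D140) F287
theorem F369 : act 2 n140 = n140 := d11_1 D140 (iv D140) (iv D110) F225 D110
theorem F370 : act 3 n140 = n140 := d13_1 D140 (iv D140) F288
def n141 : Q := act 1 n112
theorem D141 : act 1 n112 = n141 := rfl
theorem F371 : act 0 n141 = n116 := d0_1 D141 (iv D116) F237 (iv F233) (iv F292)
theorem F372 : act 2 n141 = n141 := d5_2 D112 D141 (iv D141) (iv D112) F231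
theorem F373 : act 3 n141 = n141 := d6_2 F293 D141 (iv D141)
def n142 : Q := act 4 n112
theorem D142 : act 4 n112 = n142 := rfl
theorem F374 : act 0 n142 = n114 := d3_1 D142 (iv D114) (iv F292)
theorem F375 : act 2 n142 = n113 := d10_1 D142 (iv D113) D112
def n143 : Q := act 5 n112
theorem D143 : act 5 n112 = n143 := rfl
theorem F376 : act 0 n143 = n115 := d4_1 D143 (iv D115) (iv F292)
theorem F377 : act 2 n143 = n143 := d11_1 D143 (iv D143) (iv D112) F232 D112
theorem F378 : act 3 n143 = n143 := d13_1 D143 (iv D143) F293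
def n144 : Q := act 3 n114
theorem D144 : act 3 n114 = n144 := rfl
theorem F379 : act 1 n144 = n119 := d6_1 D144 (iv D119) (iv F297)
theorem F380 : act 4 n144 = n144 := d12_2 D114 D144 (iv D144) (iv D114) F234
def n145 : Q := act 5 n114
theorem D145 : act 5 n114 = n145 := rfl
theorem F381 : act 1 n145 = n120 := d8_1 D145 (iv D120) (iv F297)
theorem F382 : act 2 n145 = n145 := d11_1 D145 (iv D145) F298 F236 (iv F298)
theorem F383 : act 4 n145 = n115 := d14_1 D145 (iv D115) D114
def n146 : Q := act 4 n116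
theorem D146 : act 4 n116 = n146 := rfl
theorem F384 : act 1 n146 = n117 := d7_1 D146 (iv D117) D116
theorem F385 : act 2 n146 = n146 := d10_1 D146 (iv D146) F302
def n147 : Q := act 5 n116
theorem D147 : act 5 n116 = n147 := rfl
theorem F386 : act 1 n147 = n118 := d8_1 D147 (iv D118) D116
theorem F387 : act 3 n147 = n147 := d13_1 D147 (iv D147) F303
def n148 : Q := act 3 n117
theorem D148 : act 3 n117 = n148 := rfl
theorem F388 : act 0 n148 = n119 := d2_1 D148 (iv D119) (iv F304)
theorem F389 : act 2 n148 = n148 := d9_1 D148 (iv D148) F305 F241 (iv F305)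
theorem F390 : act 4 n148 = n148 := d12_2 D117 D148 (iv D148) (iv D117) F238
def n149 : Q := act 5 n117
theorem D149 : act 5 n117 = n149 := rfl
theorem F391 : act 0 n149 = n120 := d4_1 D149 (iv D120) (iv F304)
theorem F392 : act 2 n149 = n124 := d11_1 D149 (iv D124) F250 (iv F242) (iv F305)
theorem F393 : act 4 n149 = n118 := d14_1 D149 (iv D118) D117
def n150 : Q := act 5 n119
theorem D150 : act 5 n119 = n150 := rfl
theorem F394 : act 3 n150 = n120 := d13_1 D150 (iv D120) D119
theorem F395 : act 4 n150 = n150 := d14_1 D150 (iv D150) F310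
def n151 : Q := act 3 n121
theorem D151 : act 3 n121 = n151 := rfl
theorem F396 : act 0 n151 = n151 := d2_1 D151 (iv D151) F313
theorem F397 : act 1 n151 = n123 := d6_1 D151 (iv D123) (iv F314)
theorem F398 : act 4 n151 = n126 := d12_2 D121 D151 (iv D126) (iv D99) (iv F248)
def n152 : Q := act 5 n121
theorem D152 : act 5 n121 = n152 := rfl
theorem F399 : act 0 n152 = n152 := d4_1 D152 (iv D152) F313
theorem F400 : act 1 n152 = n124 := d8_1 D152 (iv D124) (iv F314)
theorem F401 : act 4 n152 = n122 := d14_1 D152 (iv D122) D121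
def n153 : Q := act 2 n122
theorem D153 : act 2 n122 = n153 := rfl
theorem F402 : act 0 n153 = n153 := d1_1 D153 (iv D153) F316
theorem F403 : act 5 n153 = n153 := d11_2 D122 D153 (iv D153) (iv D122) F247
def n154 : Q := act 5 n123
theorem D154 : act 5 n123 = n154 := rfl
theorem F404 : act 0 n154 = n125 := d4_1 D154 (iv D125) (iv F319)
theorem F405 : act 3 n154 = n124 := d13_1 D154 (iv D124) D123
theorem F406 : act 4 n154 = n129 := d14_1 D154 (iv D129) (iv F321)
def n155 : Q := act 2 n125
theorem D155 : act 2 n125 = n155 := rfl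
theorem F407 : act 4 n155 = n130 := d10_2 (iv F326) D155 (iv D130)
theorem F408 : act 5 n155 = n155 := d11_2 D125 D155 (iv D155) (iv D125) F254
def n156 : Q := act 2 n126
theorem D156 : act 2 n126 = n156 := rfl
theorem F409 : act 0 n156 = n156 := d1_1 D156 (iv D156) F327
theorem F410 : act 1 n156 = n156 := d5_1 D156 (iv D156) F328 F264 (iv F328)
theorem F411 : act 3 n156 = n131 := d9_2 D126 D156 (iv D131) (iv D104) (iv F260)
def n157 : Q := act 5 n126
theorem D157 : act 5 n126 = n157 := rfl
theorem F412 : act 0 n157 = n157 := d4_1 D157 (iv D157) F327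
theorem F413 : act 1 n157 = n129 := d8_1 D157 (iv D129) (iv F328)
theorem F414 : act 3 n157 = n127 := d13_1 D157 (iv D127) D126
def n158 : Q := act 2 n127
theorem D158 : act 2 n127 = n158 := rfl
theorem F415 : act 0 n158 = n158 := d1_1 D158 (iv D158) F329
theorem F416 : act 1 n158 = n158 := d5_1 D158 (iv D158) F330 F266 (iv F330)
theorem F417 : act 4 n158 = n128 := d10_2 (iv F331) D158 (iv D128)
theorem F418 : act 5 n158 = n133 := d11_2 D127 D158 (iv D133) (iv D105) (iv F260)
def n159 : Q := act 3 n128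
theorem D159 : act 3 n128 = n159 := rfl
theorem F419 : act 0 n159 = n159 := d2_1 D159 (iv D159) F332
theorem F420 : act 1 n159 = n159 := d6_1 D159 (iv D159) F333
theorem F421 : act 5 n159 = n134 := d13_2 (iv F334) D159 (iv D134)
def n160 : Q := act 2 n129
theorem D160 : act 2 n129 = n160 := rfl
theorem F422 : act 0 n160 = n130 := d1_1 D160 (iv D130) (iv F335)
theorem F423 : act 3 n160 = n160 := d9_2 (iv F336) D160 (iv D160) F336 F266
theorem F424 : act 5 n160 = n160 := d11_2 D129 D160 (iv D160) (iv D129) F264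
def n161 : Q := act 1 n130
theorem D161 : act 1 n130 = n161 := rfl
theorem F425 : act 2 n161 = n161 := d5_2 D130 D161 (iv D161) (iv D130) F268
theorem F426 : act 3 n161 = n161 := d6_2 F337 D161 (iv D161)
theorem F427 : act 5 n161 = n161 := d8_2 F338 D161 (iv D161)
def n162 : Q := act 5 n131
theorem D162 : act 5 n131 = n162 := rfl
theorem F428 : act 0 n162 = n162 := d4_1 D162 (iv D162) F339
theorem F429 : act 1 n162 = n162 := d8_1 D162 (iv D162) F340
theorem F430 : act 4 n162 = n162 := d14_1 D162 (iv D162) F341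
def n163 : Q := act 2 n132
theorem D163 : act 2 n132 = n163 := rfl
theorem F431 : act 0 n163 = n163 := d1_1 D163 (iv D163) F342
theorem F432 : act 4 n163 = n163 := d10_2 F345 D163 (iv D163)
def n164 : Q := act 3 n133
theorem D164 : act 3 n133 = n164 := rfl
theorem F433 : act 0 n164 = n164 := d2_1 D164 (iv D164) F346
theorem F434 : act 1 n164 = n164 := d6_1 D164 (iv D164) F347
def n165 : Q := act 4 n134
theorem D165 : act 4 n134 = n165 := rfl
theorem F435 : act 0 n165 = n165 := d3_1 D165 (iv D165) F349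
theorem F436 : act 1 n165 = n165 := d7_1 D165 (iv D165) F350
theorem F437 : act 2 n165 = n165 := d10_1 D165 (iv D165) F351
def n166 : Q := act 1 n135
theorem D166 : act 1 n135 = n166 := rfl
theorem F438 : act 3 n166 = n166 := d6_2 F353 D166 (iv D166)
theorem F439 : act 4 n166 = n166 := d7_2 F354 D166 (iv D166)
theorem F440 : act 5 n166 = n166 := d8_2 F355 D166 (iv D166)
def n167 : Q := act 0 n136
theorem D167 : act 0 n136 = n167 := rfl
theorem F441 : act 2 n167 = n167 := d1_2 F356 D167 (iv D167)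
theorem F442 : act 3 n167 = n167 := d2_2 F357 D167 (iv D167)
theorem F443 : act 4 n167 = n167 := d3_2 F358 D167 (iv D167)
theorem F444 : act 5 n167 = n167 := d4_2 F359 D167 (iv D167)
def n168 : Q := act 1 n137
theorem D168 : act 1 n137 = n168 := rfl
theorem F445 : act 0 n168 = n168 := d0_1 D168 (iv D168) F360 F287 (iv F360)
theorem F446 : act 2 n168 = n168 := d5_2 D137 D168 (iv D168) (iv D137) F285
theorem F447 : act 3 n168 = n168 := d6_2 F361 D168 (iv D168)
def n169 : Q := act 4 n137
theorem D169 : act 4 n137 = n169 := rfl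
theorem F448 : act 0 n169 = n139 := d3_1 D169 (iv D139) (iv F360)
theorem F449 : act 2 n169 = n138 := d10_1 D169 (iv D138) D137
def n170 : Q := act 5 n137
theorem D170 : act 5 n137 = n170 := rfl
theorem F450 : act 0 n170 = n140 := d4_1 D170 (iv D140) (iv F360)
theorem F451 : act 2 n170 = n170 := d11_1 D170 (iv D170) (iv D137) F286 D137
theorem F452 : act 3 n170 = n170 := d13_1 D170 (iv D170) F361
def n171 : Q := act 3 n139
theorem D171 : act 3 n139 = n171 := rfl
theorem F453 : act 1 n171 = n171 := d6_1 D171 (iv D171) F366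
theorem F454 : act 2 n171 = n144 := d9_1 D171 (iv D144) F298 (iv F290) (iv F367)
theorem F455 : act 4 n171 = n171 := d12_2 D139 D171 (iv D171) (iv D139) F288
def n172 : Q := act 5 n139
theorem D172 : act 5 n139 = n172 := rfl
theorem F456 : act 1 n172 = n172 := d8_1 D172 (iv D172) F366
theorem F457 : act 2 n172 = n172 := d11_1 D172 (iv D172) F367 F291 (iv F367)
theorem F458 : act 4 n172 = n140 := d14_1 D172 (iv D140) D139
def n173 : Q := act 4 n141
theorem D173 : act 4 n141 = n173 := rfl
theorem F459 : act 0 n173 = n146 := d3_1 D173 (iv D146) (iv F371)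
theorem F460 : act 1 n173 = n142 := d7_1 D173 (iv D142) D141
theorem F461 : act 2 n173 = n173 := d10_1 D173 (iv D173) F372
def n174 : Q := act 5 n141
theorem D174 : act 5 n141 = n174 := rfl
theorem F462 : act 0 n174 = n147 := d4_1 D174 (iv D147) (iv F371)
theorem F463 : act 1 n174 = n143 := d8_1 D174 (iv D143) D141
theorem F464 : act 3 n174 = n174 := d13_1 D174 (iv D174) F373
def n175 : Q := act 3 n142
theorem D175 : act 3 n142 = n175 := rfl
theorem F465 : act 0 n175 = n144 := d2_1 D175 (iv D144) (iv F374)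
theorem F466 : act 4 n175 = n175 := d12_2 D142 D175 (iv D175) (iv D142) F293
def n176 : Q := act 5 n142
theorem D176 : act 5 n142 = n176 := rfl
theorem F467 : act 0 n176 = n145 := d4_1 D176 (iv D145) (iv F374)
theorem F468 : act 2 n176 = n176 := d11_1 D176 (iv D176) F375 F296 (iv F375)
theorem F469 : act 4 n176 = n143 := d14_1 D176 (iv D143) D142
def n177 : Q := act 5 n144
theorem D177 : act 5 n144 = n177 := rfl
theorem F470 : act 1 n177 = n150 := d8_1 D177 (iv D150) (iv F379)
theorem F471 : act 3 n177 = n145 := d13_1 D177 (iv D145) D144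
theorem F472 : act 4 n177 = n177 := d14_1 D177 (iv D177) F380
def n178 : Q := act 3 n146
theorem D178 : act 3 n146 = n178 := rfl
theorem F473 : act 1 n178 = n148 := d6_1 D178 (iv D148) (iv F384)
theorem F474 : act 4 n178 = n178 := d12_2 D146 D178 (iv D178) (iv D146) F303
def n179 : Q := act 5 n146
theorem D179 : act 5 n146 = n179 := rfl
theorem F475 : act 1 n179 = n149 := d8_1 D179 (iv D149) (iv F384)
theorem F476 : act 4 n179 = n147 := d14_1 D179 (iv D147) D146
def n180 : Q := act 2 n147
theorem D180 : act 2 n147 = n180 := rfl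
theorem F477 : act 1 n180 = n153 := d5_1 D180 (iv D153) F317 (iv F307) (iv F386)
theorem F478 : act 5 n180 = n180 := d11_2 D147 D180 (iv D180) (iv D147) F302
def n181 : Q := act 5 n148
theorem D181 : act 5 n148 = n181 := rfl
theorem F479 : act 0 n181 = n150 := d4_1 D181 (iv D150) (iv F388)
theorem F480 : act 3 n181 = n149 := d13_1 D181 (iv D149) D148
theorem F481 : act 4 n181 = n181 := d14_1 D181 (iv D181) F390
def n182 : Q := act 2 n150
theorem D182 : act 2 n150 = n182 := rfl
theorem F482 : act 3 n182 = n155 := d9_2 (iv F394) D182 (iv D155) F325 (iv F311)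
theorem F483 : act 4 n182 = n182 := d10_2 F395 D182 (iv D182)
theorem F484 : act 5 n182 = n182 := d11_2 D150 D182 (iv D182) (iv D150) F309
def n183 : Q := act 2 n151
theorem D183 : act 2 n151 = n183 := rfl
theorem F485 : act 0 n183 = n183 := d1_1 D183 (iv D183) F396
theorem F486 : act 1 n183 = n183 := d5_1 D183 (iv D183) F397 F320 (iv F397)
theorem F487 : act 3 n183 = n183 := d9_2 D151 D183 (iv D183) (iv D151) F315
theorem F488 : act 4 n183 = n156 := d10_2 (iv F398) D183 (iv D156)
def n184 : Q := act 5 n151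
theorem D184 : act 5 n151 = n184 := rfl
theorem F489 : act 0 n184 = n184 := d4_1 D184 (iv D184) F396
theorem F490 : act 1 n184 = n154 := d8_1 D184 (iv D154) (iv F397)
theorem F491 : act 3 n184 = n152 := d13_1 D184 (iv D152) D151
theorem F492 : act 4 n184 = n157 := d14_1 D184 (iv D157) (iv F398)
def n185 : Q := act 2 n152
theorem D185 : act 2 n152 = n185 := rfl
theorem F493 : act 0 n185 = n185 := d1_1 D185 (iv D185) F399
theorem F494 : act 4 n185 = n153 := d10_2 (iv F401) D185 (iv D153)
theorem F495 : act 5 n185 = n185 := d11_2 D152 D185 (iv D185) (iv D152) F315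
def n186 : Q := act 3 n153
theorem D186 : act 3 n153 = n186 := rfl
theorem F496 : act 0 n186 = n186 := d2_1 D186 (iv D186) F402
theorem F497 : act 2 n186 = n159 := d9_1 D186 (iv D159) (iv D128) (iv F318) D153
theorem F498 : act 5 n186 = n186 := d13_2 F403 D186 (iv D186)
def n187 : Q := act 2 n154
theorem D187 : act 2 n154 = n187 := rfl
theorem F499 : act 0 n187 = n155 := d1_1 D187 (iv D155) (iv F404)
theorem F500 : act 4 n187 = n160 := d10_2 (iv F406) D187 (iv D160)
theorem F501 : act 5 n187 = n187 := d11_2 D154 D187 (iv D187) (iv D154) F320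
def n188 : Q := act 1 n155
theorem D188 : act 1 n155 = n188 := rfl
theorem F502 : act 2 n188 = n188 := d5_2 D155 D188 (iv D188) (iv D155) F324
theorem F503 : act 4 n188 = n161 := d7_2 (iv F407) D188 (iv D161)
theorem F504 : act 5 n188 = n188 := d8_2 F408 D188 (iv D188)
def n189 : Q := act 5 n156
theorem D189 : act 5 n156 = n189 := rfl
theorem F505 : act 0 n189 = n189 := d4_1 D189 (iv D189) F409
theorem F506 : act 1 n189 = n189 := d8_1 D189 (iv D189) F410
theorem F507 : act 3 n189 = n162 := d13_1 D189 (iv D162) (iv F411)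
def n190 : Q := act 2 n157
theorem D190 : act 2 n157 = n190 := rfl
theorem F508 : act 0 n190 = n190 := d1_1 D190 (iv D190) F412
def n191 : Q := act 3 n158
theorem D191 : act 3 n158 = n191 := rfl
theorem F509 : act 0 n191 = n191 := d2_1 D191 (iv D191) F415
theorem F510 : act 1 n191 = n191 := d6_1 D191 (iv D191) F416
theorem F511 : act 5 n191 = n164 := d13_2 (iv F418) D191 (iv D164)
def n192 : Q := act 4 n159
theorem D192 : act 4 n159 = n192 := rfl
theorem F512 : act 0 n192 = n192 := d3_1 D192 (iv D192) F419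
theorem F513 : act 1 n192 = n192 := d7_1 D192 (iv D192) F420
theorem F514 : act 5 n192 = n165 := d14_2 (iv F421) D192 (iv D165)
def n193 : Q := act 1 n160
theorem D193 : act 1 n160 = n193 := rfl
theorem F515 : act 3 n193 = n193 := d6_2 F423 D193 (iv D193)
theorem F516 : act 5 n193 = n193 := d8_2 F424 D193 (iv D193)
def n194 : Q := act 0 n161
theorem D194 : act 0 n161 = n194 := rfl
theorem F517 : act 2 n194 = n194 := d1_2 F425 D194 (iv D194)
theorem F518 : act 3 n194 = n194 := d2_2 F426 D194 (iv D194)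
theorem F519 : act 5 n194 = n194 := d4_2 F427 D194 (iv D194)
def n195 : Q := act 2 n162
theorem D195 : act 2 n162 = n195 := rfl
theorem F520 : act 0 n195 = n195 := d1_1 D195 (iv D195) F428
theorem F521 : act 4 n195 = n195 := d10_2 F430 D195 (iv D195)
theorem F522 : act 5 n195 = n163 := d11_2 D162 D195 (iv D163) (iv D132) D131
def n196 : Q := act 1 n163
theorem D196 : act 1 n163 = n196 := rfl
theorem F523 : act 2 n196 = n166 := d5_2 D163 D196 (iv D166) (iv D135) (iv F343)
theorem F524 : act 4 n196 = n196 := d7_2 F432 D196 (iv D196)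
def n197 : Q := act 3 n163
theorem D197 : act 3 n163 = n197 := rfl
theorem F525 : act 0 n197 = n197 := d2_1 D197 (iv D197) F431
theorem F526 : act 2 n197 = n164 := d9_1 D197 (iv D164) (iv D133) (iv F344) D163
def n198 : Q := act 4 n164
theorem D198 : act 4 n164 = n198 := rfl
theorem F527 : act 0 n198 = n198 := d3_1 D198 (iv D198) F433
theorem F528 : act 1 n198 = n198 := d7_1 D198 (iv D198) F434
theorem F529 : act 3 n198 = n165 := d12_1 D198 (iv D165) (iv D134) (iv F348) D164
def n199 : Q := act 0 n166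
theorem D199 : act 0 n166 = n199 := rfl
theorem F530 : act 1 n199 = n167 := d0_2 D166 D199 (iv D167) (iv D136) (iv F352)
theorem F531 : act 3 n199 = n199 := d2_2 F438 D199 (iv D199)
theorem F532 : act 4 n199 = n199 := d3_2 F439 D199 (iv D199)
theorem F533 : act 5 n199 = n199 := d4_2 F440 D199 (iv D199)
def n200 : Q := act 4 n168
theorem D200 : act 4 n168 = n200 := rfl
theorem F534 : act 0 n200 = n200 := d3_1 D200 (iv D200) F445
theorem F535 : act 1 n200 = n169 := d7_1 D200 (iv D169) D168
theorem F536 : act 2 n200 = n200 := d10_1 D200 (iv D200) F446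
def n201 : Q := act 5 n168
theorem D201 : act 5 n168 = n201 := rfl
theorem F537 : act 0 n201 = n201 := d4_1 D201 (iv D201) F445
theorem F538 : act 1 n201 = n170 := d8_1 D201 (iv D170) D168
theorem F539 : act 3 n201 = n201 := d13_1 D201 (iv D201) F447
def n202 : Q := act 3 n169
theorem D202 : act 3 n169 = n202 := rfl
theorem F540 : act 0 n202 = n171 := d2_1 D202 (iv D171) (iv F448)
theorem F541 : act 2 n202 = n175 := d9_1 D202 (iv D175) F375 (iv F364) (iv F449)
theorem F542 : act 4 n202 = n202 := d12_2 D169 D202 (iv D202) (iv D169) F361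
def n203 : Q := act 5 n169
theorem D203 : act 5 n169 = n203 := rfl
theorem F543 : act 0 n203 = n172 := d4_1 D203 (iv D172) (iv F448)
theorem F544 : act 2 n203 = n203 := d11_1 D203 (iv D203) F449 F365 (iv F449)
theorem F545 : act 4 n203 = n170 := d14_1 D203 (iv D170) D169
def n204 : Q := act 5 n171
theorem D204 : act 5 n171 = n204 := rfl
theorem F546 : act 1 n204 = n204 := d8_1 D204 (iv D204) F453
theorem F547 : act 3 n204 = n172 := d13_1 D204 (iv D172) D171
theorem F548 : act 4 n204 = n204 := d14_1 D204 (iv D204) F455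
def n205 : Q := act 3 n173
theorem D205 : act 3 n173 = n205 := rfl
theorem F549 : act 0 n205 = n178 := d2_1 D205 (iv D178) (iv F459)
theorem F550 : act 1 n205 = n175 := d6_1 D205 (iv D175) (iv F460)
theorem F551 : act 4 n205 = n205 := d12_2 D173 D205 (iv D205) (iv D173) F373
def n206 : Q := act 5 n173
theorem D206 : act 5 n173 = n206 := rfl
theorem F552 : act 0 n206 = n179 := d4_1 D206 (iv D179) (iv F459)
theorem F553 : act 1 n206 = n176 := d8_1 D206 (iv D176) (iv F460)
theorem F554 : act 4 n206 = n174 := d14_1 D206 (iv D174) D173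
def n207 : Q := act 2 n174
theorem D207 : act 2 n174 = n207 := rfl
theorem F555 : act 0 n207 = n180 := d1_1 D207 (iv D180) (iv F462)
theorem F556 : act 1 n207 = n207 := d5_1 D207 (iv D207) F463 F377 (iv F463)
theorem F557 : act 5 n207 = n207 := d11_2 D174 D207 (iv D207) (iv D174) F372
def n208 : Q := act 5 n175
theorem D208 : act 5 n175 = n208 := rfl
theorem F558 : act 0 n208 = n177 := d4_1 D208 (iv D177) (iv F465)
theorem F559 : act 3 n208 = n176 := d13_1 D208 (iv D176) D175
theorem F560 : act 4 n208 = n208 := d14_1 D208 (iv D208) F466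
def n209 : Q := act 2 n177
theorem D209 : act 2 n177 = n209 := rfl
theorem F561 : act 3 n209 = n209 := d9_2 (iv F471) D209 (iv D209) F471 F382
theorem F562 : act 4 n209 = n209 := d10_2 F472 D209 (iv D209)
def n210 : Q := act 2 n178
theorem D210 : act 2 n178 = n210 := rfl
theorem F563 : act 1 n210 = n210 := d5_1 D210 (iv D210) F473 F389 (iv F473)
theorem F564 : act 3 n210 = n210 := d9_2 D178 D210 (iv D210) (iv D178) F385
theorem F565 : act 4 n210 = n210 := d10_2 F474 D210 (iv D210)
def n211 : Q := act 5 n178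
theorem D211 : act 5 n178 = n211 := rfl
theorem F566 : act 1 n211 = n181 := d8_1 D211 (iv D181) (iv F473)
theorem F567 : act 3 n211 = n179 := d13_1 D211 (iv D179) D178
theorem F568 : act 4 n211 = n211 := d14_1 D211 (iv D211) F474
def n212 : Q := act 2 n179
theorem D212 : act 2 n179 = n212 := rfl
theorem F569 : act 1 n212 = n185 := d5_1 D212 (iv D185) F400 (iv F392) (iv F475)
theorem F570 : act 4 n212 = n180 := d10_2 (iv F476) D212 (iv D180)
theorem F571 : act 5 n212 = n212 := d11_2 D179 D212 (iv D212) (iv D179) F385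
def n213 : Q := act 3 n180
theorem D213 : act 3 n180 = n213 := rfl
theorem F572 : act 1 n213 = n186 := d6_1 D213 (iv D186) (iv F477)
theorem F573 : act 2 n213 = n213 := d9_1 D213 (iv D213) (iv D180) F387 D180
theorem F574 : act 5 n213 = n213 := d13_2 F478 D213 (iv D213)
def n214 : Q := act 2 n181
theorem D214 : act 2 n181 = n214 := rfl
theorem F575 : act 0 n214 = n182 := d1_1 D214 (iv D182) (iv F479)
theorem F576 : act 3 n214 = n187 := d9_2 (iv F480) D214 (iv D187) F405 (iv F392)
theorem F577 : act 4 n214 = n214 := d10_2 F481 D214 (iv D214)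
theorem F578 : act 5 n214 = n214 := d11_2 D181 D214 (iv D214) (iv D181) F389
def n215 : Q := act 1 n182
theorem D215 : act 1 n182 = n215 := rfl
theorem F579 : act 3 n215 = n188 := d6_2 (iv F482) D215 (iv D188)
theorem F580 : act 4 n215 = n215 := d7_2 F483 D215 (iv D215)
theorem F581 : act 5 n215 = n215 := d8_2 F484 D215 (iv D215)
def n216 : Q := act 5 n183
theorem D216 : act 5 n183 = n216 := rfl
theorem F582 : act 0 n216 = n216 := d4_1 D216 (iv D216) F485
theorem F583 : act 1 n216 = n216 := d8_1 D216 (iv D216) F486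
theorem F584 : act 3 n216 = n216 := d13_1 D216 (iv D216) F487
theorem F585 : act 4 n216 = n189 := d14_1 D216 (iv D189) (iv F488)
def n217 : Q := act 2 n184
theorem D217 : act 2 n184 = n217 := rfl
theorem F586 : act 0 n217 = n217 := d1_1 D217 (iv D217) F489
theorem F587 : act 4 n217 = n190 := d10_2 (iv F492) D217 (iv D190)
def n218 : Q := act 3 n185
theorem D218 : act 3 n185 = n218 := rfl
theorem F588 : act 0 n218 = n218 := d2_1 D218 (iv D218) F493
theorem F589 : act 5 n218 = n218 := d13_2 F495 D218 (iv D218)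
def n219 : Q := act 4 n186
theorem D219 : act 4 n186 = n219 := rfl
theorem F590 : act 0 n219 = n219 := d3_1 D219 (iv D219) F496
theorem F591 : act 2 n219 = n192 := d10_1 D219 (iv D192) (iv F497)
theorem F592 : act 5 n219 = n219 := d14_2 F498 D219 (iv D219)
def n220 : Q := act 1 n187
theorem D220 : act 1 n187 = n220 := rfl
theorem F593 : act 4 n220 = n193 := d7_2 (iv F500) D220 (iv D193)
theorem F594 : act 5 n220 = n220 := d8_2 F501 D220 (iv D220)
def n221 : Q := act 0 n188
theorem D221 : act 0 n188 = n221 := rfl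
theorem F595 : act 2 n221 = n221 := d1_2 F502 D221 (iv D221)
theorem F596 : act 4 n221 = n194 := d3_2 (iv F503) D221 (iv D194)
theorem F597 : act 5 n221 = n221 := d4_2 F504 D221 (iv D221)
def n222 : Q := act 2 n189
theorem D222 : act 2 n189 = n222 := rfl
theorem F598 : act 0 n222 = n222 := d1_1 D222 (iv D222) F505
theorem F599 : act 5 n222 = n190 := d11_2 D189 D222 (iv D190) (iv D157) D156
def n223 : Q := act 1 n190
theorem D223 : act 1 n190 = n223 := rfl
theorem F600 : act 2 n223 = n193 := d5_2 D190 D223 (iv D193) (iv D160) (iv F413)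
def n224 : Q := act 3 n190
theorem D224 : act 3 n190 = n224 := rfl
theorem F601 : act 0 n224 = n224 := d2_1 D224 (iv D224) F508
theorem F602 : act 2 n224 = n191 := d9_1 D224 (iv D191) (iv D158) (iv F414) D190
def n225 : Q := act 4 n191
theorem D225 : act 4 n191 = n225 := rfl
theorem F603 : act 0 n225 = n225 := d3_1 D225 (iv D225) F509
theorem F604 : act 1 n225 = n225 := d7_1 D225 (iv D225) F510
theorem F605 : act 3 n225 = n192 := d12_1 D225 (iv D192) (iv D159) (iv F417) D191
theorem F606 : act 5 n225 = n198 := d14_2 (iv F511) D225 (iv D198)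
def n226 : Q := act 0 n193
theorem D226 : act 0 n193 = n226 := rfl
theorem F607 : act 1 n226 = n194 := d0_2 D193 D226 (iv D194) (iv D161) (iv F422)
theorem F608 : act 3 n226 = n226 := d2_2 F515 D226 (iv D226)
theorem F609 : act 5 n226 = n226 := d4_2 F516 D226 (iv D226)
def n227 : Q := act 1 n195
theorem D227 : act 1 n195 = n227 := rfl
theorem F610 : act 2 n227 = n227 := d5_2 D195 D227 (iv D227) (iv D195) F429
theorem F611 : act 4 n227 = n227 := d7_2 F521 D227 (iv D227)
theorem F612 : act 5 n227 = n196 := d8_2 (iv F522) D227 (iv D196)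
def n228 : Q := act 3 n195
theorem D228 : act 3 n195 = n228 := rfl
theorem F613 : act 0 n228 = n228 := d2_1 D228 (iv D228) F520
theorem F614 : act 5 n228 = n197 := d13_2 (iv F522) D228 (iv D197)
def n229 : Q := act 0 n196
theorem D229 : act 0 n196 = n229 := rfl
theorem F615 : act 1 n229 = n229 := d0_2 D196 D229 (iv D229) (iv D196) F431
theorem F616 : act 2 n229 = n199 := d1_2 (iv F523) D229 (iv D199)
theorem F617 : act 4 n229 = n229 := d3_2 F524 D229 (iv D229)
def n230 : Q := act 3 n196
theorem D230 : act 3 n196 = n230 := rfl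
theorem F618 : act 1 n230 = n197 := d6_1 D230 (iv D197) D196
theorem F619 : act 2 n230 = n230 := d9_1 D230 (iv D230) F523 F438 (iv F523)
def n231 : Q := act 4 n197
theorem D231 : act 4 n197 = n231 := rfl
theorem F620 : act 0 n231 = n231 := d3_1 D231 (iv D231) F525
theorem F621 : act 2 n231 = n198 := d10_1 D231 (iv D198) (iv F526)
theorem F622 : act 3 n231 = n231 := d12_1 D231 (iv D231) (iv D197) F432 D197
def n232 : Q := act 3 n200
theorem D232 : act 3 n200 = n232 := rfl
theorem F623 : act 0 n232 = n232 := d2_1 D232 (iv D232) F534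
theorem F624 : act 1 n232 = n202 := d6_1 D232 (iv D202) (iv F535)
theorem F625 : act 4 n232 = n232 := d12_2 D200 D232 (iv D232) (iv D200) F447
def n233 : Q := act 5 n200
theorem D233 : act 5 n200 = n233 := rfl
theorem F626 : act 0 n233 = n233 := d4_1 D233 (iv D233) F534
theorem F627 : act 1 n233 = n203 := d8_1 D233 (iv D203) (iv F535)
theorem F628 : act 4 n233 = n201 := d14_1 D233 (iv D201) D200
def n234 : Q := act 2 n201
theorem D234 : act 2 n201 = n234 := rfl
theorem F629 : act 0 n234 = n234 := d1_1 D234 (iv D234) F537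
theorem F630 : act 1 n234 = n234 := d5_1 D234 (iv D234) F538 F451 (iv F538)
theorem F631 : act 5 n234 = n234 := d11_2 D201 D234 (iv D234) (iv D201) F446
def n235 : Q := act 5 n202
theorem D235 : act 5 n202 = n235 := rfl
theorem F632 : act 0 n235 = n204 := d4_1 D235 (iv D204) (iv F540)
theorem F633 : act 3 n235 = n203 := d13_1 D235 (iv D203) D202
theorem F634 : act 4 n235 = n235 := d14_1 D235 (iv D235) F542
def n236 : Q := act 2 n204
theorem D236 : act 2 n204 = n236 := rfl
theorem F635 : act 3 n236 = n236 := d9_2 (iv F547) D236 (iv D236) F547 F457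
theorem F636 : act 4 n236 = n236 := d10_2 F548 D236 (iv D236)
theorem F637 : act 5 n236 = n209 := d11_2 D204 D236 (iv D209) (iv D177) (iv F454)
def n237 : Q := act 2 n205
theorem D237 : act 2 n205 = n237 := rfl
theorem F638 : act 0 n237 = n210 := d1_1 D237 (iv D210) (iv F549)
theorem F639 : act 3 n237 = n237 := d9_2 D205 D237 (iv D237) (iv D205) F461
theorem F640 : act 4 n237 = n237 := d10_2 F551 D237 (iv D237)
def n238 : Q := act 5 n205
theorem D238 : act 5 n205 = n238 := rfl
theorem F641 : act 0 n238 = n211 := d4_1 D238 (iv D211) (iv F549)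
theorem F642 : act 1 n238 = n208 := d8_1 D238 (iv D208) (iv F550)
theorem F643 : act 3 n238 = n206 := d13_1 D238 (iv D206) D205
theorem F644 : act 4 n238 = n238 := d14_1 D238 (iv D238) F551
def n239 : Q := act 2 n206
theorem D239 : act 2 n206 = n239 := rfl
theorem F645 : act 0 n239 = n212 := d1_1 D239 (iv D212) (iv F552)
theorem F646 : act 1 n239 = n239 := d5_1 D239 (iv D239) F553 F468 (iv F553)
theorem F647 : act 4 n239 = n207 := d10_2 (iv F554) D239 (iv D207)
theorem F648 : act 5 n239 = n239 := d11_2 D206 D239 (iv D239) (iv D206) F461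
def n240 : Q := act 3 n207
theorem D240 : act 3 n207 = n240 := rfl
theorem F649 : act 0 n240 = n213 := d2_1 D240 (iv D213) (iv F555)
theorem F650 : act 1 n240 = n240 := d6_1 D240 (iv D240) F556
theorem F651 : act 2 n240 = n240 := d9_1 D240 (iv D240) (iv D207) F464 D207
theorem F652 : act 5 n240 = n240 := d13_2 F557 D240 (iv D240)
def n241 : Q := act 2 n208
theorem D241 : act 2 n208 = n241 := rfl
theorem F653 : act 0 n241 = n209 := d1_1 D241 (iv D209) (iv F558)
theorem F654 : act 3 n241 = n241 := d9_2 (iv F559) D241 (iv D241) F559 F468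
theorem F655 : act 4 n241 = n241 := d10_2 F560 D241 (iv D241)
def n242 : Q := act 1 n209
theorem D242 : act 1 n209 = n242 := rfl
theorem F656 : act 2 n242 = n215 := d5_2 D209 D242 (iv D215) (iv D182) (iv F470)
theorem F657 : act 3 n242 = n242 := d6_2 F561 D242 (iv D242)
theorem F658 : act 4 n242 = n242 := d7_2 F562 D242 (iv D242)
def n243 : Q := act 5 n210
theorem D243 : act 5 n210 = n243 := rfl
theorem F659 : act 1 n243 = n243 := d8_1 D243 (iv D243) F563
theorem F660 : act 3 n243 = n243 := d13_1 D243 (iv D243) F564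
theorem F661 : act 4 n243 = n243 := d14_1 D243 (iv D243) F565
def n244 : Q := act 2 n211
theorem D244 : act 2 n211 = n244 := rfl
theorem F662 : act 4 n244 = n244 := d10_2 F568 D244 (iv D244)
def n245 : Q := act 3 n212
theorem D245 : act 3 n212 = n245 := rfl
theorem F663 : act 1 n245 = n218 := d6_1 D245 (iv D218) (iv F569)
theorem F664 : act 5 n245 = n245 := d13_2 F571 D245 (iv D245)
def n246 : Q := act 4 n213
theorem D246 : act 4 n213 = n246 := rfl
theorem F665 : act 1 n246 = n219 := d7_1 D246 (iv D219) (iv F572)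
theorem F666 : act 2 n246 = n246 := d10_1 D246 (iv D246) F573
theorem F667 : act 5 n246 = n246 := d14_2 F574 D246 (iv D246)
def n247 : Q := act 1 n214
theorem D247 : act 1 n214 = n247 := rfl
theorem F668 : act 3 n247 = n220 := d6_2 (iv F576) D247 (iv D220)
theorem F669 : act 4 n247 = n247 := d7_2 F577 D247 (iv D247)
theorem F670 : act 5 n247 = n247 := d8_2 F578 D247 (iv D247)
def n248 : Q := act 0 n215
theorem D248 : act 0 n215 = n248 := rfl
theorem F671 : act 3 n248 = n221 := d2_2 (iv F579) D248 (iv D221)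
theorem F672 : act 4 n248 = n248 := d3_2 F580 D248 (iv D248)
theorem F673 : act 5 n248 = n248 := d4_2 F581 D248 (iv D248)
def n249 : Q := act 2 n216
theorem D249 : act 2 n216 = n249 := rfl
theorem F674 : act 0 n249 = n249 := d1_1 D249 (iv D249) F582
theorem F675 : act 4 n249 = n222 := d10_2 (iv F585) D249 (iv D222)
theorem F676 : act 5 n249 = n217 := d11_2 D216 D249 (iv D217) (iv D184) D183
def n250 : Q := act 1 n217
theorem D250 : act 1 n217 = n250 := rfl
theorem F677 : act 2 n250 = n220 := d5_2 D217 D250 (iv D220) (iv D187) (iv F490)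
theorem F678 : act 4 n250 = n223 := d7_2 (iv F587) D250 (iv D223)
def n251 : Q := act 3 n217
theorem D251 : act 3 n217 = n251 := rfl
theorem F679 : act 0 n251 = n251 := d2_1 D251 (iv D251) F586
theorem F680 : act 2 n251 = n218 := d9_1 D251 (iv D218) (iv D185) (iv F491) D217
def n252 : Q := act 4 n218
theorem D252 : act 4 n218 = n252 := rfl
theorem F681 : act 0 n252 = n252 := d3_1 D252 (iv D252) F588
theorem F682 : act 3 n252 = n219 := d12_1 D252 (iv D219) (iv D186) (iv F494) D218
theorem F683 : act 5 n252 = n252 := d14_2 F589 D252 (iv D252)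
def n253 : Q := act 0 n220
theorem D253 : act 0 n220 = n253 := rfl
theorem F684 : act 1 n253 = n221 := d0_2 D220 D253 (iv D221) (iv D188) (iv F499)
theorem F685 : act 4 n253 = n226 := d3_2 (iv F593) D253 (iv D226)
theorem F686 : act 5 n253 = n253 := d4_2 F594 D253 (iv D253)
def n254 : Q := act 1 n222
theorem D254 : act 1 n222 = n254 := rfl
theorem F687 : act 2 n254 = n254 := d5_2 D222 D254 (iv D254) (iv D222) F506
theorem F688 : act 5 n254 = n223 := d8_2 (iv F599) D254 (iv D223)
def n255 : Q := act 3 n222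
theorem D255 : act 3 n222 = n255 := rfl
theorem F689 : act 0 n255 = n255 := d2_1 D255 (iv D255) F598
theorem F690 : act 2 n255 = n228 := d9_1 D255 (iv D228) (iv D195) (iv F507) D222
theorem F691 : act 5 n255 = n224 := d13_2 (iv F599) D255 (iv D224)
def n256 : Q := act 0 n223
theorem D256 : act 0 n223 = n256 := rfl
theorem F692 : act 1 n256 = n256 := d0_2 D223 D256 (iv D256) (iv D223) F508
theorem F693 : act 2 n256 = n226 := d1_2 (iv F600) D256 (iv D226)
def n257 : Q := act 3 n223
theorem D257 : act 3 n223 = n257 := rfl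
theorem F694 : act 1 n257 = n224 := d6_1 D257 (iv D224) D223
theorem F695 : act 2 n257 = n257 := d9_1 D257 (iv D257) F600 F515 (iv F600)
def n258 : Q := act 4 n224
theorem D258 : act 4 n224 = n258 := rfl
theorem F696 : act 0 n258 = n258 := d3_1 D258 (iv D258) F601
theorem F697 : act 2 n258 = n225 := d10_1 D258 (iv D225) (iv F602)
def n259 : Q := act 0 n227
theorem D259 : act 0 n227 = n259 := rfl
theorem F698 : act 1 n259 = n259 := d0_2 D227 D259 (iv D259) (iv D227) F520
theorem F699 : act 2 n259 = n259 := d1_2 F610 D259 (iv D259)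
theorem F700 : act 4 n259 = n259 := d3_2 F611 D259 (iv D259)
theorem F701 : act 5 n259 = n229 := d4_2 (iv F612) D259 (iv D229)
def n260 : Q := act 3 n227
theorem D260 : act 3 n227 = n260 := rfl
theorem F702 : act 1 n260 = n228 := d6_1 D260 (iv D228) D227
theorem F703 : act 5 n260 = n230 := d13_2 (iv F612) D260 (iv D230)
def n261 : Q := act 4 n228
theorem D261 : act 4 n228 = n261 := rfl
theorem F704 : act 0 n261 = n261 := d3_1 D261 (iv D261) F613
theorem F705 : act 3 n261 = n261 := d12_1 D261 (iv D261) (iv D228) F521 D228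
theorem F706 : act 5 n261 = n231 := d14_2 (iv F614) D261 (iv D231)
def n262 : Q := act 3 n229
theorem D262 : act 3 n229 = n262 := rfl
theorem F707 : act 0 n262 = n230 := d2_1 D262 (iv D230) D229
theorem F708 : act 1 n262 = n262 := d6_1 D262 (iv D262) F615
theorem F709 : act 2 n262 = n262 := d9_1 D262 (iv D262) F616 F531 (iv F616)
def n263 : Q := act 4 n230
theorem D263 : act 4 n230 = n263 := rfl
theorem F710 : act 1 n263 = n231 := d7_1 D263 (iv D231) (iv F618)
theorem F711 : act 2 n263 = n263 := d10_1 D263 (iv D263) F619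
theorem F712 : act 3 n263 = n263 := d12_1 D263 (iv D263) (iv D230) F524 D230
def n264 : Q := act 2 n232
theorem D264 : act 2 n232 = n264 := rfl
theorem F713 : act 0 n264 = n264 := d1_1 D264 (iv D264) F623
theorem F714 : act 1 n264 = n237 := d5_1 D264 (iv D237) F550 (iv F541) (iv F624)
theorem F715 : act 3 n264 = n264 := d9_2 D232 D264 (iv D264) (iv D232) F536
theorem F716 : act 4 n264 = n264 := d10_2 F625 D264 (iv D264)
def n265 : Q := act 5 n232
theorem D265 : act 5 n232 = n265 := rfl
theorem F717 : act 0 n265 = n265 := d4_1 D265 (iv D265) F623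
theorem F718 : act 1 n265 = n235 := d8_1 D265 (iv D235) (iv F624)
theorem F719 : act 3 n265 = n233 := d13_1 D265 (iv D233) D232
theorem F720 : act 4 n265 = n265 := d14_1 D265 (iv D265) F625
def n266 : Q := act 2 n233
theorem D266 : act 2 n233 = n266 := rfl
theorem F721 : act 0 n266 = n266 := d1_1 D266 (iv D266) F626
theorem F722 : act 1 n266 = n266 := d5_1 D266 (iv D266) F627 F544 (iv F627)
theorem F723 : act 4 n266 = n234 := d10_2 (iv F628) D266 (iv D234)
theorem F724 : act 5 n266 = n266 := d11_2 D233 D266 (iv D266) (iv D233) F536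
def n267 : Q := act 3 n234
theorem D267 : act 3 n234 = n267 := rfl
theorem F725 : act 0 n267 = n267 := d2_1 D267 (iv D267) F629
theorem F726 : act 1 n267 = n267 := d6_1 D267 (iv D267) F630
theorem F727 : act 2 n267 = n267 := d9_1 D267 (iv D267) (iv D234) F539 D234
theorem F728 : act 5 n267 = n267 := d13_2 F631 D267 (iv D267)
def n268 : Q := act 2 n235
theorem D268 : act 2 n235 = n268 := rfl
theorem F729 : act 0 n268 = n236 := d1_1 D268 (iv D236) (iv F632)
theorem F730 : act 3 n268 = n268 := d9_2 (iv F633) D268 (iv D268) F633 F544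
theorem F731 : act 4 n268 = n268 := d10_2 F634 D268 (iv D268)
theorem F732 : act 5 n268 = n241 := d11_2 D235 D268 (iv D241) (iv D208) (iv F541)
def n269 : Q := act 1 n236
theorem D269 : act 1 n236 = n269 := rfl
theorem F733 : act 2 n269 = n269 := d5_2 D236 D269 (iv D269) (iv D236) F546
theorem F734 : act 3 n269 = n269 := d6_2 F635 D269 (iv D269)
theorem F735 : act 4 n269 = n269 := d7_2 F636 D269 (iv D269)
theorem F736 : act 5 n269 = n242 := d8_2 (iv F637) D269 (iv D242)
def n270 : Q := act 5 n237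
theorem D270 : act 5 n237 = n270 := rfl
theorem F737 : act 0 n270 = n243 := d4_1 D270 (iv D243) (iv F638)
theorem F738 : act 3 n270 = n270 := d13_1 D270 (iv D270) F639
theorem F739 : act 4 n270 = n270 := d14_1 D270 (iv D270) F640
def n271 : Q := act 2 n238
theorem D271 : act 2 n238 = n271 := rfl
theorem F740 : act 0 n271 = n244 := d1_1 D271 (iv D244) (iv F641)
theorem F741 : act 4 n271 = n271 := d10_2 F644 D271 (iv D271)
def n272 : Q := act 3 n239
theorem D272 : act 3 n239 = n272 := rfl
theorem F742 : act 0 n272 = n245 := d2_1 D272 (iv D245) (iv F645)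
theorem F743 : act 1 n272 = n272 := d6_1 D272 (iv D272) F646
theorem F744 : act 5 n272 = n272 := d13_2 F648 D272 (iv D272)
def n273 : Q := act 4 n240
theorem D273 : act 4 n240 = n273 := rfl
theorem F745 : act 0 n273 = n246 := d3_1 D273 (iv D246) (iv F649)
theorem F746 : act 1 n273 = n273 := d7_1 D273 (iv D273) F650
theorem F747 : act 2 n273 = n273 := d10_1 D273 (iv D273) F651
theorem F748 : act 5 n273 = n273 := d14_2 F652 D273 (iv D273)
def n274 : Q := act 1 n241
theorem D274 : act 1 n241 = n274 := rfl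
theorem F749 : act 3 n274 = n274 := d6_2 F654 D274 (iv D274)
theorem F750 : act 4 n274 = n274 := d7_2 F655 D274 (iv D274)
def n275 : Q := act 0 n242
theorem D275 : act 0 n242 = n275 := rfl
theorem F751 : act 2 n275 = n248 := d1_2 (iv F656) D275 (iv D248)
theorem F752 : act 3 n275 = n275 := d2_2 F657 D275 (iv D275)
theorem F753 : act 4 n275 = n275 := d3_2 F658 D275 (iv D275)
def n276 : Q := act 2 n243
theorem D276 : act 2 n243 = n276 := rfl
theorem F754 : act 4 n276 = n276 := d10_2 F661 D276 (iv D276)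
theorem F755 : act 5 n276 = n244 := d11_2 D243 D276 (iv D244) (iv D211) D210
def n277 : Q := act 1 n244
theorem D277 : act 1 n244 = n277 := rfl
theorem F756 : act 2 n277 = n247 := d5_2 D244 D277 (iv D247) (iv D214) (iv F566)
theorem F757 : act 4 n277 = n277 := d7_2 F662 D277 (iv D277)
def n278 : Q := act 3 n244
theorem D278 : act 3 n244 = n278 := rfl
theorem F758 : act 2 n278 = n245 := d9_1 D278 (iv D245) (iv D212) (iv F567) D244
def n279 : Q := act 4 n245
theorem D279 : act 4 n245 = n279 := rfl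
theorem F759 : act 1 n279 = n252 := d7_1 D279 (iv D252) (iv F663)
theorem F760 : act 3 n279 = n246 := d12_1 D279 (iv D246) (iv D213) (iv F570) D245
theorem F761 : act 5 n279 = n279 := d14_2 F664 D279 (iv D279)
def n280 : Q := act 0 n247
theorem D280 : act 0 n247 = n280 := rfl
theorem F762 : act 1 n280 = n248 := d0_2 D247 D280 (iv D248) (iv D215) (iv F575)
theorem F763 : act 3 n280 = n253 := d2_2 (iv F668) D280 (iv D253)
theorem F764 : act 4 n280 = n280 := d3_2 F669 D280 (iv D280)
theorem F765 : act 5 n280 = n280 := d4_2 F670 D280 (iv D280)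
def n281 : Q := act 1 n249
theorem D281 : act 1 n249 = n281 := rfl
theorem F766 : act 2 n281 = n281 := d5_2 D249 D281 (iv D281) (iv D249) F583
theorem F767 : act 4 n281 = n254 := d7_2 (iv F675) D281 (iv D254)
theorem F768 : act 5 n281 = n250 := d8_2 (iv F676) D281 (iv D250)
def n282 : Q := act 3 n249
theorem D282 : act 3 n249 = n282 := rfl
theorem F769 : act 0 n282 = n282 := d2_1 D282 (iv D282) F674
theorem F770 : act 2 n282 = n282 := d9_1 D282 (iv D282) (iv D249) F584 D249
theorem F771 : act 5 n282 = n251 := d13_2 (iv F676) D282 (iv D251)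
def n283 : Q := act 0 n250
theorem D283 : act 0 n250 = n283 := rfl
theorem F772 : act 1 n283 = n283 := d0_2 D250 D283 (iv D283) (iv D250) F586
theorem F773 : act 2 n283 = n253 := d1_2 (iv F677) D283 (iv D253)
theorem F774 : act 4 n283 = n256 := d3_2 (iv F678) D283 (iv D256)
def n284 : Q := act 3 n250
theorem D284 : act 3 n250 = n284 := rfl
theorem F775 : act 1 n284 = n251 := d6_1 D284 (iv D251) D250
def n285 : Q := act 4 n251
theorem D285 : act 4 n251 = n285 := rfl
theorem F776 : act 0 n285 = n285 := d3_1 D285 (iv D285) F679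
theorem F777 : act 2 n285 = n252 := d10_1 D285 (iv D252) (iv F680)
theorem F778 : act 3 n285 = n258 := d12_1 D285 (iv D258) (iv D224) (iv F587) D251
def n286 : Q := act 0 n254
theorem D286 : act 0 n254 = n286 := rfl
theorem F779 : act 1 n286 = n286 := d0_2 D254 D286 (iv D286) (iv D254) F598
theorem F780 : act 2 n286 = n286 := d1_2 F687 D286 (iv D286)
theorem F781 : act 5 n286 = n256 := d4_2 (iv F688) D286 (iv D256)
def n287 : Q := act 3 n254
theorem D287 : act 3 n254 = n287 := rfl
theorem F782 : act 1 n287 = n255 := d6_1 D287 (iv D255) D254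
theorem F783 : act 5 n287 = n257 := d13_2 (iv F688) D287 (iv D257)
def n288 : Q := act 4 n255
theorem D288 : act 4 n255 = n288 := rfl
theorem F784 : act 0 n288 = n288 := d3_1 D288 (iv D288) F689
theorem F785 : act 2 n288 = n261 := d10_1 D288 (iv D261) (iv F690)
theorem F786 : act 5 n288 = n258 := d14_2 (iv F691) D288 (iv D258)
def n289 : Q := act 3 n256
theorem D289 : act 3 n256 = n289 := rfl
theorem F787 : act 0 n289 = n257 := d2_1 D289 (iv D257) D256
theorem F788 : act 1 n289 = n289 := d6_1 D289 (iv D289) F692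
theorem F789 : act 2 n289 = n289 := d9_1 D289 (iv D289) F693 F608 (iv F693)
def n290 : Q := act 4 n257
theorem D290 : act 4 n257 = n290 := rfl
theorem F790 : act 1 n290 = n258 := d7_1 D290 (iv D258) (iv F694)
theorem F791 : act 2 n290 = n290 := d10_1 D290 (iv D290) F695
def n291 : Q := act 3 n259
theorem D291 : act 3 n259 = n291 := rfl
theorem F792 : act 0 n291 = n260 := d2_1 D291 (iv D260) D259
theorem F793 : act 1 n291 = n291 := d6_1 D291 (iv D291) F698
theorem F794 : act 5 n291 = n262 := d13_2 (iv F701) D291 (iv D262)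
def n292 : Q := act 2 n260
theorem D292 : act 2 n260 = n292 := rfl
theorem F795 : act 3 n292 = n292 := d9_2 D260 D292 (iv D292) (iv D260) F610
theorem F796 : act 5 n292 = n292 := d11_2 (iv F703) D292 (iv D292) F703 F619
def n293 : Q := act 4 n260
theorem D293 : act 4 n260 = n293 := rfl
theorem F797 : act 1 n293 = n261 := d7_1 D293 (iv D261) (iv F702)
theorem F798 : act 3 n293 = n293 := d12_1 D293 (iv D293) (iv D260) F611 D260
theorem F799 : act 5 n293 = n263 := d14_2 (iv F703) D293 (iv D263)
def n294 : Q := act 4 n262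
theorem D294 : act 4 n262 = n294 := rfl
theorem F800 : act 0 n294 = n263 := d3_1 D294 (iv D263) (iv F707)
theorem F801 : act 1 n294 = n294 := d7_1 D294 (iv D294) F708
theorem F802 : act 2 n294 = n294 := d10_1 D294 (iv D294) F709
theorem F803 : act 3 n294 = n294 := d12_1 D294 (iv D294) (iv D262) F617 D262
def n295 : Q := act 5 n264
theorem D295 : act 5 n264 = n295 := rfl
theorem F804 : act 0 n295 = n295 := d4_1 D295 (iv D295) F713
theorem F805 : act 1 n295 = n270 := d8_1 D295 (iv D270) (iv F714)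
theorem F806 : act 3 n295 = n295 := d13_1 D295 (iv D295) F715
theorem F807 : act 4 n295 = n295 := d14_1 D295 (iv D295) F716
def n296 : Q := act 2 n265
theorem D296 : act 2 n265 = n296 := rfl
theorem F808 : act 0 n296 = n296 := d1_1 D296 (iv D296) F717
theorem F809 : act 4 n296 = n296 := d10_2 F720 D296 (iv D296)
def n297 : Q := act 3 n266
theorem D297 : act 3 n266 = n297 := rfl
theorem F810 : act 0 n297 = n297 := d2_1 D297 (iv D297) F721
theorem F811 : act 1 n297 = n297 := d6_1 D297 (iv D297) F722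
theorem F812 : act 5 n297 = n297 := d13_2 F724 D297 (iv D297)
def n298 : Q := act 4 n267
theorem D298 : act 4 n267 = n298 := rfl
theorem F813 : act 0 n298 = n298 := d3_1 D298 (iv D298) F725
theorem F814 : act 1 n298 = n298 := d7_1 D298 (iv D298) F726
theorem F815 : act 2 n298 = n298 := d10_1 D298 (iv D298) F727
theorem F816 : act 5 n298 = n298 := d14_2 F728 D298 (iv D298)
def n299 : Q := act 1 n268
theorem D299 : act 1 n268 = n299 := rfl
theorem F817 : act 3 n299 = n299 := d6_2 F730 D299 (iv D299)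
theorem F818 : act 4 n299 = n299 := d7_2 F731 D299 (iv D299)
theorem F819 : act 5 n299 = n274 := d8_2 (iv F732) D299 (iv D274)
def n300 : Q := act 0 n269
theorem D300 : act 0 n269 = n300 := rfl
theorem F820 : act 2 n300 = n300 := d1_2 F733 D300 (iv D300)
theorem F821 : act 3 n300 = n300 := d2_2 F734 D300 (iv D300)
theorem F822 : act 4 n300 = n300 := d3_2 F735 D300 (iv D300)
theorem F823 : act 5 n300 = n275 := d4_2 (iv F736) D300 (iv D275)
def n301 : Q := act 2 n270
theorem D301 : act 2 n270 = n301 := rfl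
theorem F824 : act 0 n301 = n276 := d1_1 D301 (iv D276) (iv F737)
theorem F825 : act 4 n301 = n301 := d10_2 F739 D301 (iv D301)
theorem F826 : act 5 n301 = n271 := d11_2 D270 D301 (iv D271) (iv D238) D237
def n302 : Q := act 1 n271
theorem D302 : act 1 n271 = n302 := rfl
theorem F827 : act 2 n302 = n274 := d5_2 D271 D302 (iv D274) (iv D241) (iv F642)
theorem F828 : act 4 n302 = n302 := d7_2 F741 D302 (iv D302)
def n303 : Q := act 3 n271
theorem D303 : act 3 n271 = n303 := rfl
theorem F829 : act 0 n303 = n278 := d2_1 D303 (iv D278) (iv F740)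
theorem F830 : act 2 n303 = n272 := d9_1 D303 (iv D272) (iv D239) (iv F643) D271
def n304 : Q := act 4 n272
theorem D304 : act 4 n272 = n304 := rfl
theorem F831 : act 0 n304 = n279 := d3_1 D304 (iv D279) (iv F742)
theorem F832 : act 1 n304 = n304 := d7_1 D304 (iv D304) F743
theorem F833 : act 3 n304 = n273 := d12_1 D304 (iv D273) (iv D240) (iv F647) D272
theorem F834 : act 5 n304 = n304 := d14_2 F744 D304 (iv D304)
def n305 : Q := act 0 n274
theorem D305 : act 0 n274 = n305 := rfl
theorem F835 : act 1 n305 = n275 := d0_2 D274 D305 (iv D275) (iv D242) (iv F653)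
theorem F836 : act 3 n305 = n305 := d2_2 F749 D305 (iv D305)
theorem F837 : act 4 n305 = n305 := d3_2 F750 D305 (iv D305)
def n306 : Q := act 1 n276
theorem D306 : act 1 n276 = n306 := rfl
theorem F838 : act 2 n306 = n306 := d5_2 D276 D306 (iv D306) (iv D276) F659
theorem F839 : act 4 n306 = n306 := d7_2 F754 D306 (iv D306)
theorem F840 : act 5 n306 = n277 := d8_2 (iv F755) D306 (iv D277)
def n307 : Q := act 3 n276
theorem D307 : act 3 n276 = n307 := rfl
theorem F841 : act 2 n307 = n307 := d9_1 D307 (iv D307) (iv D276) F660 D276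
theorem F842 : act 5 n307 = n278 := d13_2 (iv F755) D307 (iv D278)
def n308 : Q := act 0 n277
theorem D308 : act 0 n277 = n308 := rfl
theorem F843 : act 2 n308 = n280 := d1_2 (iv F756) D308 (iv D280)
theorem F844 : act 4 n308 = n308 := d3_2 F757 D308 (iv D308)
def n309 : Q := act 3 n277
theorem D309 : act 3 n277 = n309 := rfl
theorem F845 : act 1 n309 = n278 := d6_1 D309 (iv D278) D277
theorem F846 : act 2 n309 = n284 := d9_1 D309 (iv D284) F677 (iv F668) (iv F756)
def n310 : Q := act 4 n278
theorem D310 : act 4 n278 = n310 := rfl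
theorem F847 : act 2 n310 = n279 := d10_1 D310 (iv D279) (iv F758)
theorem F848 : act 3 n310 = n310 := d12_1 D310 (iv D310) (iv D278) F662 D278
def n311 : Q := act 0 n281
theorem D311 : act 0 n281 = n311 := rfl
theorem F849 : act 1 n311 = n311 := d0_2 D281 D311 (iv D311) (iv D281) F674
theorem F850 : act 2 n311 = n311 := d1_2 F766 D311 (iv D311)
theorem F851 : act 4 n311 = n286 := d3_2 (iv F767) D311 (iv D286)
theorem F852 : act 5 n311 = n283 := d4_2 (iv F768) D311 (iv D283)
def n312 : Q := act 3 n281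
theorem D312 : act 3 n281 = n312 := rfl
theorem F853 : act 1 n312 = n282 := d6_1 D312 (iv D282) D281
theorem F854 : act 5 n312 = n284 := d13_2 (iv F768) D312 (iv D284)
def n313 : Q := act 4 n282
theorem D313 : act 4 n282 = n313 := rfl
theorem F855 : act 0 n313 = n313 := d3_1 D313 (iv D313) F769
theorem F856 : act 2 n313 = n313 := d10_1 D313 (iv D313) F770
theorem F857 : act 3 n313 = n288 := d12_1 D313 (iv D288) (iv D255) (iv F675) D282
theorem F858 : act 5 n313 = n285 := d14_2 (iv F771) D313 (iv D285)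
def n314 : Q := act 3 n283
theorem D314 : act 3 n283 = n314 := rfl
theorem F859 : act 0 n314 = n284 := d2_1 D314 (iv D284) D283
theorem F860 : act 1 n314 = n314 := d6_1 D314 (iv D314) F772
def n315 : Q := act 4 n284
theorem D315 : act 4 n284 = n315 := rfl
theorem F861 : act 1 n315 = n285 := d7_1 D315 (iv D285) (iv F775)
theorem F862 : act 3 n315 = n290 := d12_1 D315 (iv D290) (iv D257) (iv F678) D284
def n316 : Q := act 3 n286
theorem D316 : act 3 n286 = n316 := rfl
theorem F863 : act 0 n316 = n287 := d2_1 D316 (iv D287) D286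
theorem F864 : act 1 n316 = n316 := d6_1 D316 (iv D316) F779
theorem F865 : act 5 n316 = n289 := d13_2 (iv F781) D316 (iv D289)
def n317 : Q := act 2 n287
theorem D317 : act 2 n287 = n317 := rfl
theorem F866 : act 1 n317 = n292 := d5_1 D317 (iv D292) F702 (iv F690) (iv F782)
theorem F867 : act 3 n317 = n317 := d9_2 D287 D317 (iv D317) (iv D287) F687
theorem F868 : act 5 n317 = n317 := d11_2 (iv F783) D317 (iv D317) F783 F695
def n318 : Q := act 4 n287
theorem D318 : act 4 n287 = n318 := rfl
theorem F869 : act 1 n318 = n288 := d7_1 D318 (iv D288) (iv F782)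
theorem F870 : act 5 n318 = n290 := d14_2 (iv F783) D318 (iv D290)
def n319 : Q := act 4 n289
theorem D319 : act 4 n289 = n319 := rfl
theorem F871 : act 0 n319 = n290 := d3_1 D319 (iv D290) (iv F787)
theorem F872 : act 1 n319 = n319 := d7_1 D319 (iv D319) F788
theorem F873 : act 2 n319 = n319 := d10_1 D319 (iv D319) F789
def n320 : Q := act 2 n291
theorem D320 : act 2 n291 = n320 := rfl
theorem F874 : act 0 n320 = n292 := d1_1 D320 (iv D292) (iv F792)
theorem F875 : act 3 n320 = n320 := d9_2 D291 D320 (iv D320) (iv D291) F699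
theorem F876 : act 5 n320 = n320 := d11_2 (iv F794) D320 (iv D320) F794 F709
def n321 : Q := act 4 n291
theorem D321 : act 4 n291 = n321 := rfl
theorem F877 : act 0 n321 = n293 := d3_1 D321 (iv D293) (iv F792)
theorem F878 : act 1 n321 = n321 := d7_1 D321 (iv D321) F793
theorem F879 : act 3 n321 = n321 := d12_1 D321 (iv D321) (iv D291) F700 D291
theorem F880 : act 5 n321 = n294 := d14_2 (iv F794) D321 (iv D294)
def n322 : Q := act 4 n292
theorem D322 : act 4 n292 = n322 := rfl
theorem F881 : act 2 n322 = n293 := d10_1 D322 (iv D293) D292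
theorem F882 : act 5 n322 = n322 := d14_2 F796 D322 (iv D322)
def n323 : Q := act 2 n295
theorem D323 : act 2 n295 = n323 := rfl
theorem F883 : act 0 n323 = n323 := d1_1 D323 (iv D323) F804
theorem F884 : act 4 n323 = n323 := d10_2 F807 D323 (iv D323)
theorem F885 : act 5 n323 = n296 := d11_2 D295 D323 (iv D296) (iv D265) D264
def n324 : Q := act 1 n296
theorem D324 : act 1 n296 = n324 := rfl
theorem F886 : act 2 n324 = n299 := d5_2 D296 D324 (iv D299) (iv D268) (iv F718)
theorem F887 : act 4 n324 = n324 := d7_2 F809 D324 (iv D324)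
def n325 : Q := act 3 n296
theorem D325 : act 3 n296 = n325 := rfl
theorem F888 : act 0 n325 = n325 := d2_1 D325 (iv D325) F808
theorem F889 : act 2 n325 = n297 := d9_1 D325 (iv D297) (iv D266) (iv F719) D296
def n326 : Q := act 4 n297
theorem D326 : act 4 n297 = n326 := rfl
theorem F890 : act 0 n326 = n326 := d3_1 D326 (iv D326) F810
theorem F891 : act 1 n326 = n326 := d7_1 D326 (iv D326) F811
theorem F892 : act 3 n326 = n298 := d12_1 D326 (iv D298) (iv D267) (iv F723) D297
theorem F893 : act 5 n326 = n326 := d14_2 F812 D326 (iv D326)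
def n327 : Q := act 0 n299
theorem D327 : act 0 n299 = n327 := rfl
theorem F894 : act 1 n327 = n300 := d0_2 D299 D327 (iv D300) (iv D269) (iv F729)
theorem F895 : act 3 n327 = n327 := d2_2 F817 D327 (iv D327)
theorem F896 : act 4 n327 = n327 := d3_2 F818 D327 (iv D327)
theorem F897 : act 5 n327 = n305 := d4_2 (iv F819) D327 (iv D305)
def n328 : Q := act 1 n301
theorem D328 : act 1 n301 = n328 := rfl
theorem F898 : act 4 n328 = n328 := d7_2 F825 D328 (iv D328)
theorem F899 : act 5 n328 = n302 := d8_2 (iv F826) D328 (iv D302)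
def n329 : Q := act 3 n301
theorem D329 : act 3 n301 = n329 := rfl
theorem F900 : act 0 n329 = n307 := d2_1 D329 (iv D307) (iv F824)
theorem F901 : act 2 n329 = n329 := d9_1 D329 (iv D329) (iv D301) F738 D301
theorem F902 : act 5 n329 = n303 := d13_2 (iv F826) D329 (iv D303)
def n330 : Q := act 0 n302
theorem D330 : act 0 n302 = n330 := rfl
theorem F903 : act 1 n330 = n308 := d0_2 D302 D330 (iv D308) (iv D277) (iv F740)
theorem F904 : act 2 n330 = n305 := d1_2 (iv F827) D330 (iv D305)
theorem F905 : act 4 n330 = n330 := d3_2 F828 D330 (iv D330)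
def n331 : Q := act 3 n302
theorem D331 : act 3 n302 = n331 := rfl
theorem F906 : act 1 n331 = n303 := d6_1 D331 (iv D303) D302
theorem F907 : act 2 n331 = n331 := d9_1 D331 (iv D331) F827 F749 (iv F827)
def n332 : Q := act 4 n303
theorem D332 : act 4 n303 = n332 := rfl
theorem F908 : act 0 n332 = n310 := d3_1 D332 (iv D310) (iv F829)
theorem F909 : act 2 n332 = n304 := d10_1 D332 (iv D304) (iv F830)
theorem F910 : act 3 n332 = n332 := d12_1 D332 (iv D332) (iv D303) F741 D303
def n333 : Q := act 0 n306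
theorem D333 : act 0 n306 = n333 := rfl
theorem F911 : act 2 n333 = n333 := d1_2 F838 D333 (iv D333)
theorem F912 : act 4 n333 = n333 := d3_2 F839 D333 (iv D333)
theorem F913 : act 5 n333 = n308 := d4_2 (iv F840) D333 (iv D308)
def n334 : Q := act 3 n306
theorem D334 : act 3 n306 = n334 := rfl
theorem F914 : act 1 n334 = n307 := d6_1 D334 (iv D307) D306
theorem F915 : act 5 n334 = n309 := d13_2 (iv F840) D334 (iv D309)
def n335 : Q := act 4 n307
theorem D335 : act 4 n307 = n335 := rfl
theorem F916 : act 2 n335 = n335 := d10_1 D335 (iv D335) F841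
theorem F917 : act 3 n335 = n335 := d12_1 D335 (iv D335) (iv D307) F754 D307
theorem F918 : act 5 n335 = n310 := d14_2 (iv F842) D335 (iv D310)
def n336 : Q := act 3 n308
theorem D336 : act 3 n308 = n336 := rfl
theorem F919 : act 0 n336 = n309 := d2_1 D336 (iv D309) D308
theorem F920 : act 2 n336 = n314 := d9_1 D336 (iv D314) F773 (iv F763) (iv F843)
def n337 : Q := act 4 n309
theorem D337 : act 4 n309 = n337 := rfl
theorem F921 : act 1 n337 = n310 := d7_1 D337 (iv D310) (iv F845)
theorem F922 : act 2 n337 = n315 := d10_1 D337 (iv D315) (iv F846)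
theorem F923 : act 3 n337 = n337 := d12_1 D337 (iv D337) (iv D309) F757 D309
def n338 : Q := act 3 n311
theorem D338 : act 3 n311 = n338 := rfl
theorem F924 : act 0 n338 = n312 := d2_1 D338 (iv D312) D311
theorem F925 : act 1 n338 = n338 := d6_1 D338 (iv D338) F849
theorem F926 : act 5 n338 = n314 := d13_2 (iv F852) D338 (iv D314)
def n339 : Q := act 2 n312
theorem D339 : act 2 n312 = n339 := rfl
theorem F927 : act 1 n339 = n339 := d5_1 D339 (iv D339) F853 F770 (iv F853)
theorem F928 : act 3 n339 = n339 := d9_2 D312 D339 (iv D339) (iv D312) F766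
def n340 : Q := act 4 n312
theorem D340 : act 4 n312 = n340 := rfl
theorem F929 : act 1 n340 = n313 := d7_1 D340 (iv D313) (iv F853)
theorem F930 : act 3 n340 = n318 := d12_1 D340 (iv D318) (iv D287) (iv F767) D312
theorem F931 : act 5 n340 = n315 := d14_2 (iv F854) D340 (iv D315)
def n341 : Q := act 4 n314
theorem D341 : act 4 n314 = n341 := rfl
theorem F932 : act 0 n341 = n315 := d3_1 D341 (iv D315) (iv F859)
theorem F933 : act 1 n341 = n341 := d7_1 D341 (iv D341) F860
theorem F934 : act 3 n341 = n319 := d12_1 D341 (iv D319) (iv D289) (iv F774) D314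
def n342 : Q := act 2 n316
theorem D342 : act 2 n316 = n342 := rfl
theorem F935 : act 0 n342 = n317 := d1_1 D342 (iv D317) (iv F863)
theorem F936 : act 3 n342 = n342 := d9_2 D316 D342 (iv D342) (iv D316) F780
theorem F937 : act 5 n342 = n342 := d11_2 (iv F865) D342 (iv D342) F865 F789
def n343 : Q := act 4 n316
theorem D343 : act 4 n316 = n343 := rfl
theorem F938 : act 0 n343 = n318 := d3_1 D343 (iv D318) (iv F863)
theorem F939 : act 1 n343 = n343 := d7_1 D343 (iv D343) F864
theorem F940 : act 5 n343 = n319 := d14_2 (iv F865) D343 (iv D319)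
def n344 : Q := act 4 n317
theorem D344 : act 4 n317 = n344 := rfl
theorem F941 : act 1 n344 = n322 := d7_1 D344 (iv D322) (iv F866)
theorem F942 : act 2 n344 = n318 := d10_1 D344 (iv D318) D317
theorem F943 : act 5 n344 = n344 := d14_2 F868 D344 (iv D344)
def n345 : Q := act 1 n320
theorem D345 : act 1 n320 = n345 := rfl
theorem F944 : act 2 n345 = n345 := d5_2 D320 D345 (iv D345) (iv D320) F793
theorem F945 : act 3 n345 = n345 := d6_2 F875 D345 (iv D345)
theorem F946 : act 5 n345 = n345 := d8_2 F876 D345 (iv D345)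
def n346 : Q := act 4 n320
theorem D346 : act 4 n320 = n346 := rfl
theorem F947 : act 0 n346 = n322 := d3_1 D346 (iv D322) (iv F874)
theorem F948 : act 2 n346 = n321 := d10_1 D346 (iv D321) D320
theorem F949 : act 5 n346 = n346 := d14_2 F876 D346 (iv D346)
def n347 : Q := act 3 n322
theorem D347 : act 3 n322 = n347 := rfl
theorem F950 : act 2 n347 = n347 := d9_1 D347 (iv D347) F881 F798 (iv F881)
theorem F951 : act 4 n347 = n347 := d12_2 D322 D347 (iv D347) (iv D322) F795
theorem F952 : act 5 n347 = n347 := d13_2 F882 D347 (iv D347)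
def n348 : Q := act 1 n323
theorem D348 : act 1 n323 = n348 := rfl
theorem F953 : act 2 n348 = n328 := d5_2 D323 D348 (iv D328) (iv D301) (iv F805)
theorem F954 : act 4 n348 = n348 := d7_2 F884 D348 (iv D348)
theorem F955 : act 5 n348 = n324 := d8_2 (iv F885) D348 (iv D324)
def n349 : Q := act 3 n323
theorem D349 : act 3 n323 = n349 := rfl
theorem F956 : act 0 n349 = n349 := d2_1 D349 (iv D349) F883
theorem F957 : act 2 n349 = n349 := d9_1 D349 (iv D349) (iv D323) F806 D323
theorem F958 : act 5 n349 = n325 := d13_2 (iv F885) D349 (iv D325)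
def n350 : Q := act 0 n324
theorem D350 : act 0 n324 = n350 := rfl
theorem F959 : act 1 n350 = n350 := d0_2 D324 D350 (iv D350) (iv D324) F808
theorem F960 : act 2 n350 = n327 := d1_2 (iv F886) D350 (iv D327)
theorem F961 : act 4 n350 = n350 := d3_2 F887 D350 (iv D350)
def n351 : Q := act 3 n324
theorem D351 : act 3 n324 = n351 := rfl
theorem F962 : act 1 n351 = n325 := d6_1 D351 (iv D325) D324
theorem F963 : act 2 n351 = n351 := d9_1 D351 (iv D351) F886 F817 (iv F886)
def n352 : Q := act 4 n325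
theorem D352 : act 4 n325 = n352 := rfl
theorem F964 : act 0 n352 = n352 := d3_1 D352 (iv D352) F888
theorem F965 : act 2 n352 = n326 := d10_1 D352 (iv D326) (iv F889)
theorem F966 : act 3 n352 = n352 := d12_1 D352 (iv D352) (iv D325) F809 D325
def n353 : Q := act 0 n328
theorem D353 : act 0 n328 = n353 := rfl
theorem F967 : act 1 n353 = n333 := d0_2 D328 D353 (iv D333) (iv D306) (iv F824)
theorem F968 : act 4 n353 = n353 := d3_2 F898 D353 (iv D353)
theorem F969 : act 5 n353 = n330 := d4_2 (iv F899) D353 (iv D330)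
def n354 : Q := act 3 n328
theorem D354 : act 3 n328 = n354 := rfl
theorem F970 : act 1 n354 = n329 := d6_1 D354 (iv D329) D328
theorem F971 : act 5 n354 = n331 := d13_2 (iv F899) D354 (iv D331)
def n355 : Q := act 4 n329
theorem D355 : act 4 n329 = n355 := rfl
theorem F972 : act 0 n355 = n335 := d3_1 D355 (iv D335) (iv F900)
theorem F973 : act 2 n355 = n355 := d10_1 D355 (iv D355) F901
theorem F974 : act 3 n355 = n355 := d12_1 D355 (iv D355) (iv D329) F825 D329
theorem F975 : act 5 n355 = n332 := d14_2 (iv F902) D355 (iv D332)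
def n356 : Q := act 3 n330
theorem D356 : act 3 n330 = n356 := rfl
theorem F976 : act 0 n356 = n331 := d2_1 D356 (iv D331) D330
theorem F977 : act 1 n356 = n336 := d6_1 D356 (iv D336) (iv F903)
theorem F978 : act 2 n356 = n356 := d9_1 D356 (iv D356) F904 F836 (iv F904)
def n357 : Q := act 4 n331
theorem D357 : act 4 n331 = n357 := rfl
theorem F979 : act 1 n357 = n332 := d7_1 D357 (iv D332) (iv F906)
theorem F980 : act 2 n357 = n357 := d10_1 D357 (iv D357) F907
theorem F981 : act 3 n357 = n357 := d12_1 D357 (iv D357) (iv D331) F828 D331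
def n358 : Q := act 3 n333
theorem D358 : act 3 n333 = n358 := rfl
theorem F982 : act 0 n358 = n334 := d2_1 D358 (iv D334) D333
theorem F983 : act 5 n358 = n336 := d13_2 (iv F913) D358 (iv D336)
def n359 : Q := act 2 n334
theorem D359 : act 2 n334 = n359 := rfl
theorem F984 : act 1 n359 = n359 := d5_1 D359 (iv D359) F914 F841 (iv F914)
theorem F985 : act 3 n359 = n359 := d9_2 D334 D359 (iv D359) (iv D334) F838
theorem F986 : act 5 n359 = n339 := d11_2 (iv F915) D359 (iv D339) F854 (iv F846)
def n360 : Q := act 4 n334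
theorem D360 : act 4 n334 = n360 := rfl
theorem F987 : act 1 n360 = n335 := d7_1 D360 (iv D335) (iv F914)
theorem F988 : act 3 n360 = n360 := d12_1 D360 (iv D360) (iv D334) F839 D334
theorem F989 : act 5 n360 = n337 := d14_2 (iv F915) D360 (iv D337)
def n361 : Q := act 4 n336
theorem D361 : act 4 n336 = n361 := rfl
theorem F990 : act 0 n361 = n337 := d3_1 D361 (iv D337) (iv F919)
theorem F991 : act 2 n361 = n341 := d10_1 D361 (iv D341) (iv F920)
theorem F992 : act 3 n361 = n361 := d12_1 D361 (iv D361) (iv D336) F844 D336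
def n362 : Q := act 2 n338
theorem D362 : act 2 n338 = n362 := rfl
theorem F993 : act 0 n362 = n339 := d1_1 D362 (iv D339) (iv F924)
theorem F994 : act 3 n362 = n362 := d9_2 D338 D362 (iv D362) (iv D338) F850
def n363 : Q := act 4 n338
theorem D363 : act 4 n338 = n363 := rfl
theorem F995 : act 0 n363 = n340 := d3_1 D363 (iv D340) (iv F924)
theorem F996 : act 1 n363 = n363 := d7_1 D363 (iv D363) F925
theorem F997 : act 3 n363 = n343 := d12_1 D363 (iv D343) (iv D316) (iv F851) D338
theorem F998 : act 5 n363 = n341 := d14_2 (iv F926) D363 (iv D341)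
def n364 : Q := act 4 n339
theorem D364 : act 4 n339 = n364 := rfl
theorem F999 : act 1 n364 = n364 := d7_1 D364 (iv D364) F927
theorem F1000 : act 2 n364 = n340 := d10_1 D364 (iv D340) D339
def n365 : Q := act 1 n342
theorem D365 : act 1 n342 = n365 := rfl
theorem F1001 : act 0 n365 = n345 := d0_1 D365 (iv D345) F874 (iv F866) (iv F935)
theorem F1002 : act 2 n365 = n365 := d5_2 D342 D365 (iv D365) (iv D342) F864
theorem F1003 : act 3 n365 = n365 := d6_2 F936 D365 (iv D365)
theorem F1004 : act 5 n365 = n365 := d8_2 F937 D365 (iv D365)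
def n366 : Q := act 4 n342
theorem D366 : act 4 n342 = n366 := rfl
theorem F1005 : act 0 n366 = n344 := d3_1 D366 (iv D344) (iv F935)
theorem F1006 : act 2 n366 = n343 := d10_1 D366 (iv D343) D342
theorem F1007 : act 5 n366 = n366 := d14_2 F937 D366 (iv D366)
def n367 : Q := act 3 n344
theorem D367 : act 3 n344 = n367 := rfl
theorem F1008 : act 1 n367 = n347 := d6_1 D367 (iv D347) (iv F941)
theorem F1009 : act 4 n367 = n367 := d12_2 D344 D367 (iv D367) (iv D344) F867
theorem F1010 : act 5 n367 = n367 := d13_2 F943 D367 (iv D367)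
def n368 : Q := act 4 n345
theorem D368 : act 4 n345 = n368 := rfl
theorem F1011 : act 1 n368 = n346 := d7_1 D368 (iv D346) D345
theorem F1012 : act 2 n368 = n368 := d10_1 D368 (iv D368) F944
theorem F1013 : act 5 n368 = n368 := d14_2 F946 D368 (iv D368)
def n369 : Q := act 3 n346
theorem D369 : act 3 n346 = n369 := rfl
theorem F1014 : act 0 n369 = n347 := d2_1 D369 (iv D347) (iv F947)
theorem F1015 : act 2 n369 = n369 := d9_1 D369 (iv D369) F948 F879 (iv F948)
theorem F1016 : act 4 n369 = n369 := d12_2 D346 D369 (iv D369) (iv D346) F875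
theorem F1017 : act 5 n369 = n369 := d13_2 F949 D369 (iv D369)
def n370 : Q := act 0 n348
theorem D370 : act 0 n348 = n370 := rfl
theorem F1018 : act 1 n370 = n370 := d0_2 D348 D370 (iv D370) (iv D348) F883
theorem F1019 : act 2 n370 = n353 := d1_2 (iv F953) D370 (iv D353)
theorem F1020 : act 4 n370 = n370 := d3_2 F954 D370 (iv D370)
theorem F1021 : act 5 n370 = n350 := d4_2 (iv F955) D370 (iv D350)
def n371 : Q := act 3 n348
theorem D371 : act 3 n348 = n371 := rfl
theorem F1022 : act 1 n371 = n349 := d6_1 D371 (iv D349) D348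
theorem F1023 : act 5 n371 = n351 := d13_2 (iv F955) D371 (iv D351)
def n372 : Q := act 4 n349
theorem D372 : act 4 n349 = n372 := rfl
theorem F1024 : act 0 n372 = n372 := d3_1 D372 (iv D372) F956
theorem F1025 : act 2 n372 = n372 := d10_1 D372 (iv D372) F957
theorem F1026 : act 3 n372 = n372 := d12_1 D372 (iv D372) (iv D349) F884 D349
theorem F1027 : act 5 n372 = n352 := d14_2 (iv F958) D372 (iv D352)
def n373 : Q := act 3 n350
theorem D373 : act 3 n350 = n373 := rfl
theorem F1028 : act 0 n373 = n351 := d2_1 D373 (iv D351) D350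
theorem F1029 : act 1 n373 = n373 := d6_1 D373 (iv D373) F959
theorem F1030 : act 2 n373 = n373 := d9_1 D373 (iv D373) F960 F895 (iv F960)
def n374 : Q := act 4 n351
theorem D374 : act 4 n351 = n374 := rfl
theorem F1031 : act 1 n374 = n352 := d7_1 D374 (iv D352) (iv F962)
theorem F1032 : act 2 n374 = n374 := d10_1 D374 (iv D374) F963
theorem F1033 : act 3 n374 = n374 := d12_1 D374 (iv D374) (iv D351) F887 D351
def n375 : Q := act 3 n353
theorem D375 : act 3 n353 = n375 := rfl
theorem F1034 : act 0 n375 = n354 := d2_1 D375 (iv D354) D353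
theorem F1035 : act 1 n375 = n358 := d6_1 D375 (iv D358) (iv F967)
theorem F1036 : act 5 n375 = n356 := d13_2 (iv F969) D375 (iv D356)
def n376 : Q := act 2 n354
theorem D376 : act 2 n354 = n376 := rfl
theorem F1037 : act 1 n376 = n376 := d5_1 D376 (iv D376) F970 F901 (iv F970)
theorem F1038 : act 5 n376 = n376 := d11_2 (iv F971) D376 (iv D376) F971 F907
def n377 : Q := act 4 n354
theorem D377 : act 4 n354 = n377 := rfl
theorem F1039 : act 1 n377 = n355 := d7_1 D377 (iv D355) (iv F970)
theorem F1040 : act 3 n377 = n377 := d12_1 D377 (iv D377) (iv D354) F898 D354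
theorem F1041 : act 5 n377 = n357 := d14_2 (iv F971) D377 (iv D357)
def n378 : Q := act 4 n356
theorem D378 : act 4 n356 = n378 := rfl
theorem F1042 : act 0 n378 = n357 := d3_1 D378 (iv D357) (iv F976)
theorem F1043 : act 1 n378 = n361 := d7_1 D378 (iv D361) (iv F977)
theorem F1044 : act 2 n378 = n378 := d10_1 D378 (iv D378) F978
theorem F1045 : act 3 n378 = n378 := d12_1 D378 (iv D378) (iv D356) F905 D356
def n379 : Q := act 2 n358
theorem D379 : act 2 n358 = n379 := rfl
theorem F1046 : act 0 n379 = n359 := d1_1 D379 (iv D359) (iv F982)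
theorem F1047 : act 3 n379 = n379 := d9_2 D358 D379 (iv D379) (iv D358) F911
theorem F1048 : act 5 n379 = n362 := d11_2 (iv F983) D379 (iv D362) F926 (iv F920)
def n380 : Q := act 4 n358
theorem D380 : act 4 n358 = n380 := rfl
theorem F1049 : act 0 n380 = n360 := d3_1 D380 (iv D360) (iv F982)
theorem F1050 : act 3 n380 = n380 := d12_1 D380 (iv D380) (iv D358) F912 D358
theorem F1051 : act 5 n380 = n361 := d14_2 (iv F983) D380 (iv D361)
def n381 : Q := act 4 n359
theorem D381 : act 4 n359 = n381 := rfl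
theorem F1052 : act 1 n381 = n381 := d7_1 D381 (iv D381) F984
theorem F1053 : act 2 n381 = n360 := d10_1 D381 (iv D360) D359
theorem F1054 : act 5 n381 = n364 := d14_2 (iv F986) D381 (iv D364)
def n382 : Q := act 1 n362
theorem D382 : act 1 n362 = n382 := rfl
theorem F1055 : act 0 n382 = n382 := d0_1 D382 (iv D382) F993 F927 (iv F993)
theorem F1056 : act 2 n382 = n382 := d5_2 D362 D382 (iv D382) (iv D362) F925
theorem F1057 : act 3 n382 = n382 := d6_2 F994 D382 (iv D382)
def n383 : Q := act 4 n362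
theorem D383 : act 4 n362 = n383 := rfl
theorem F1058 : act 0 n383 = n364 := d3_1 D383 (iv D364) (iv F993)
theorem F1059 : act 2 n383 = n363 := d10_1 D383 (iv D363) D362
def n384 : Q := act 3 n364
theorem D384 : act 3 n364 = n384 := rfl
theorem F1060 : act 1 n384 = n384 := d6_1 D384 (iv D384) F999
theorem F1061 : act 2 n384 = n367 := d9_1 D384 (iv D367) F942 (iv F930) (iv F1000)
theorem F1062 : act 4 n384 = n384 := d12_2 D364 D384 (iv D384) (iv D364) F928
def n385 : Q := act 4 n365
theorem D385 : act 4 n365 = n385 := rfl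
theorem F1063 : act 0 n385 = n368 := d3_1 D385 (iv D368) (iv F1001)
theorem F1064 : act 1 n385 = n366 := d7_1 D385 (iv D366) D365
theorem F1065 : act 2 n385 = n385 := d10_1 D385 (iv D385) F1002
theorem F1066 : act 5 n385 = n385 := d14_2 F1004 D385 (iv D385)
def n386 : Q := act 3 n366
theorem D386 : act 3 n366 = n386 := rfl
theorem F1067 : act 0 n386 = n367 := d2_1 D386 (iv D367) (iv F1005)
theorem F1068 : act 4 n386 = n386 := d12_2 D366 D386 (iv D386) (iv D366) F936
theorem F1069 : act 5 n386 = n386 := d13_2 F1007 D386 (iv D386)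
def n387 : Q := act 3 n368
theorem D387 : act 3 n368 = n387 := rfl
theorem F1070 : act 1 n387 = n369 := d6_1 D387 (iv D369) (iv F1011)
theorem F1071 : act 4 n387 = n387 := d12_2 D368 D387 (iv D387) (iv D368) F945
theorem F1072 : act 5 n387 = n387 := d13_2 F1013 D387 (iv D387)
def n388 : Q := act 3 n370
theorem D388 : act 3 n370 = n388 := rfl
theorem F1073 : act 0 n388 = n371 := d2_1 D388 (iv D371) D370
theorem F1074 : act 1 n388 = n388 := d6_1 D388 (iv D388) F1018
theorem F1075 : act 5 n388 = n373 := d13_2 (iv F1021) D388 (iv D373)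
def n389 : Q := act 2 n371
theorem D389 : act 2 n371 = n389 := rfl
theorem F1076 : act 1 n389 = n389 := d5_1 D389 (iv D389) F1022 F957 (iv F1022)
theorem F1077 : act 3 n389 = n376 := d9_2 D371 D389 (iv D376) (iv D354) (iv F953)
theorem F1078 : act 5 n389 = n389 := d11_2 (iv F1023) D389 (iv D389) F1023 F963
def n390 : Q := act 4 n371
theorem D390 : act 4 n371 = n390 := rfl
theorem F1079 : act 1 n390 = n372 := d7_1 D390 (iv D372) (iv F1022)
theorem F1080 : act 3 n390 = n390 := d12_1 D390 (iv D390) (iv D371) F954 D371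
theorem F1081 : act 5 n390 = n374 := d14_2 (iv F1023) D390 (iv D374)
def n391 : Q := act 4 n373
theorem D391 : act 4 n373 = n391 := rfl
theorem F1082 : act 0 n391 = n374 := d3_1 D391 (iv D374) (iv F1028)
theorem F1083 : act 1 n391 = n391 := d7_1 D391 (iv D391) F1029
theorem F1084 : act 2 n391 = n391 := d10_1 D391 (iv D391) F1030
theorem F1085 : act 3 n391 = n391 := d12_1 D391 (iv D391) (iv D373) F961 D373
def n392 : Q := act 2 n375
theorem D392 : act 2 n375 = n392 := rfl
theorem F1086 : act 0 n392 = n376 := d1_1 D392 (iv D376) (iv F1034)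
theorem F1087 : act 5 n392 = n392 := d11_2 (iv F1036) D392 (iv D392) F1036 F978
def n393 : Q := act 4 n375
theorem D393 : act 4 n375 = n393 := rfl
theorem F1088 : act 0 n393 = n377 := d3_1 D393 (iv D377) (iv F1034)
theorem F1089 : act 1 n393 = n380 := d7_1 D393 (iv D380) (iv F1035)
theorem F1090 : act 3 n393 = n393 := d12_1 D393 (iv D393) (iv D375) F968 D375
theorem F1091 : act 5 n393 = n378 := d14_2 (iv F1036) D393 (iv D378)
def n394 : Q := act 4 n376
theorem D394 : act 4 n376 = n394 := rfl
theorem F1092 : act 1 n394 = n394 := d7_1 D394 (iv D394) F1037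
theorem F1093 : act 2 n394 = n377 := d10_1 D394 (iv D377) D376
theorem F1094 : act 5 n394 = n394 := d14_2 F1038 D394 (iv D394)
def n395 : Q := act 1 n379
theorem D395 : act 1 n379 = n395 := rfl
theorem F1095 : act 0 n395 = n395 := d0_1 D395 (iv D395) F1046 F984 (iv F1046)
theorem F1096 : act 3 n395 = n395 := d6_2 F1047 D395 (iv D395)
theorem F1097 : act 5 n395 = n382 := d8_2 (iv F1048) D395 (iv D382)
def n396 : Q := act 4 n379
theorem D396 : act 4 n379 = n396 := rfl
theorem F1098 : act 0 n396 = n381 := d3_1 D396 (iv D381) (iv F1046)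
theorem F1099 : act 2 n396 = n380 := d10_1 D396 (iv D380) D379
theorem F1100 : act 5 n396 = n383 := d14_2 (iv F1048) D396 (iv D383)
def n397 : Q := act 3 n381
theorem D397 : act 3 n381 = n397 := rfl
theorem F1101 : act 1 n397 = n397 := d6_1 D397 (iv D397) F1052
theorem F1102 : act 2 n397 = n397 := d9_1 D397 (iv D397) F1053 F988 (iv F1053)
theorem F1103 : act 4 n397 = n397 := d12_2 D381 D397 (iv D397) (iv D381) F985
theorem F1104 : act 5 n397 = n384 := d13_2 (iv F1054) D397 (iv D384)
def n398 : Q := act 4 n382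
theorem D398 : act 4 n382 = n398 := rfl
theorem F1105 : act 0 n398 = n398 := d3_1 D398 (iv D398) F1055
theorem F1106 : act 1 n398 = n383 := d7_1 D398 (iv D383) D382
theorem F1107 : act 2 n398 = n398 := d10_1 D398 (iv D398) F1056
def n399 : Q := act 3 n383
theorem D399 : act 3 n383 = n399 := rfl
theorem F1108 : act 0 n399 = n384 := d2_1 D399 (iv D384) (iv F1058)
theorem F1109 : act 2 n399 = n386 := d9_1 D399 (iv D386) F1006 (iv F997) (iv F1059)
theorem F1110 : act 4 n399 = n399 := d12_2 D383 D399 (iv D399) (iv D383) F994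
def n400 : Q := act 3 n385
theorem D400 : act 3 n385 = n400 := rfl
theorem F1111 : act 0 n400 = n387 := d2_1 D400 (iv D387) (iv F1063)
theorem F1112 : act 1 n400 = n386 := d6_1 D400 (iv D386) (iv F1064)
theorem F1113 : act 4 n400 = n400 := d12_2 D385 D400 (iv D400) (iv D385) F1003
theorem F1114 : act 5 n400 = n400 := d13_2 F1066 D400 (iv D400)
def n401 : Q := act 2 n387
theorem D401 : act 2 n387 = n401 := rfl
theorem F1115 : act 1 n401 = n401 := d5_1 D401 (iv D401) F1070 F1015 (iv F1070)
theorem F1116 : act 3 n401 = n401 := d9_2 D387 D401 (iv D401) (iv D387) F1012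
theorem F1117 : act 4 n401 = n401 := d10_2 F1071 D401 (iv D401)
def n402 : Q := act 2 n388
theorem D402 : act 2 n388 = n402 := rfl
theorem F1118 : act 0 n402 = n389 := d1_1 D402 (iv D389) (iv F1073)
theorem F1119 : act 3 n402 = n392 := d9_2 D388 D402 (iv D392) (iv D375) (iv F1019)
theorem F1120 : act 5 n402 = n402 := d11_2 (iv F1075) D402 (iv D402) F1075 F1030
def n403 : Q := act 4 n388
theorem D403 : act 4 n388 = n403 := rfl
theorem F1121 : act 0 n403 = n390 := d3_1 D403 (iv D390) (iv F1073)
theorem F1122 : act 1 n403 = n403 := d7_1 D403 (iv D403) F1074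
theorem F1123 : act 3 n403 = n403 := d12_1 D403 (iv D403) (iv D388) F1020 D388
theorem F1124 : act 5 n403 = n391 := d14_2 (iv F1075) D403 (iv D391)
def n404 : Q := act 4 n389
theorem D404 : act 4 n389 = n404 := rfl
theorem F1125 : act 1 n404 = n404 := d7_1 D404 (iv D404) F1076
theorem F1126 : act 2 n404 = n390 := d10_1 D404 (iv D390) D389
theorem F1127 : act 5 n404 = n404 := d14_2 F1078 D404 (iv D404)
def n405 : Q := act 1 n392
theorem D405 : act 1 n392 = n405 := rfl
theorem F1128 : act 0 n405 = n405 := d0_1 D405 (iv D405) F1086 F1037 (iv F1086)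
theorem F1129 : act 2 n405 = n395 := d5_2 D392 D405 (iv D395) (iv D379) (iv F1035)
theorem F1130 : act 5 n405 = n405 := d8_2 F1087 D405 (iv D405)
def n406 : Q := act 4 n392
theorem D406 : act 4 n392 = n406 := rfl
theorem F1131 : act 0 n406 = n394 := d3_1 D406 (iv D394) (iv F1086)
theorem F1132 : act 2 n406 = n393 := d10_1 D406 (iv D393) D392
theorem F1133 : act 5 n406 = n406 := d14_2 F1087 D406 (iv D406)
def n407 : Q := act 3 n394
theorem D407 : act 3 n394 = n407 := rfl
theorem F1134 : act 1 n407 = n407 := d6_1 D407 (iv D407) F1092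
theorem F1135 : act 2 n407 = n407 := d9_1 D407 (iv D407) F1093 F1040 (iv F1093)
theorem F1136 : act 5 n407 = n407 := d13_2 F1094 D407 (iv D407)
def n408 : Q := act 4 n395
theorem D408 : act 4 n395 = n408 := rfl
theorem F1137 : act 0 n408 = n408 := d3_1 D408 (iv D408) F1095
theorem F1138 : act 1 n408 = n396 := d7_1 D408 (iv D396) D395
theorem F1139 : act 5 n408 = n398 := d14_2 (iv F1097) D408 (iv D398)
def n409 : Q := act 3 n396
theorem D409 : act 3 n396 = n409 := rfl
theorem F1140 : act 0 n409 = n397 := d2_1 D409 (iv D397) (iv F1098)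
theorem F1141 : act 2 n409 = n409 := d9_1 D409 (iv D409) F1099 F1050 (iv F1099)
theorem F1142 : act 4 n409 = n409 := d12_2 D396 D409 (iv D409) (iv D396) F1047
theorem F1143 : act 5 n409 = n399 := d13_2 (iv F1100) D409 (iv D399)
def n410 : Q := act 3 n398
theorem D410 : act 3 n398 = n410 := rfl
theorem F1144 : act 0 n410 = n410 := d2_1 D410 (iv D410) F1105
theorem F1145 : act 1 n410 = n399 := d6_1 D410 (iv D399) (iv F1106)
theorem F1146 : act 4 n410 = n410 := d12_2 D398 D410 (iv D410) (iv D398) F1057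
def n411 : Q := act 2 n400
theorem D411 : act 2 n400 = n411 := rfl
theorem F1147 : act 0 n411 = n401 := d1_1 D411 (iv D401) (iv F1111)
theorem F1148 : act 3 n411 = n411 := d9_2 D400 D411 (iv D411) (iv D400) F1065
theorem F1149 : act 4 n411 = n411 := d10_2 F1113 D411 (iv D411)
def n412 : Q := act 5 n401
theorem D412 : act 5 n401 = n412 := rfl
theorem F1150 : act 1 n412 = n412 := d8_1 D412 (iv D412) F1115
theorem F1151 : act 2 n412 = n412 := d11_1 D412 (iv D412) (iv D401) F1072 D401
theorem F1152 : act 3 n412 = n412 := d13_1 D412 (iv D412) F1116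
theorem F1153 : act 4 n412 = n412 := d14_1 D412 (iv D412) F1117
def n413 : Q := act 1 n402
theorem D413 : act 1 n402 = n413 := rfl
theorem F1154 : act 0 n413 = n413 := d0_1 D413 (iv D413) F1118 F1076 (iv F1118)
theorem F1155 : act 2 n413 = n413 := d5_2 D402 D413 (iv D413) (iv D402) F1074
theorem F1156 : act 3 n413 = n405 := d6_2 (iv F1119) D413 (iv D405)
theorem F1157 : act 5 n413 = n413 := d8_2 F1120 D413 (iv D413)
def n414 : Q := act 4 n402
theorem D414 : act 4 n402 = n414 := rfl
theorem F1158 : act 0 n414 = n404 := d3_1 D414 (iv D404) (iv F1118)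
theorem F1159 : act 2 n414 = n403 := d10_1 D414 (iv D403) D402
theorem F1160 : act 5 n414 = n414 := d14_2 F1120 D414 (iv D414)
def n415 : Q := act 3 n404
theorem D415 : act 3 n404 = n415 := rfl
theorem F1161 : act 1 n415 = n415 := d6_1 D415 (iv D415) F1125
theorem F1162 : act 2 n415 = n415 := d9_1 D415 (iv D415) F1126 F1080 (iv F1126)
theorem F1163 : act 4 n415 = n407 := d12_2 D404 D415 (iv D407) (iv D394) (iv F1077)
theorem F1164 : act 5 n415 = n415 := d13_2 F1127 D415 (iv D415)
def n416 : Q := act 4 n405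
theorem D416 : act 4 n405 = n416 := rfl
theorem F1165 : act 0 n416 = n416 := d3_1 D416 (iv D416) F1128
theorem F1166 : act 1 n416 = n406 := d7_1 D416 (iv D406) D405
theorem F1167 : act 2 n416 = n408 := d10_1 D416 (iv D408) (iv F1129)
theorem F1168 : act 5 n416 = n416 := d14_2 F1130 D416 (iv D416)
def n417 : Q := act 3 n406
theorem D417 : act 3 n406 = n417 := rfl
theorem F1169 : act 0 n417 = n407 := d2_1 D417 (iv D407) (iv F1131)
theorem F1170 : act 2 n417 = n417 := d9_1 D417 (iv D417) F1132 F1090 (iv F1132)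
theorem F1171 : act 5 n417 = n417 := d13_2 F1133 D417 (iv D417)
def n418 : Q := act 3 n408
theorem D418 : act 3 n408 = n418 := rfl
theorem F1172 : act 0 n418 = n418 := d2_1 D418 (iv D418) F1137
theorem F1173 : act 1 n418 = n409 := d6_1 D418 (iv D409) (iv F1138)
theorem F1174 : act 4 n418 = n418 := d12_2 D408 D418 (iv D418) (iv D408) F1096
theorem F1175 : act 5 n418 = n410 := d13_2 (iv F1139) D418 (iv D410)
def n419 : Q := act 2 n410
theorem D419 : act 2 n410 = n419 := rfl
theorem F1176 : act 0 n419 = n419 := d1_1 D419 (iv D419) F1144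
theorem F1177 : act 1 n419 = n411 := d5_1 D419 (iv D411) F1112 (iv F1109) (iv F1145)
theorem F1178 : act 3 n419 = n419 := d9_2 D410 D419 (iv D419) (iv D410) F1107
theorem F1179 : act 4 n419 = n419 := d10_2 F1146 D419 (iv D419)
def n420 : Q := act 5 n411
theorem D420 : act 5 n411 = n420 := rfl
theorem F1180 : act 0 n420 = n412 := d4_1 D420 (iv D412) (iv F1147)
theorem F1181 : act 2 n420 = n420 := d11_1 D420 (iv D420) (iv D411) F1114 D411
theorem F1182 : act 3 n420 = n420 := d13_1 D420 (iv D420) F1148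
theorem F1183 : act 4 n420 = n420 := d14_1 D420 (iv D420) F1149
def n421 : Q := act 4 n413
theorem D421 : act 4 n413 = n421 := rfl
theorem F1184 : act 0 n421 = n421 := d3_1 D421 (iv D421) F1154
theorem F1185 : act 1 n421 = n414 := d7_1 D421 (iv D414) D413
theorem F1186 : act 2 n421 = n421 := d10_1 D421 (iv D421) F1155
theorem F1187 : act 5 n421 = n421 := d14_2 F1157 D421 (iv D421)
def n422 : Q := act 3 n414
theorem D422 : act 3 n414 = n422 := rfl
theorem F1188 : act 0 n422 = n415 := d2_1 D422 (iv D415) (iv F1158)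
theorem F1189 : act 2 n422 = n422 := d9_1 D422 (iv D422) F1159 F1123 (iv F1159)
theorem F1190 : act 4 n422 = n417 := d12_2 D414 D422 (iv D417) (iv D406) (iv F1119)
theorem F1191 : act 5 n422 = n422 := d13_2 F1160 D422 (iv D422)
def n423 : Q := act 3 n416
theorem D423 : act 3 n416 = n423 := rfl
theorem F1192 : act 0 n423 = n423 := d2_1 D423 (iv D423) F1165
theorem F1193 : act 1 n423 = n417 := d6_1 D423 (iv D417) (iv F1166)
theorem F1194 : act 5 n423 = n423 := d13_2 F1168 D423 (iv D423)
def n424 : Q := act 2 n418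
theorem D424 : act 2 n418 = n424 := rfl
theorem F1195 : act 0 n424 = n424 := d1_1 D424 (iv D424) F1172
theorem F1196 : act 1 n424 = n424 := d5_1 D424 (iv D424) F1173 F1141 (iv F1173)
theorem F1197 : act 4 n424 = n424 := d10_2 F1174 D424 (iv D424)
def n425 : Q := act 5 n419
theorem D425 : act 5 n419 = n425 := rfl
theorem F1198 : act 0 n425 = n425 := d4_1 D425 (iv D425) F1176
theorem F1199 : act 1 n425 = n420 := d8_1 D425 (iv D420) (iv F1177)
theorem F1200 : act 3 n425 = n425 := d13_1 D425 (iv D425) F1178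
theorem F1201 : act 4 n425 = n425 := d14_1 D425 (iv D425) F1179
def n426 : Q := act 3 n421
theorem D426 : act 3 n421 = n426 := rfl
theorem F1202 : act 0 n426 = n426 := d2_1 D426 (iv D426) F1184
theorem F1203 : act 1 n426 = n422 := d6_1 D426 (iv D422) (iv F1185)
theorem F1204 : act 4 n426 = n423 := d12_2 D421 D426 (iv D423) (iv D416) (iv F1156)
theorem F1205 : act 5 n426 = n426 := d13_2 F1187 D426 (iv D426)
def n427 : Q := act 2 n423
theorem D427 : act 2 n423 = n427 := rfl
theorem F1206 : act 0 n427 = n427 := d1_1 D427 (iv D427) F1192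
theorem F1207 : act 1 n427 = n427 := d5_1 D427 (iv D427) F1193 F1170 (iv F1193)
theorem F1208 : act 3 n427 = n424 := d9_2 D423 D427 (iv D424) (iv D418) (iv F1167)
def n428 : Q := act 5 n424
theorem D428 : act 5 n424 = n428 := rfl
theorem F1209 : act 0 n428 = n428 := d4_1 D428 (iv D428) F1195
theorem F1210 : act 1 n428 = n428 := d8_1 D428 (iv D428) F1196
theorem F1211 : act 2 n428 = n425 := d11_1 D428 (iv D425) (iv D419) (iv F1175) D424
theorem F1212 : act 4 n428 = n428 := d14_1 D428 (iv D428) F1197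
def n429 : Q := act 2 n426
theorem D429 : act 2 n426 = n429 := rfl
theorem F1213 : act 0 n429 = n429 := d1_1 D429 (iv D429) F1202
theorem F1214 : act 1 n429 = n429 := d5_1 D429 (iv D429) F1203 F1189 (iv F1203)
theorem F1215 : act 3 n429 = n429 := d9_2 D426 D429 (iv D429) (iv D426) F1186
theorem F1216 : act 4 n429 = n427 := d10_2 (iv F1204) D429 (iv D427)
def n430 : Q := act 5 n427
theorem D430 : act 5 n427 = n430 := rfl
theorem F1217 : act 0 n430 = n430 := d4_1 D430 (iv D430) F1206
theorem F1218 : act 1 n430 = n430 := d8_1 D430 (iv D430) F1207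
theorem F1219 : act 2 n430 = n430 := d11_1 D430 (iv D430) (iv D427) F1194 D427
theorem F1220 : act 3 n430 = n428 := d13_1 D430 (iv D428) (iv F1208)
def n431 : Q := act 5 n429
theorem D431 : act 5 n429 = n431 := rfl
theorem F1221 : act 0 n431 = n431 := d4_1 D431 (iv D431) F1213
theorem F1222 : act 1 n431 = n431 := d8_1 D431 (iv D431) F1214
theorem F1223 : act 2 n431 = n431 := d11_1 D431 (iv D431) (iv D429) F1205 D429
theorem F1224 : act 3 n431 = n431 := d13_1 D431 (iv D431) F1215
theorem F1225 : act 4 n431 = n430 := d14_1 D431 (iv D430) (iv F1216)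

end Cfsg.Agent.Helper17.FiQ3TC
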