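import Cfsg.Agent.Helper17.FiQ3TC.Final

set_option autoImplicit false
set_option linter.all false
set_option maxRecDepth 100000

noncomputable section

namespace Cfsg.Agent.Helper17.FiQ3TC

theorem N1 : nd 1 = n1 := ndS (p := 0) (l := 0) rfl N0 D1
theorem N2 : nd 2 = n2 := ndS (p := 0) (l := 5) rfl N0 D2
theorem N3 : nd 3 = n3 := ndS (p := 1) (l := 1) rfl N1 D3
theorem N4 : nd 4 = n4 := ndS (p := 1) (l := 5) rfl N1 D4
theorem N5 : nd 5 = n5 := ndS (p := 2) (l := 2) rfl N2 D5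
theorem N6 : nd 6 = n6 := ndS (p := 3) (l := 2) rfl N3 D6
theorem N7 : nd 7 = n7 := ndS (p := 3) (l := 5) rfl N3 D7
theorem N8 : nd 8 = n8 := ndS (p := 4) (l := 2) rfl N4 D8
theorem N9 : nd 9 = n9 := ndS (p := 5) (l := 1) rfl N5 D9
theorem N10 : nd 10 = n10 := ndS (p := 5) (l := 3) rfl N5 D10
theorem N11 : nd 11 = n11 := ndS (p := 6) (l := 3) rfl N6 D11
theorem N12 : nd 12 = n12 := ndS (p := 6) (l := 5) rfl N6 D12
theorem N13 : nd 13 = n13 := ndS (p := 7) (l := 2) rfl N7 D13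
theorem N14 : nd 14 = n14 := ndS (p := 8) (l := 1) rfl N8 D14
theorem N15 : nd 15 = n15 := ndS (p := 8) (l := 3) rfl N8 D15
theorem N16 : nd 16 = n16 := ndS (p := 9) (l := 0) rfl N9 D16
theorem N17 : nd 17 = n17 := ndS (p := 9) (l := 3) rfl N9 D17
theorem N18 : nd 18 = n18 := ndS (p := 10) (l := 4) rfl N10 D18
theorem N19 : nd 19 = n19 := ndS (p := 11) (l := 4) rfl N11 D19
theorem N20 : nd 20 = n20 := ndS (p := 11) (l := 5) rfl N11 D20
theorem N21 : nd 21 = n21 := ndS (p := 12) (l := 2) rfl N12 D21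
theorem N22 : nd 22 = n22 := ndS (p := 13) (l := 1) rfl N13 D22
theorem N23 : nd 23 = n23 := ndS (p := 13) (l := 3) rfl N13 D23
theorem N24 : nd 24 = n24 := ndS (p := 14) (l := 0) rfl N14 D24
theorem N25 : nd 25 = n25 := ndS (p := 14) (l := 3) rfl N14 D25
theorem N26 : nd 26 = n26 := ndS (p := 15) (l := 4) rfl N15 D26
theorem N27 : nd 27 = n27 := ndS (p := 16) (l := 3) rfl N16 D27
theorem N28 : nd 28 = n28 := ndS (p := 17) (l := 2) rfl N17 D28
theorem N29 : nd 29 = n29 := ndS (p := 17) (l := 4) rfl N17 D29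
theorem N30 : nd 30 = n30 := ndS (p := 19) (l := 5) rfl N19 D30
theorem N31 : nd 31 = n31 := ndS (p := 20) (l := 2) rfl N20 D31
theorem N32 : nd 32 = n32 := ndS (p := 21) (l := 1) rfl N21 D32
theorem N33 : nd 33 = n33 := ndS (p := 21) (l := 3) rfl N21 D33
theorem N34 : nd 34 = n34 := ndS (p := 22) (l := 0) rfl N22 D34
theorem N35 : nd 35 = n35 := ndS (p := 22) (l := 3) rfl N22 D35
theorem N36 : nd 36 = n36 := ndS (p := 23) (l := 4) rfl N23 D36
theorem N37 : nd 37 = n37 := ndS (p := 24) (l := 3) rfl N24 D37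
theorem N38 : nd 38 = n38 := ndS (p := 25) (l := 2) rfl N25 D38
theorem N39 : nd 39 = n39 := ndS (p := 25) (l := 4) rfl N25 D39
theorem N40 : nd 40 = n40 := ndS (p := 27) (l := 2) rfl N27 D40
theorem N41 : nd 41 = n41 := ndS (p := 27) (l := 4) rfl N27 D41
theorem N42 : nd 42 = n42 := ndS (p := 28) (l := 4) rfl N28 D42
theorem N43 : nd 43 = n43 := ndS (p := 28) (l := 5) rfl N28 D43
theorem N44 : nd 44 = n44 := ndS (p := 30) (l := 2) rfl N30 D44
theorem N45 : nd 45 = n45 := ndS (p := 31) (l := 1) rfl N31 D45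
theorem N46 : nd 46 = n46 := ndS (p := 31) (l := 3) rfl N31 D46
theorem N47 : nd 47 = n47 := ndS (p := 32) (l := 0) rfl N32 D47
theorem N48 : nd 48 = n48 := ndS (p := 32) (l := 3) rfl N32 D48
theorem N49 : nd 49 = n49 := ndS (p := 33) (l := 4) rfl N33 D49
theorem N50 : nd 50 = n50 := ndS (p := 34) (l := 3) rfl N34 D50
theorem N51 : nd 51 = n51 := ndS (p := 35) (l := 2) rfl N35 D51
theorem N52 : nd 52 = n52 := ndS (p := 35) (l := 4) rfl N35 D52
theorem N53 : nd 53 = n53 := ndS (p := 37) (l := 2) rfl N37 D53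
theorem N54 : nd 54 = n54 := ndS (p := 37) (l := 4) rfl N37 D54
theorem N55 : nd 55 = n55 := ndS (p := 38) (l := 4) rfl N38 D55
theorem N56 : nd 56 = n56 := ndS (p := 38) (l := 5) rfl N38 D56
theorem N57 : nd 57 = n57 := ndS (p := 40) (l := 1) rfl N40 D57
theorem N58 : nd 58 = n58 := ndS (p := 40) (l := 4) rfl N40 D58
theorem N59 : nd 59 = n59 := ndS (p := 40) (l := 5) rfl N40 D59
theorem N60 : nd 60 = n60 := ndS (p := 42) (l := 3) rfl N42 D60
theorem N61 : nd 61 = n61 := ndS (p := 42) (l := 5) rfl N42 D61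
theorem N62 : nd 62 = n62 := ndS (p := 44) (l := 1) rfl N44 D62
theorem N63 : nd 63 = n63 := ndS (p := 44) (l := 3) rfl N44 D63
theorem N64 : nd 64 = n64 := ndS (p := 45) (l := 0) rfl N45 D64
theorem N65 : nd 65 = n65 := ndS (p := 45) (l := 3) rfl N45 D65
theorem N66 : nd 66 = n66 := ndS (p := 46) (l := 4) rfl N46 D66
theorem N67 : nd 67 = n67 := ndS (p := 47) (l := 3) rfl N47 D67
theorem N68 : nd 68 = n68 := ndS (p := 48) (l := 2) rfl N48 D68
theorem N69 : nd 69 = n69 := ndS (p := 48) (l := 4) rfl N48 D69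
theorem N70 : nd 70 = n70 := ndS (p := 50) (l := 2) rfl N50 D70
theorem N71 : nd 71 = n71 := ndS (p := 50) (l := 4) rfl N50 D71
theorem N72 : nd 72 = n72 := ndS (p := 51) (l := 4) rfl N51 D72
theorem N73 : nd 73 = n73 := ndS (p := 51) (l := 5) rfl N51 D73
theorem N74 : nd 74 = n74 := ndS (p := 53) (l := 1) rfl N53 D74
theorem N75 : nd 75 = n75 := ndS (p := 53) (l := 4) rfl N53 D75
theorem N76 : nd 76 = n76 := ndS (p := 53) (l := 5) rfl N53 D76
theorem N77 : nd 77 = n77 := ndS (p := 55) (l := 3) rfl N55 D77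
theorem N78 : nd 78 = n78 := ndS (p := 55) (l := 5) rfl N55 D78
theorem N79 : nd 79 = n79 := ndS (p := 57) (l := 4) rfl N57 D79
theorem N80 : nd 80 = n80 := ndS (p := 57) (l := 5) rfl N57 D80
theorem N81 : nd 81 = n81 := ndS (p := 58) (l := 3) rfl N58 D81
theorem N82 : nd 82 = n82 := ndS (p := 58) (l := 5) rfl N58 D82
theorem N83 : nd 83 = n83 := ndS (p := 60) (l := 5) rfl N60 D83
theorem N84 : nd 84 = n84 := ndS (p := 62) (l := 0) rfl N62 D84
theorem N85 : nd 85 = n85 := ndS (p := 62) (l := 3) rfl N62 D85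
theorem N86 : nd 86 = n86 := ndS (p := 63) (l := 4) rfl N63 D86
theorem N87 : nd 87 = n87 := ndS (p := 64) (l := 3) rfl N64 D87
theorem N88 : nd 88 = n88 := ndS (p := 65) (l := 2) rfl N65 D88
theorem N89 : nd 89 = n89 := ndS (p := 65) (l := 4) rfl N65 D89
theorem N90 : nd 90 = n90 := ndS (p := 67) (l := 2) rfl N67 D90
theorem N91 : nd 91 = n91 := ndS (p := 67) (l := 4) rfl N67 D91
theorem N92 : nd 92 = n92 := ndS (p := 68) (l := 4) rfl N68 D92
theorem N93 : nd 93 = n93 := ndS (p := 68) (l := 5) rfl N68 D93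
theorem N94 : nd 94 = n94 := ndS (p := 70) (l := 1) rfl N70 D94
theorem N95 : nd 95 = n95 := ndS (p := 70) (l := 4) rfl N70 D95
theorem N96 : nd 96 = n96 := ndS (p := 70) (l := 5) rfl N70 D96
theorem N97 : nd 97 = n97 := ndS (p := 72) (l := 3) rfl N72 D97
theorem N98 : nd 98 = n98 := ndS (p := 72) (l := 5) rfl N72 D98
theorem N99 : nd 99 = n99 := ndS (p := 74) (l := 4) rfl N74 D99
theorem N100 : nd 100 = n100 := ndS (p := 74) (l := 5) rfl N74 D100
theorem N101 : nd 101 = n101 := ndS (p := 75) (l := 3) rfl N75 D101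
theorem N102 : nd 102 = n102 := ndS (p := 75) (l := 5) rfl N75 D102
theorem N103 : nd 103 = n103 := ndS (p := 77) (l := 5) rfl N77 D103
theorem N104 : nd 104 = n104 := ndS (p := 79) (l := 3) rfl N79 D104
theorem N105 : nd 105 = n105 := ndS (p := 79) (l := 5) rfl N79 D105
theorem N106 : nd 106 = n106 := ndS (p := 80) (l := 2) rfl N80 D106
theorem N107 : nd 107 = n107 := ndS (p := 81) (l := 5) rfl N81 D107
theorem N108 : nd 108 = n108 := ndS (p := 83) (l := 2) rfl N83 D108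
theorem N109 : nd 109 = n109 := ndS (p := 84) (l := 3) rfl N84 D109
theorem N110 : nd 110 = n110 := ndS (p := 85) (l := 2) rfl N85 D110
theorem N111 : nd 111 = n111 := ndS (p := 85) (l := 4) rfl N85 D111
theorem N112 : nd 112 = n112 := ndS (p := 87) (l := 2) rfl N87 D112
theorem N113 : nd 113 = n113 := ndS (p := 87) (l := 4) rfl N87 D113
theorem N114 : nd 114 = n114 := ndS (p := 88) (l := 4) rfl N88 D114
theorem N115 : nd 115 = n115 := ndS (p := 88) (l := 5) rfl N88 D115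
theorem N116 : nd 116 = n116 := ndS (p := 90) (l := 1) rfl N90 D116
theorem N117 : nd 117 = n117 := ndS (p := 90) (l := 4) rfl N90 D117
theorem N118 : nd 118 = n118 := ndS (p := 90) (l := 5) rfl N90 D118
theorem N119 : nd 119 = n119 := ndS (p := 92) (l := 3) rfl N92 D119
theorem N120 : nd 120 = n120 := ndS (p := 92) (l := 5) rfl N92 D120
theorem N121 : nd 121 = n121 := ndS (p := 94) (l := 4) rfl N94 D121
theorem N122 : nd 122 = n122 := ndS (p := 94) (l := 5) rfl N94 D122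
theorem N123 : nd 123 = n123 := ndS (p := 95) (l := 3) rfl N95 D123
theorem N124 : nd 124 = n124 := ndS (p := 95) (l := 5) rfl N95 D124
theorem N125 : nd 125 = n125 := ndS (p := 97) (l := 5) rfl N97 D125
theorem N126 : nd 126 = n126 := ndS (p := 99) (l := 3) rfl N99 D126
theorem N127 : nd 127 = n127 := ndS (p := 99) (l := 5) rfl N99 D127
theorem N128 : nd 128 = n128 := ndS (p := 100) (l := 2) rfl N100 D128
theorem N129 : nd 129 = n129 := ndS (p := 101) (l := 5) rfl N101 D129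
theorem N130 : nd 130 = n130 := ndS (p := 103) (l := 2) rfl N103 D130
theorem N131 : nd 131 = n131 := ndS (p := 104) (l := 2) rfl N104 D131
theorem N132 : nd 132 = n132 := ndS (p := 104) (l := 5) rfl N104 D132
theorem N133 : nd 133 = n133 := ndS (p := 105) (l := 2) rfl N105 D133
theorem N134 : nd 134 = n134 := ndS (p := 106) (l := 3) rfl N106 D134
theorem N135 : nd 135 = n135 := ndS (p := 107) (l := 2) rfl N107 D135
theorem N136 : nd 136 = n136 := ndS (p := 108) (l := 1) rfl N108 D136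
theorem N137 : nd 137 = n137 := ndS (p := 109) (l := 2) rfl N109 D137
theorem N138 : nd 138 = n138 := ndS (p := 109) (l := 4) rfl N109 D138
theorem N139 : nd 139 = n139 := ndS (p := 110) (l := 4) rfl N110 D139
theorem N140 : nd 140 = n140 := ndS (p := 110) (l := 5) rfl N110 D140
theorem N141 : nd 141 = n141 := ndS (p := 112) (l := 1) rfl N112 D141
theorem N142 : nd 142 = n142 := ndS (p := 112) (l := 4) rfl N112 D142
theorem N143 : nd 143 = n143 := ndS (p := 112) (l := 5) rfl N112 D143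
theorem N144 : nd 144 = n144 := ndS (p := 114) (l := 3) rfl N114 D144
theorem N145 : nd 145 = n145 := ndS (p := 114) (l := 5) rfl N114 D145
theorem N146 : nd 146 = n146 := ndS (p := 116) (l := 4) rfl N116 D146
theorem N147 : nd 147 = n147 := ndS (p := 116) (l := 5) rfl N116 D147
theorem N148 : nd 148 = n148 := ndS (p := 117) (l := 3) rfl N117 D148
theorem N149 : nd 149 = n149 := ndS (p := 117) (l := 5) rfl N117 D149
theorem N150 : nd 150 = n150 := ndS (p := 119) (l := 5) rfl N119 D150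
theorem N151 : nd 151 = n151 := ndS (p := 121) (l := 3) rfl N121 D151
theorem N152 : nd 152 = n152 := ndS (p := 121) (l := 5) rfl N121 D152
theorem N153 : nd 153 = n153 := ndS (p := 122) (l := 2) rfl N122 D153
theorem N154 : nd 154 = n154 := ndS (p := 123) (l := 5) rfl N123 D154
theorem N155 : nd 155 = n155 := ndS (p := 125) (l := 2) rfl N125 D155
theorem N156 : nd 156 = n156 := ndS (p := 126) (l := 2) rfl N126 D156
theorem N157 : nd 157 = n157 := ndS (p := 126) (l := 5) rfl N126 D157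
theorem N158 : nd 158 = n158 := ndS (p := 127) (l := 2) rfl N127 D158
theorem N159 : nd 159 = n159 := ndS (p := 128) (l := 3) rfl N128 D159
theorem N160 : nd 160 = n160 := ndS (p := 129) (l := 2) rfl N129 D160
theorem N161 : nd 161 = n161 := ndS (p := 130) (l := 1) rfl N130 D161
theorem N162 : nd 162 = n162 := ndS (p := 131) (l := 5) rfl N131 D162
theorem N163 : nd 163 = n163 := ndS (p := 132) (l := 2) rfl N132 D163
theorem N164 : nd 164 = n164 := ndS (p := 133) (l := 3) rfl N133 D164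
theorem N165 : nd 165 = n165 := ndS (p := 134) (l := 4) rfl N134 D165
theorem N166 : nd 166 = n166 := ndS (p := 135) (l := 1) rfl N135 D166
theorem N167 : nd 167 = n167 := ndS (p := 136) (l := 0) rfl N136 D167
theorem N168 : nd 168 = n168 := ndS (p := 137) (l := 1) rfl N137 D168
theorem N169 : nd 169 = n169 := ndS (p := 137) (l := 4) rfl N137 D169
theorem N170 : nd 170 = n170 := ndS (p := 137) (l := 5) rfl N137 D170
theorem N171 : nd 171 = n171 := ndS (p := 139) (l := 3) rfl N139 D171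
theorem N172 : nd 172 = n172 := ndS (p := 139) (l := 5) rfl N139 D172
theorem N173 : nd 173 = n173 := ndS (p := 141) (l := 4) rfl N141 D173
theorem N174 : nd 174 = n174 := ndS (p := 141) (l := 5) rfl N141 D174
theorem N175 : nd 175 = n175 := ndS (p := 142) (l := 3) rfl N142 D175
theorem N176 : nd 176 = n176 := ndS (p := 142) (l := 5) rfl N142 D176
theorem N177 : nd 177 = n177 := ndS (p := 144) (l := 5) rfl N144 D177
theorem N178 : nd 178 = n178 := ndS (p := 146) (l := 3) rfl N146 D178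
theorem N179 : nd 179 = n179 := ndS (p := 146) (l := 5) rfl N146 D179
theorem N180 : nd 180 = n180 := ndS (p := 147) (l := 2) rfl N147 D180
theorem N181 : nd 181 = n181 := ndS (p := 148) (l := 5) rfl N148 D181
theorem N182 : nd 182 = n182 := ndS (p := 150) (l := 2) rfl N150 D182
theorem N183 : nd 183 = n183 := ndS (p := 151) (l := 2) rfl N151 D183
theorem N184 : nd 184 = n184 := ndS (p := 151) (l := 5) rfl N151 D184
theorem N185 : nd 185 = n185 := ndS (p := 152) (l := 2) rfl N152 D185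
theorem N186 : nd 186 = n186 := ndS (p := 153) (l := 3) rfl N153 D186
theorem N187 : nd 187 = n187 := ndS (p := 154) (l := 2) rfl N154 D187
theorem N188 : nd 188 = n188 := ndS (p := 155) (l := 1) rfl N155 D188
theorem N189 : nd 189 = n189 := ndS (p := 156) (l := 5) rfl N156 D189
theorem N190 : nd 190 = n190 := ndS (p := 157) (l := 2) rfl N157 D190
theorem N191 : nd 191 = n191 := ndS (p := 158) (l := 3) rfl N158 D191
theorem N192 : nd 192 = n192 := ndS (p := 159) (l := 4) rfl N159 D192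
theorem N193 : nd 193 = n193 := ndS (p := 160) (l := 1) rfl N160 D193
theorem N194 : nd 194 = n194 := ndS (p := 161) (l := 0) rfl N161 D194
theorem N195 : nd 195 = n195 := ndS (p := 162) (l := 2) rfl N162 D195
theorem N196 : nd 196 = n196 := ndS (p := 163) (l := 1) rfl N163 D196
theorem N197 : nd 197 = n197 := ndS (p := 163) (l := 3) rfl N163 D197
theorem N198 : nd 198 = n198 := ndS (p := 164) (l := 4) rfl N164 D198
theorem N199 : nd 199 = n199 := ndS (p := 166) (l := 0) rfl N166 D199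
theorem N200 : nd 200 = n200 := ndS (p := 168) (l := 4) rfl N168 D200
theorem N201 : nd 201 = n201 := ndS (p := 168) (l := 5) rfl N168 D201
theorem N202 : nd 202 = n202 := ndS (p := 169) (l := 3) rfl N169 D202
theorem N203 : nd 203 = n203 := ndS (p := 169) (l := 5) rfl N169 D203
theorem N204 : nd 204 = n204 := ndS (p := 171) (l := 5) rfl N171 D204
theorem N205 : nd 205 = n205 := ndS (p := 173) (l := 3) rfl N173 D205
theorem N206 : nd 206 = n206 := ndS (p := 173) (l := 5) rfl N173 D206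
theorem N207 : nd 207 = n207 := ndS (p := 174) (l := 2) rfl N174 D207
theorem N208 : nd 208 = n208 := ndS (p := 175) (l := 5) rfl N175 D208
theorem N209 : nd 209 = n209 := ndS (p := 177) (l := 2) rfl N177 D209
theorem N210 : nd 210 = n210 := ndS (p := 178) (l := 2) rfl N178 D210
theorem N211 : nd 211 = n211 := ndS (p := 178) (l := 5) rfl N178 D211
theorem N212 : nd 212 = n212 := ndS (p := 179) (l := 2) rfl N179 D212
theorem N213 : nd 213 = n213 := ndS (p := 180) (l := 3) rfl N180 D213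
theorem N214 : nd 214 = n214 := ndS (p := 181) (l := 2) rfl N181 D214
theorem N215 : nd 215 = n215 := ndS (p := 182) (l := 1) rfl N182 D215
theorem N216 : nd 216 = n216 := ndS (p := 183) (l := 5) rfl N183 D216
theorem N217 : nd 217 = n217 := ndS (p := 184) (l := 2) rfl N184 D217
theorem N218 : nd 218 = n218 := ndS (p := 185) (l := 3) rfl N185 D218
theorem N219 : nd 219 = n219 := ndS (p := 186) (l := 4) rfl N186 D219
theorem N220 : nd 220 = n220 := ndS (p := 187) (l := 1) rfl N187 D220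
theorem N221 : nd 221 = n221 := ndS (p := 188) (l := 0) rfl N188 D221
theorem N222 : nd 222 = n222 := ndS (p := 189) (l := 2) rfl N189 D222
theorem N223 : nd 223 = n223 := ndS (p := 190) (l := 1) rfl N190 D223
theorem N224 : nd 224 = n224 := ndS (p := 190) (l := 3) rfl N190 D224
theorem N225 : nd 225 = n225 := ndS (p := 191) (l := 4) rfl N191 D225
theorem N226 : nd 226 = n226 := ndS (p := 193) (l := 0) rfl N193 D226
theorem N227 : nd 227 = n227 := ndS (p := 195) (l := 1) rfl N195 D227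
theorem N228 : nd 228 = n228 := ndS (p := 195) (l := 3) rfl N195 D228
theorem N229 : nd 229 = n229 := ndS (p := 196) (l := 0) rfl N196 D229
theorem N230 : nd 230 = n230 := ndS (p := 196) (l := 3) rfl N196 D230
theorem N231 : nd 231 = n231 := ndS (p := 197) (l := 4) rfl N197 D231
theorem N232 : nd 232 = n232 := ndS (p := 200) (l := 3) rfl N200 D232
theorem N233 : nd 233 = n233 := ndS (p := 200) (l := 5) rfl N200 D233
theorem N234 : nd 234 = n234 := ndS (p := 201) (l := 2) rfl N201 D234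
theorem N235 : nd 235 = n235 := ndS (p := 202) (l := 5) rfl N202 D235
theorem N236 : nd 236 = n236 := ndS (p := 204) (l := 2) rfl N204 D236
theorem N237 : nd 237 = n237 := ndS (p := 205) (l := 2) rfl N205 D237
theorem N238 : nd 238 = n238 := ndS (p := 205) (l := 5) rfl N205 D238
theorem N239 : nd 239 = n239 := ndS (p := 206) (l := 2) rfl N206 D239
theorem N240 : nd 240 = n240 := ndS (p := 207) (l := 3) rfl N207 D240
theorem N241 : nd 241 = n241 := ndS (p := 208) (l := 2) rfl N208 D241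
theorem N242 : nd 242 = n242 := ndS (p := 209) (l := 1) rfl N209 D242
theorem N243 : nd 243 = n243 := ndS (p := 210) (l := 5) rfl N210 D243
theorem N244 : nd 244 = n244 := ndS (p := 211) (l := 2) rfl N211 D244
theorem N245 : nd 245 = n245 := ndS (p := 212) (l := 3) rfl N212 D245
theorem N246 : nd 246 = n246 := ndS (p := 213) (l := 4) rfl N213 D246
theorem N247 : nd 247 = n247 := ndS (p := 214) (l := 1) rfl N214 D247
theorem N248 : nd 248 = n248 := ndS (p := 215) (l := 0) rfl N215 D248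
theorem N249 : nd 249 = n249 := ndS (p := 216) (l := 2) rfl N216 D249
theorem N250 : nd 250 = n250 := ndS (p := 217) (l := 1) rfl N217 D250
theorem N251 : nd 251 = n251 := ndS (p := 217) (l := 3) rfl N217 D251
theorem N252 : nd 252 = n252 := ndS (p := 218) (l := 4) rfl N218 D252
theorem N253 : nd 253 = n253 := ndS (p := 220) (l := 0) rfl N220 D253
theorem N254 : nd 254 = n254 := ndS (p := 222) (l := 1) rfl N222 D254
theorem N255 : nd 255 = n255 := ndS (p := 222) (l := 3) rfl N222 D255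
theorem N256 : nd 256 = n256 := ndS (p := 223) (l := 0) rfl N223 D256
theorem N257 : nd 257 = n257 := ndS (p := 223) (l := 3) rfl N223 D257
theorem N258 : nd 258 = n258 := ndS (p := 224) (l := 4) rfl N224 D258
theorem N259 : nd 259 = n259 := ndS (p := 227) (l := 0) rfl N227 D259
theorem N260 : nd 260 = n260 := ndS (p := 227) (l := 3) rfl N227 D260
theorem N261 : nd 261 = n261 := ndS (p := 228) (l := 4) rfl N228 D261
theorem N262 : nd 262 = n262 := ndS (p := 229) (l := 3) rfl N229 D262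
theorem N263 : nd 263 = n263 := ndS (p := 230) (l := 4) rfl N230 D263
theorem N264 : nd 264 = n264 := ndS (p := 232) (l := 2) rfl N232 D264
theorem N265 : nd 265 = n265 := ndS (p := 232) (l := 5) rfl N232 D265
theorem N266 : nd 266 = n266 := ndS (p := 233) (l := 2) rfl N233 D266
theorem N267 : nd 267 = n267 := ndS (p := 234) (l := 3) rfl N234 D267
theorem N268 : nd 268 = n268 := ndS (p := 235) (l := 2) rfl N235 D268
theorem N269 : nd 269 = n269 := ndS (p := 236) (l := 1) rfl N236 D269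
theorem N270 : nd 270 = n270 := ndS (p := 237) (l := 5) rfl N237 D270
theorem N271 : nd 271 = n271 := ndS (p := 238) (l := 2) rfl N238 D271
theorem N272 : nd 272 = n272 := ndS (p := 239) (l := 3) rfl N239 D272
theorem N273 : nd 273 = n273 := ndS (p := 240) (l := 4) rfl N240 D273
theorem N274 : nd 274 = n274 := ndS (p := 241) (l := 1) rfl N241 D274
theorem N275 : nd 275 = n275 := ndS (p := 242) (l := 0) rfl N242 D275
theorem N276 : nd 276 = n276 := ndS (p := 243) (l := 2) rfl N243 D276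
theorem N277 : nd 277 = n277 := ndS (p := 244) (l := 1) rfl N244 D277
theorem N278 : nd 278 = n278 := ndS (p := 244) (l := 3) rfl N244 D278
theorem N279 : nd 279 = n279 := ndS (p := 245) (l := 4) rfl N245 D279
theorem N280 : nd 280 = n280 := ndS (p := 247) (l := 0) rfl N247 D280
theorem N281 : nd 281 = n281 := ndS (p := 249) (l := 1) rfl N249 D281
theorem N282 : nd 282 = n282 := ndS (p := 249) (l := 3) rfl N249 D282
theorem N283 : nd 283 = n283 := ndS (p := 250) (l := 0) rfl N250 D283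
theorem N284 : nd 284 = n284 := ndS (p := 250) (l := 3) rfl N250 D284
theorem N285 : nd 285 = n285 := ndS (p := 251) (l := 4) rfl N251 D285
theorem N286 : nd 286 = n286 := ndS (p := 254) (l := 0) rfl N254 D286
theorem N287 : nd 287 = n287 := ndS (p := 254) (l := 3) rfl N254 D287
theorem N288 : nd 288 = n288 := ndS (p := 255) (l := 4) rfl N255 D288
theorem N289 : nd 289 = n289 := ndS (p := 256) (l := 3) rfl N256 D289
theorem N290 : nd 290 = n290 := ndS (p := 257) (l := 4) rfl N257 D290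
theorem N291 : nd 291 = n291 := ndS (p := 259) (l := 3) rfl N259 D291
theorem N292 : nd 292 = n292 := ndS (p := 260) (l := 2) rfl N260 D292
theorem N293 : nd 293 = n293 := ndS (p := 260) (l := 4) rfl N260 D293
theorem N294 : nd 294 = n294 := ndS (p := 262) (l := 4) rfl N262 D294
theorem N295 : nd 295 = n295 := ndS (p := 264) (l := 5) rfl N264 D295
theorem N296 : nd 296 = n296 := ndS (p := 265) (l := 2) rfl N265 D296
theorem N297 : nd 297 = n297 := ndS (p := 266) (l := 3) rfl N266 D297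
theorem N298 : nd 298 = n298 := ndS (p := 267) (l := 4) rfl N267 D298
theorem N299 : nd 299 = n299 := ndS (p := 268) (l := 1) rfl N268 D299
theorem N300 : nd 300 = n300 := ndS (p := 269) (l := 0) rfl N269 D300
theorem N301 : nd 301 = n301 := ndS (p := 270) (l := 2) rfl N270 D301
theorem N302 : nd 302 = n302 := ndS (p := 271) (l := 1) rfl N271 D302
theorem N303 : nd 303 = n303 := ndS (p := 271) (l := 3) rfl N271 D303
theorem N304 : nd 304 = n304 := ndS (p := 272) (l := 4) rfl N272 D304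
theorem N305 : nd 305 = n305 := ndS (p := 274) (l := 0) rfl N274 D305
theorem N306 : nd 306 = n306 := ndS (p := 276) (l := 1) rfl N276 D306
theorem N307 : nd 307 = n307 := ndS (p := 276) (l := 3) rfl N276 D307
theorem N308 : nd 308 = n308 := ndS (p := 277) (l := 0) rfl N277 D308
theorem N309 : nd 309 = n309 := ndS (p := 277) (l := 3) rfl N277 D309
theorem N310 : nd 310 = n310 := ndS (p := 278) (l := 4) rfl N278 D310
theorem N311 : nd 311 = n311 := ndS (p := 281) (l := 0) rfl N281 D311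
theorem N312 : nd 312 = n312 := ndS (p := 281) (l := 3) rfl N281 D312
theorem N313 : nd 313 = n313 := ndS (p := 282) (l := 4) rfl N282 D313
theorem N314 : nd 314 = n314 := ndS (p := 283) (l := 3) rfl N283 D314
theorem N315 : nd 315 = n315 := ndS (p := 284) (l := 4) rfl N284 D315
theorem N316 : nd 316 = n316 := ndS (p := 286) (l := 3) rfl N286 D316
theorem N317 : nd 317 = n317 := ndS (p := 287) (l := 2) rfl N287 D317
theorem N318 : nd 318 = n318 := ndS (p := 287) (l := 4) rfl N287 D318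
theorem N319 : nd 319 = n319 := ndS (p := 289) (l := 4) rfl N289 D319
theorem N320 : nd 320 = n320 := ndS (p := 291) (l := 2) rfl N291 D320
theorem N321 : nd 321 = n321 := ndS (p := 291) (l := 4) rfl N291 D321
theorem N322 : nd 322 = n322 := ndS (p := 292) (l := 4) rfl N292 D322
theorem N323 : nd 323 = n323 := ndS (p := 295) (l := 2) rfl N295 D323
theorem N324 : nd 324 = n324 := ndS (p := 296) (l := 1) rfl N296 D324
theorem N325 : nd 325 = n325 := ndS (p := 296) (l := 3) rfl N296 D325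
theorem N326 : nd 326 = n326 := ndS (p := 297) (l := 4) rfl N297 D326
theorem N327 : nd 327 = n327 := ndS (p := 299) (l := 0) rfl N299 D327
theorem N328 : nd 328 = n328 := ndS (p := 301) (l := 1) rfl N301 D328
theorem N329 : nd 329 = n329 := ndS (p := 301) (l := 3) rfl N301 D329
theorem N330 : nd 330 = n330 := ndS (p := 302) (l := 0) rfl N302 D330
theorem N331 : nd 331 = n331 := ndS (p := 302) (l := 3) rfl N302 D331
theorem N332 : nd 332 = n332 := ndS (p := 303) (l := 4) rfl N303 D332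
theorem N333 : nd 333 = n333 := ndS (p := 306) (l := 0) rfl N306 D333
theorem N334 : nd 334 = n334 := ndS (p := 306) (l := 3) rfl N306 D334
theorem N335 : nd 335 = n335 := ndS (p := 307) (l := 4) rfl N307 D335
theorem N336 : nd 336 = n336 := ndS (p := 308) (l := 3) rfl N308 D336
theorem N337 : nd 337 = n337 := ndS (p := 309) (l := 4) rfl N309 D337
theorem N338 : nd 338 = n338 := ndS (p := 311) (l := 3) rfl N311 D338
theorem N339 : nd 339 = n339 := ndS (p := 312) (l := 2) rfl N312 D339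
theorem N340 : nd 340 = n340 := ndS (p := 312) (l := 4) rfl N312 D340
theorem N341 : nd 341 = n341 := ndS (p := 314) (l := 4) rfl N314 D341
theorem N342 : nd 342 = n342 := ndS (p := 316) (l := 2) rfl N316 D342
theorem N343 : nd 343 = n343 := ndS (p := 316) (l := 4) rfl N316 D343
theorem N344 : nd 344 = n344 := ndS (p := 317) (l := 4) rfl N317 D344
theorem N345 : nd 345 = n345 := ndS (p := 320) (l := 1) rfl N320 D345
theorem N346 : nd 346 = n346 := ndS (p := 320) (l := 4) rfl N320 D346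
theorem N347 : nd 347 = n347 := ndS (p := 322) (l := 3) rfl N322 D347
theorem N348 : nd 348 = n348 := ndS (p := 323) (l := 1) rfl N323 D348
theorem N349 : nd 349 = n349 := ndS (p := 323) (l := 3) rfl N323 D349
theorem N350 : nd 350 = n350 := ndS (p := 324) (l := 0) rfl N324 D350
theorem N351 : nd 351 = n351 := ndS (p := 324) (l := 3) rfl N324 D351
theorem N352 : nd 352 = n352 := ndS (p := 325) (l := 4) rfl N325 D352
theorem N353 : nd 353 = n353 := ndS (p := 328) (l := 0) rfl N328 D353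
theorem N354 : nd 354 = n354 := ndS (p := 328) (l := 3) rfl N328 D354
theorem N355 : nd 355 = n355 := ndS (p := 329) (l := 4) rfl N329 D355
theorem N356 : nd 356 = n356 := ndS (p := 330) (l := 3) rfl N330 D356
theorem N357 : nd 357 = n357 := ndS (p := 331) (l := 4) rfl N331 D357
theorem N358 : nd 358 = n358 := ndS (p := 333) (l := 3) rfl N333 D358
theorem N359 : nd 359 = n359 := ndS (p := 334) (l := 2) rfl N334 D359
theorem N360 : nd 360 = n360 := ndS (p := 334) (l := 4) rfl N334 D360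
theorem N361 : nd 361 = n361 := ndS (p := 336) (l := 4) rfl N336 D361
theorem N362 : nd 362 = n362 := ndS (p := 338) (l := 2) rfl N338 D362
theorem N363 : nd 363 = n363 := ndS (p := 338) (l := 4) rfl N338 D363
theorem N364 : nd 364 = n364 := ndS (p := 339) (l := 4) rfl N339 D364
theorem N365 : nd 365 = n365 := ndS (p := 342) (l := 1) rfl N342 D365
theorem N366 : nd 366 = n366 := ndS (p := 342) (l := 4) rfl N342 D366
theorem N367 : nd 367 = n367 := ndS (p := 344) (l := 3) rfl N344 D367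
theorem N368 : nd 368 = n368 := ndS (p := 345) (l := 4) rfl N345 D368
theorem N369 : nd 369 = n369 := ndS (p := 346) (l := 3) rfl N346 D369
theorem N370 : nd 370 = n370 := ndS (p := 348) (l := 0) rfl N348 D370
theorem N371 : nd 371 = n371 := ndS (p := 348) (l := 3) rfl N348 D371
theorem N372 : nd 372 = n372 := ndS (p := 349) (l := 4) rfl N349 D372
theorem N373 : nd 373 = n373 := ndS (p := 350) (l := 3) rfl N350 D373
theorem N374 : nd 374 = n374 := ndS (p := 351) (l := 4) rfl N351 D374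
theorem N375 : nd 375 = n375 := ndS (p := 353) (l := 3) rfl N353 D375
theorem N376 : nd 376 = n376 := ndS (p := 354) (l := 2) rfl N354 D376
theorem N377 : nd 377 = n377 := ndS (p := 354) (l := 4) rfl N354 D377
theorem N378 : nd 378 = n378 := ndS (p := 356) (l := 4) rfl N356 D378
theorem N379 : nd 379 = n379 := ndS (p := 358) (l := 2) rfl N358 D379
theorem N380 : nd 380 = n380 := ndS (p := 358) (l := 4) rfl N358 D380
theorem N381 : nd 381 = n381 := ndS (p := 359) (l := 4) rfl N359 D381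
theorem N382 : nd 382 = n382 := ndS (p := 362) (l := 1) rfl N362 D382
theorem N383 : nd 383 = n383 := ndS (p := 362) (l := 4) rfl N362 D383
theorem N384 : nd 384 = n384 := ndS (p := 364) (l := 3) rfl N364 D384
theorem N385 : nd 385 = n385 := ndS (p := 365) (l := 4) rfl N365 D385
theorem N386 : nd 386 = n386 := ndS (p := 366) (l := 3) rfl N366 D386
theorem N387 : nd 387 = n387 := ndS (p := 368) (l := 3) rfl N368 D387
theorem N388 : nd 388 = n388 := ndS (p := 370) (l := 3) rfl N370 D388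
theorem N389 : nd 389 = n389 := ndS (p := 371) (l := 2) rfl N371 D389
theorem N390 : nd 390 = n390 := ndS (p := 371) (l := 4) rfl N371 D390
theorem N391 : nd 391 = n391 := ndS (p := 373) (l := 4) rfl N373 D391
theorem N392 : nd 392 = n392 := ndS (p := 375) (l := 2) rfl N375 D392
theorem N393 : nd 393 = n393 := ndS (p := 375) (l := 4) rfl N375 D393
theorem N394 : nd 394 = n394 := ndS (p := 376) (l := 4) rfl N376 D394
theorem N395 : nd 395 = n395 := ndS (p := 379) (l := 1) rfl N379 D395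
theorem N396 : nd 396 = n396 := ndS (p := 379) (l := 4) rfl N379 D396
theorem N397 : nd 397 = n397 := ndS (p := 381) (l := 3) rfl N381 D397
theorem N398 : nd 398 = n398 := ndS (p := 382) (l := 4) rfl N382 D398
theorem N399 : nd 399 = n399 := ndS (p := 383) (l := 3) rfl N383 D399
theorem N400 : nd 400 = n400 := ndS (p := 385) (l := 3) rfl N385 D400
theorem N401 : nd 401 = n401 := ndS (p := 387) (l := 2) rfl N387 D401
theorem N402 : nd 402 = n402 := ndS (p := 388) (l := 2) rfl N388 D402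
theorem N403 : nd 403 = n403 := ndS (p := 388) (l := 4) rfl N388 D403
theorem N404 : nd 404 = n404 := ndS (p := 389) (l := 4) rfl N389 D404
theorem N405 : nd 405 = n405 := ndS (p := 392) (l := 1) rfl N392 D405
theorem N406 : nd 406 = n406 := ndS (p := 392) (l := 4) rfl N392 D406
theorem N407 : nd 407 = n407 := ndS (p := 394) (l := 3) rfl N394 D407
theorem N408 : nd 408 = n408 := ndS (p := 395) (l := 4) rfl N395 D408
theorem N409 : nd 409 = n409 := ndS (p := 396) (l := 3) rfl N396 D409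
theorem N410 : nd 410 = n410 := ndS (p := 398) (l := 3) rfl N398 D410
theorem N411 : nd 411 = n411 := ndS (p := 400) (l := 2) rfl N400 D411
theorem N412 : nd 412 = n412 := ndS (p := 401) (l := 5) rfl N401 D412
theorem N413 : nd 413 = n413 := ndS (p := 402) (l := 1) rfl N402 D413
theorem N414 : nd 414 = n414 := ndS (p := 402) (l := 4) rfl N402 D414
theorem N415 : nd 415 = n415 := ndS (p := 404) (l := 3) rfl N404 D415
theorem N416 : nd 416 = n416 := ndS (p := 405) (l := 4) rfl N405 D416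
theorem N417 : nd 417 = n417 := ndS (p := 406) (l := 3) rfl N406 D417
theorem N418 : nd 418 = n418 := ndS (p := 408) (l := 3) rfl N408 D418
theorem N419 : nd 419 = n419 := ndS (p := 410) (l := 2) rfl N410 D419
theorem N420 : nd 420 = n420 := ndS (p := 411) (l := 5) rfl N411 D420
theorem N421 : nd 421 = n421 := ndS (p := 413) (l := 4) rfl N413 D421
theorem N422 : nd 422 = n422 := ndS (p := 414) (l := 3) rfl N414 D422
theorem N423 : nd 423 = n423 := ndS (p := 416) (l := 3) rfl N416 D423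
theorem N424 : nd 424 = n424 := ndS (p := 418) (l := 2) rfl N418 D424
theorem N425 : nd 425 = n425 := ndS (p := 419) (l := 5) rfl N419 D425
theorem N426 : nd 426 = n426 := ndS (p := 421) (l := 3) rfl N421 D426
theorem N427 : nd 427 = n427 := ndS (p := 423) (l := 2) rfl N423 D427
theorem N428 : nd 428 = n428 := ndS (p := 424) (l := 5) rfl N424 D428
theorem N429 : nd 429 = n429 := ndS (p := 426) (l := 2) rfl N426 D429
theorem N430 : nd 430 = n430 := ndS (p := 427) (l := 5) rfl N427 D430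
theorem N431 : nd 431 = n431 := ndS (p := 429) (l := 5) rfl N429 D431
theorem Q1 : ∀ i, i < 1 → P i := stepQ 0 Q0 (allL N0 (tt N1 D1) (tt N0 F1) (tt N0 F2) (tt N0 F3) (tt N0 F4) (tt N2 D2))
theorem Q2 : ∀ i, i < 2 → P i := stepQ 1 Q1 (allL N1 (tt N0 (iv D1)) (tt N3 D3) (tt N1 F5) (tt N1 F6) (tt N1 F7) (tt N4 D4))
theorem Q3 : ∀ i, i < 3 → P i := stepQ 2 Q2 (allL N2 (tt N4 (iv F14)) (tt N2 F8) (tt N5 D5) (tt N2 F9) (tt N2 F10) (tt N0 (iv D2)))
theorem Q4 : ∀ i, i < 4 → P i := stepQ 3 Q3 (allL N3 (tt N3 F11) (tt N1 (iv D3)) (tt N6 D6) (tt N3 F12) (tt N3 F13) (tt N7 D7))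
theorem Q5 : ∀ i, i < 5 → P i := stepQ 4 Q4 (allL N4 (tt N2 F14) (tt N7 (iv F23)) (tt N8 D8) (tt N4 F15) (tt N4 F16) (tt N1 (iv D4)))
theorem Q6 : ∀ i, i < 6 → P i := stepQ 5 Q5 (allL N5 (tt N8 (iv F26)) (tt N9 D9) (tt N2 (iv D5)) (tt N10 D10) (tt N5 F17) (tt N5 F18))
theorem Q7 : ∀ i, i < 7 → P i := stepQ 6 Q6 (allL N6 (tt N6 F19) (tt N6 F20) (tt N3 (iv D6)) (tt N11 D11) (tt N6 F21) (tt N12 D12))
theorem Q8 : ∀ i, i < 8 → P i := stepQ 7 Q7 (allL N7 (tt N7 F22) (tt N4 F23) (tt N13 D13) (tt N7 F24) (tt N7 F25) (tt N3 (iv D7)))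
theorem Q9 : ∀ i, i < 9 → P i := stepQ 8 Q8 (allL N8 (tt N5 F26) (tt N14 D14) (tt N4 (iv D8)) (tt N15 D15) (tt N8 F27) (tt N8 F28))
theorem Q10 : ∀ i, i < 10 → P i := stepQ 9 Q9 (allL N9 (tt N16 D16) (tt N5 (iv D9)) (tt N9 F29) (tt N17 D17) (tt N9 F30) (tt N9 F31))
theorem Q11 : ∀ i, i < 11 → P i := stepQ 10 Q10 (allL N10 (tt N15 (iv F44)) (tt N17 (iv F50)) (tt N10 F32) (tt N5 (iv D10)) (tt N18 D18) (tt N10 F33))
theorem Q12 : ∀ i, i < 12 → P i := stepQ 11 Q11 (allL N11 (tt N11 F34) (tt N11 F35) (tt N11 F36) (tt N6 (iv D11)) (tt N19 D19) (tt N20 D20))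
theorem Q13 : ∀ i, i < 13 → P i := stepQ 12 Q12 (allL N12 (tt N12 F37) (tt N12 F38) (tt N21 D21) (tt N20 (iv F61)) (tt N12 F39) (tt N6 (iv D12)))
theorem Q14 : ∀ i, i < 14 → P i := stepQ 13 Q13 (allL N13 (tt N13 F40) (tt N22 D22) (tt N7 (iv D13)) (tt N23 D23) (tt N13 F41) (tt N21 (iv F64)))
theorem Q15 : ∀ i, i < 15 → P i := stepQ 14 Q14 (allL N14 (tt N24 D24) (tt N8 (iv D14)) (tt N22 (iv F65)) (tt N25 D25) (tt N14 F42) (tt N14 F43))
theorem Q16 : ∀ i, i < 16 → P i := stepQ 15 Q15 (allL N15 (tt N10 F44) (tt N25 (iv F72)) (tt N15 F45) (tt N8 (iv D15)) (tt N26 D26) (tt N15 F46))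
theorem Q17 : ∀ i, i < 17 → P i := stepQ 16 Q16 (allL N16 (tt N9 (iv D16)) (tt N24 (iv F69)) (tt N16 F47) (tt N27 D27) (tt N16 F48) (tt N16 F49))
theorem Q18 : ∀ i, i < 18 → P i := stepQ 17 Q17 (allL N17 (tt N27 (iv F78)) (tt N10 F50) (tt N28 D28) (tt N9 (iv D17)) (tt N29 D29) (tt N17 F51))
theorem Q19 : ∀ i, i < 19 → P i := stepQ 18 Q18 (allL N18 (tt N26 (iv F74)) (tt N29 (iv F82)) (tt N18 F52) (tt N18 F53) (tt N10 (iv D18)) (tt N18 F54))
theorem Q20 : ∀ i, i < 20 → P i := stepQ 19 Q19 (allL N19 (tt N19 F55) (tt N19 F56) (tt N19 F57) (tt N19 F58) (tt N11 (iv D19)) (tt N30 D30))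
theorem Q21 : ∀ i, i < 21 → P i := stepQ 20 Q20 (allL N20 (tt N20 F59) (tt N20 F60) (tt N31 D31) (tt N12 F61) (tt N30 (iv F88)) (tt N11 (iv D20)))
theorem Q22 : ∀ i, i < 22 → P i := stepQ 21 Q21 (allL N21 (tt N21 F62) (tt N32 D32) (tt N12 (iv D21)) (tt N33 D33) (tt N21 F63) (tt N13 F64))
theorem Q23 : ∀ i, i < 23 → P i := stepQ 22 Q22 (allL N22 (tt N34 D34) (tt N13 (iv D22)) (tt N14 F65) (tt N35 D35) (tt N22 F66) (tt N32 (iv F93)))
theorem Q24 : ∀ i, i < 24 → P i := stepQ 23 Q23 (allL N23 (tt N23 F67) (tt N35 (iv F99)) (tt N23 F68) (tt N13 (iv D23)) (tt N36 D36) (tt N33 (iv F95)))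
theorem Q25 : ∀ i, i < 25 → P i := stepQ 24 Q24 (allL N24 (tt N14 (iv D24)) (tt N16 F69) (tt N34 (iv F97)) (tt N37 D37) (tt N24 F70) (tt N24 F71))
theorem Q26 : ∀ i, i < 26 → P i := stepQ 25 Q25 (allL N25 (tt N37 (iv F103)) (tt N15 F72) (tt N38 D38) (tt N14 (iv D25)) (tt N39 D39) (tt N25 F73))
theorem Q27 : ∀ i, i < 27 → P i := stepQ 26 Q26 (allL N26 (tt N18 F74) (tt N39 (iv F107)) (tt N26 F75) (tt N26 F76) (tt N15 (iv D26)) (tt N26 F77))
theorem Q28 : ∀ i, i < 28 → P i := stepQ 27 Q27 (allL N27 (tt N17 F78) (tt N37 (iv F104)) (tt N40 D40) (tt N16 (iv D27)) (tt N41 D41) (tt N27 F79))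
theorem Q29 : ∀ i, i < 29 → P i := stepQ 28 Q28 (allL N28 (tt N40 (iv F110)) (tt N28 F80) (tt N17 (iv D28)) (tt N28 F81) (tt N42 D42) (tt N43 D43))
theorem Q30 : ∀ i, i < 30 → P i := stepQ 29 Q29 (allL N29 (tt N41 (iv F112)) (tt N18 F82) (tt N42 (iv F116)) (tt N29 F83) (tt N17 (iv D29)) (tt N29 F84))
theorem Q31 : ∀ i, i < 31 → P i := stepQ 30 Q30 (allL N30 (tt N30 F85) (tt N30 F86) (tt N44 D44) (tt N30 F87) (tt N20 F88) (tt N19 (iv D30)))
theorem Q32 : ∀ i, i < 32 → P i := stepQ 31 Q31 (allL N31 (tt N31 F89) (tt N45 D45) (tt N20 (iv D31)) (tt N46 D46) (tt N44 (iv F121)) (tt N31 F90))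
theorem Q33 : ∀ i, i < 33 → P i := stepQ 32 Q32 (allL N32 (tt N47 D47) (tt N21 (iv D32)) (tt N32 F91) (tt N48 D48) (tt N32 F92) (tt N22 F93))
theorem Q34 : ∀ i, i < 34 → P i := stepQ 33 Q33 (allL N33 (tt N33 F94) (tt N48 (iv F132)) (tt N46 (iv F126)) (tt N21 (iv D33)) (tt N49 D49) (tt N23 F95))
theorem Q35 : ∀ i, i < 35 → P i := stepQ 34 Q34 (allL N34 (tt N22 (iv D34)) (tt N34 F96) (tt N24 F97) (tt N50 D50) (tt N34 F98) (tt N47 (iv F131)))
theorem Q36 : ∀ i, i < 36 → P i := stepQ 35 Q35 (allL N35 (tt N50 (iv F137)) (tt N23 F99) (tt N51 D51) (tt N22 (iv D35)) (tt N52 D52) (tt N48 (iv F133)))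
theorem Q37 : ∀ i, i < 37 → P i := stepQ 36 Q36 (allL N36 (tt N36 F100) (tt N52 (iv F141)) (tt N36 F101) (tt N36 F102) (tt N23 (iv D36)) (tt N49 (iv F136)))
theorem Q38 : ∀ i, i < 38 → P i := stepQ 37 Q37 (allL N37 (tt N25 F103) (tt N27 F104) (tt N53 D53) (tt N24 (iv D37)) (tt N54 D54) (tt N37 F105))
theorem Q39 : ∀ i, i < 39 → P i := stepQ 38 Q38 (allL N38 (tt N53 (iv F143)) (tt N38 F106) (tt N25 (iv D38)) (tt N51 (iv F140)) (tt N55 D55) (tt N56 D56))
theorem Q40 : ∀ i, i < 40 → P i := stepQ 39 Q39 (allL N39 (tt N54 (iv F144)) (tt N26 F107) (tt N55 (iv F149)) (tt N39 F108) (tt N25 (iv D39)) (tt N39 F109))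
theorem Q41 : ∀ i, i < 41 → P i := stepQ 40 Q40 (allL N40 (tt N28 F110) (tt N57 D57) (tt N27 (iv D40)) (tt N40 F111) (tt N58 D58) (tt N59 D59))
theorem Q42 : ∀ i, i < 42 → P i := stepQ 41 Q41 (allL N41 (tt N29 F112) (tt N54 (iv F145)) (tt N58 (iv F155)) (tt N41 F113) (tt N27 (iv D41)) (tt N41 F114))
theorem Q43 : ∀ i, i < 43 → P i := stepQ 42 Q42 (allL N42 (tt N58 (iv F154)) (tt N42 F115) (tt N29 F116) (tt N60 D60) (tt N28 (iv D42)) (tt N61 D61))
theorem Q44 : ∀ i, i < 44 → P i := stepQ 43 Q43 (allL N43 (tt N59 (iv F156)) (tt N43 F117) (tt N43 F118) (tt N43 F119) (tt N61 (iv F164)) (tt N28 (iv D43)))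
theorem Q45 : ∀ i, i < 45 → P i := stepQ 44 Q44 (allL N44 (tt N44 F120) (tt N62 D62) (tt N30 (iv D44)) (tt N63 D63) (tt N31 F121) (tt N44 F122))
theorem Q46 : ∀ i, i < 46 → P i := stepQ 45 Q45 (allL N45 (tt N64 D64) (tt N31 (iv D45)) (tt N45 F123) (tt N65 D65) (tt N62 (iv F166)) (tt N45 F124))
theorem Q47 : ∀ i, i < 47 → P i := stepQ 46 Q46 (allL N46 (tt N46 F125) (tt N65 (iv F174)) (tt N33 F126) (tt N31 (iv D46)) (tt N66 D66) (tt N46 F127))
theorem Q48 : ∀ i, i < 48 → P i := stepQ 47 Q47 (allL N47 (tt N32 (iv D47)) (tt N47 F128) (tt N47 F129) (tt N67 D67) (tt N47 F130) (tt N34 F131))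
theorem Q49 : ∀ i, i < 49 → P i := stepQ 48 Q48 (allL N48 (tt N67 (iv F179)) (tt N33 F132) (tt N68 D68) (tt N32 (iv D48)) (tt N69 D69) (tt N35 F133))
theorem Q50 : ∀ i, i < 50 → P i := stepQ 49 Q49 (allL N49 (tt N49 F134) (tt N69 (iv F183)) (tt N66 (iv F177)) (tt N49 F135) (tt N33 (iv D49)) (tt N36 F136))
theorem Q51 : ∀ i, i < 51 → P i := stepQ 50 Q50 (allL N50 (tt N35 F137) (tt N50 F138) (tt N70 D70) (tt N34 (iv D50)) (tt N71 D71) (tt N67 (iv F181)))
theorem Q52 : ∀ i, i < 52 → P i := stepQ 51 Q51 (allL N51 (tt N70 (iv F186)) (tt N51 F139) (tt N35 (iv D51)) (tt N38 F140) (tt N72 D72) (tt N73 D73))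
theorem Q53 : ∀ i, i < 53 → P i := stepQ 52 Q52 (allL N52 (tt N71 (iv F188)) (tt N36 F141) (tt N72 (iv F192)) (tt N52 F142) (tt N35 (iv D52)) (tt N69 (iv F185)))
theorem Q54 : ∀ i, i < 54 → P i := stepQ 53 Q53 (allL N53 (tt N38 F143) (tt N74 D74) (tt N37 (iv D53)) (tt N70 (iv F187)) (tt N75 D75) (tt N76 D76))
theorem Q55 : ∀ i, i < 55 → P i := stepQ 54 Q54 (allL N54 (tt N39 F144) (tt N41 F145) (tt N75 (iv F198)) (tt N54 F146) (tt N37 (iv D54)) (tt N54 F147))
theorem Q56 : ∀ i, i < 56 → P i := stepQ 55 Q55 (allL N55 (tt N75 (iv F197)) (tt N55 F148) (tt N39 F149) (tt N77 D77) (tt N38 (iv D55)) (tt N78 D78))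
theorem Q57 : ∀ i, i < 57 → P i := stepQ 56 Q56 (allL N56 (tt N76 (iv F199)) (tt N56 F150) (tt N56 F151) (tt N73 (iv F194)) (tt N78 (iv F205)) (tt N38 (iv D56)))
theorem Q58 : ∀ i, i < 58 → P i := stepQ 57 Q57 (allL N57 (tt N57 F152) (tt N40 (iv D57)) (tt N74 (iv F196)) (tt N57 F153) (tt N79 D79) (tt N80 D80))
theorem Q59 : ∀ i, i < 59 → P i := stepQ 58 Q58 (allL N58 (tt N42 F154) (tt N79 (iv F207)) (tt N41 F155) (tt N81 D81) (tt N40 (iv D58)) (tt N82 D82))
theorem Q60 : ∀ i, i < 60 → P i := stepQ 59 Q59 (allL N59 (tt N43 F156) (tt N80 (iv F209)) (tt N59 F157) (tt N59 F158) (tt N82 (iv F216)) (tt N40 (iv D59)))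
theorem Q61 : ∀ i, i < 61 → P i := stepQ 60 Q60 (allL N60 (tt N81 (iv F211)) (tt N60 F159) (tt N60 F160) (tt N42 (iv D60)) (tt N60 F161) (tt N83 D83))
theorem Q62 : ∀ i, i < 62 → P i := stepQ 61 Q61 (allL N61 (tt N82 (iv F214)) (tt N61 F162) (tt N61 F163) (tt N83 (iv F218)) (tt N43 F164) (tt N42 (iv D61)))
theorem Q63 : ∀ i, i < 63 → P i := stepQ 62 Q62 (allL N62 (tt N84 D84) (tt N44 (iv D62)) (tt N62 F165) (tt N85 D85) (tt N45 F166) (tt N62 F167))
theorem Q64 : ∀ i, i < 64 → P i := stepQ 63 Q63 (allL N63 (tt N63 F168) (tt N85 (iv F224)) (tt N63 F169) (tt N44 (iv D63)) (tt N86 D86) (tt N63 F170))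
theorem Q65 : ∀ i, i < 65 → P i := stepQ 64 Q64 (allL N64 (tt N45 (iv D64)) (tt N64 F171) (tt N64 F172) (tt N87 D87) (tt N84 (iv F222)) (tt N64 F173))
theorem Q66 : ∀ i, i < 66 → P i := stepQ 65 Q65 (allL N65 (tt N87 (iv F230)) (tt N46 F174) (tt N88 D88) (tt N45 (iv D65)) (tt N89 D89) (tt N65 F175))
theorem Q67 : ∀ i, i < 67 → P i := stepQ 66 Q66 (allL N66 (tt N66 F176) (tt N89 (iv F235)) (tt N49 F177) (tt N86 (iv F228)) (tt N46 (iv D66)) (tt N66 F178))
theorem Q68 : ∀ i, i < 68 → P i := stepQ 67 Q67 (allL N67 (tt N48 F179) (tt N67 F180) (tt N90 D90) (tt N47 (iv D67)) (tt N91 D91) (tt N50 F181))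
theorem Q69 : ∀ i, i < 69 → P i := stepQ 68 Q68 (allL N68 (tt N90 (iv F237)) (tt N88 (iv F233)) (tt N48 (iv D68)) (tt N68 F182) (tt N92 D92) (tt N93 D93))
theorem Q70 : ∀ i, i < 70 → P i := stepQ 69 Q69 (allL N69 (tt N91 (iv F239)) (tt N49 F183) (tt N92 (iv F243)) (tt N69 F184) (tt N48 (iv D69)) (tt N52 F185))
theorem Q71 : ∀ i, i < 71 → P i := stepQ 70 Q70 (allL N70 (tt N51 F186) (tt N94 D94) (tt N50 (iv D70)) (tt N53 F187) (tt N95 D95) (tt N96 D96))
theorem Q72 : ∀ i, i < 72 → P i := stepQ 71 Q71 (allL N71 (tt N52 F188) (tt N71 F189) (tt N95 (iv F250)) (tt N71 F190) (tt N50 (iv D71)) (tt N91 (iv F242)))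
theorem Q73 : ∀ i, i < 73 → P i := stepQ 72 Q72 (allL N72 (tt N95 (iv F249)) (tt N72 F191) (tt N52 F192) (tt N97 D97) (tt N51 (iv D72)) (tt N98 D98))
theorem Q74 : ∀ i, i < 74 → P i := stepQ 73 Q73 (allL N73 (tt N96 (iv F251)) (tt N73 F193) (tt N93 (iv F244)) (tt N56 F194) (tt N98 (iv F257)) (tt N51 (iv D73)))
theorem Q75 : ∀ i, i < 75 → P i := stepQ 74 Q74 (allL N74 (tt N74 F195) (tt N53 (iv D74)) (tt N57 F196) (tt N94 (iv F248)) (tt N99 D99) (tt N100 D100))
theorem Q76 : ∀ i, i < 76 → P i := stepQ 75 Q75 (allL N75 (tt N55 F197) (tt N99 (iv F259)) (tt N54 F198) (tt N101 D101) (tt N53 (iv D75)) (tt N102 D102))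
theorem Q77 : ∀ i, i < 77 → P i := stepQ 76 Q76 (allL N76 (tt N56 F199) (tt N100 (iv F262)) (tt N76 F200) (tt N96 (iv F252)) (tt N102 (iv F267)) (tt N53 (iv D76)))
theorem Q78 : ∀ i, i < 78 → P i := stepQ 77 Q77 (allL N77 (tt N101 (iv F263)) (tt N77 F201) (tt N77 F202) (tt N55 (iv D77)) (tt N97 (iv F255)) (tt N103 D103))
theorem Q79 : ∀ i, i < 79 → P i := stepQ 78 Q78 (allL N78 (tt N102 (iv F265)) (tt N78 F203) (tt N78 F204) (tt N103 (iv F269)) (tt N56 F205) (tt N55 (iv D78)))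
theorem Q80 : ∀ i, i < 80 → P i := stepQ 79 Q79 (allL N79 (tt N79 F206) (tt N58 F207) (tt N99 (iv F260)) (tt N104 D104) (tt N57 (iv D79)) (tt N105 D105))
theorem Q81 : ∀ i, i < 81 → P i := stepQ 80 Q80 (allL N80 (tt N80 F208) (tt N59 F209) (tt N106 D106) (tt N80 F210) (tt N105 (iv F275)) (tt N57 (iv D80)))
theorem Q82 : ∀ i, i < 82 → P i := stepQ 81 Q81 (allL N81 (tt N60 F211) (tt N104 (iv F271)) (tt N81 F212) (tt N58 (iv D81)) (tt N81 F213) (tt N107 D107))
theorem Q83 : ∀ i, i < 83 → P i := stepQ 82 Q82 (allL N82 (tt N61 F214) (tt N105 (iv F274)) (tt N82 F215) (tt N107 (iv F279)) (tt N59 F216) (tt N58 (iv D82)))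
theorem Q84 : ∀ i, i < 84 → P i := stepQ 83 Q83 (allL N83 (tt N107 (iv F278)) (tt N83 F217) (tt N108 D108) (tt N61 F218) (tt N83 F219) (tt N60 (iv D83)))
theorem Q85 : ∀ i, i < 85 → P i := stepQ 84 Q84 (allL N84 (tt N62 (iv D84)) (tt N84 F220) (tt N84 F221) (tt N109 D109) (tt N64 F222) (tt N84 F223))
theorem Q86 : ∀ i, i < 86 → P i := stepQ 85 Q85 (allL N85 (tt N109 (iv F284)) (tt N63 F224) (tt N110 D110) (tt N62 (iv D85)) (tt N111 D111) (tt N85 F225))
theorem Q87 : ∀ i, i < 87 → P i := stepQ 86 Q86 (allL N86 (tt N86 F226) (tt N111 (iv F289)) (tt N86 F227) (tt N66 F228) (tt N63 (iv D86)) (tt N86 F229))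
theorem Q88 : ∀ i, i < 88 → P i := stepQ 87 Q87 (allL N87 (tt N65 F230) (tt N87 F231) (tt N112 D112) (tt N64 (iv D87)) (tt N113 D113) (tt N87 F232))
theorem Q89 : ∀ i, i < 89 → P i := stepQ 88 Q88 (allL N88 (tt N112 (iv F292)) (tt N68 F233) (tt N65 (iv D88)) (tt N88 F234) (tt N114 D114) (tt N115 D115))
theorem Q90 : ∀ i, i < 90 → P i := stepQ 89 Q89 (allL N89 (tt N113 (iv F294)) (tt N66 F235) (tt N114 (iv F298)) (tt N111 (iv F290)) (tt N65 (iv D89)) (tt N89 F236))
theorem Q91 : ∀ i, i < 91 → P i := stepQ 90 Q90 (allL N90 (tt N68 F237) (tt N116 D116) (tt N67 (iv D90)) (tt N90 F238) (tt N117 D117) (tt N118 D118))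
theorem Q92 : ∀ i, i < 92 → P i := stepQ 91 Q91 (allL N91 (tt N69 F239) (tt N91 F240) (tt N117 (iv F305)) (tt N91 F241) (tt N67 (iv D91)) (tt N71 F242))
theorem Q93 : ∀ i, i < 93 → P i := stepQ 92 Q92 (allL N92 (tt N117 (iv F304)) (tt N114 (iv F297)) (tt N69 F243) (tt N119 D119) (tt N68 (iv D92)) (tt N120 D120))
theorem Q94 : ∀ i, i < 94 → P i := stepQ 93 Q93 (allL N93 (tt N118 (iv F306)) (tt N115 (iv F299)) (tt N73 F244) (tt N93 F245) (tt N120 (iv F312)) (tt N68 (iv D93)))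
theorem Q95 : ∀ i, i < 95 → P i := stepQ 94 Q94 (allL N94 (tt N94 F246) (tt N70 (iv D94)) (tt N94 F247) (tt N74 F248) (tt N121 D121) (tt N122 D122))
theorem Q96 : ∀ i, i < 96 → P i := stepQ 95 Q95 (allL N95 (tt N72 F249) (tt N121 (iv F314)) (tt N71 F250) (tt N123 D123) (tt N70 (iv D95)) (tt N124 D124))
theorem Q97 : ∀ i, i < 97 → P i := stepQ 96 Q96 (allL N96 (tt N73 F251) (tt N122 (iv F317)) (tt N118 (iv F307)) (tt N76 F252) (tt N124 (iv F323)) (tt N70 (iv D96)))
theorem Q98 : ∀ i, i < 98 → P i := stepQ 97 Q97 (allL N97 (tt N123 (iv F319)) (tt N97 F253) (tt N97 F254) (tt N72 (iv D97)) (tt N77 F255) (tt N125 D125))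
theorem Q99 : ∀ i, i < 99 → P i := stepQ 98 Q98 (allL N98 (tt N124 (iv F322)) (tt N98 F256) (tt N120 (iv F311)) (tt N125 (iv F325)) (tt N73 F257) (tt N72 (iv D98)))
theorem Q100 : ∀ i, i < 100 → P i := stepQ 99 Q99 (allL N99 (tt N99 F258) (tt N75 F259) (tt N79 F260) (tt N126 D126) (tt N74 (iv D99)) (tt N127 D127))
theorem Q101 : ∀ i, i < 101 → P i := stepQ 100 Q100 (allL N100 (tt N100 F261) (tt N76 F262) (tt N128 D128) (tt N122 (iv F318)) (tt N127 (iv F331)) (tt N74 (iv D100)))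
theorem Q102 : ∀ i, i < 102 → P i := stepQ 101 Q101 (allL N101 (tt N77 F263) (tt N126 (iv F328)) (tt N101 F264) (tt N75 (iv D101)) (tt N123 (iv F321)) (tt N129 D129))
theorem Q103 : ∀ i, i < 103 → P i := stepQ 102 Q102 (allL N102 (tt N78 F265) (tt N127 (iv F330)) (tt N102 F266) (tt N129 (iv F336)) (tt N76 F267) (tt N75 (iv D102)))
theorem Q104 : ∀ i, i < 104 → P i := stepQ 103 Q103 (allL N103 (tt N129 (iv F335)) (tt N103 F268) (tt N130 D130) (tt N78 F269) (tt N125 (iv F326)) (tt N77 (iv D103)))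
theorem Q105 : ∀ i, i < 105 → P i := stepQ 104 Q104 (allL N104 (tt N104 F270) (tt N81 F271) (tt N131 D131) (tt N79 (iv D104)) (tt N104 F272) (tt N132 D132))
theorem Q106 : ∀ i, i < 106 → P i := stepQ 105 Q105 (allL N105 (tt N105 F273) (tt N82 F274) (tt N133 D133) (tt N132 (iv F344)) (tt N80 F275) (tt N79 (iv D105)))
theorem Q107 : ∀ i, i < 107 → P i := stepQ 106 Q106 (allL N106 (tt N106 F276) (tt N106 F277) (tt N80 (iv D106)) (tt N134 D134) (tt N133 (iv F348)) (tt N128 (iv F334)))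
theorem Q108 : ∀ i, i < 108 → P i := stepQ 107 Q107 (allL N107 (tt N83 F278) (tt N132 (iv F343)) (tt N135 D135) (tt N82 F279) (tt N107 F280) (tt N81 (iv D107)))
theorem Q109 : ∀ i, i < 109 → P i := stepQ 108 Q108 (allL N108 (tt N135 (iv F352)) (tt N136 D136) (tt N83 (iv D108)) (tt N108 F281) (tt N108 F282) (tt N108 F283))
theorem Q110 : ∀ i, i < 110 → P i := stepQ 109 Q109 (allL N109 (tt N85 F284) (tt N109 F285) (tt N137 D137) (tt N84 (iv D109)) (tt N138 D138) (tt N109 F286))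
theorem Q111 : ∀ i, i < 111 → P i := stepQ 110 Q110 (allL N110 (tt N137 (iv F360)) (tt N110 F287) (tt N85 (iv D110)) (tt N110 F288) (tt N139 D139) (tt N140 D140))
theorem Q112 : ∀ i, i < 112 → P i := stepQ 111 Q111 (allL N111 (tt N138 (iv F362)) (tt N86 F289) (tt N139 (iv F367)) (tt N89 F290) (tt N85 (iv D111)) (tt N111 F291))
theorem Q113 : ∀ i, i < 113 → P i := stepQ 112 Q112 (allL N112 (tt N88 F292) (tt N141 D141) (tt N87 (iv D112)) (tt N112 F293) (tt N142 D142) (tt N143 D143))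
theorem Q114 : ∀ i, i < 114 → P i := stepQ 113 Q113 (allL N113 (tt N89 F294) (tt N113 F295) (tt N142 (iv F375)) (tt N138 (iv F364)) (tt N87 (iv D113)) (tt N113 F296))
theorem Q115 : ∀ i, i < 115 → P i := stepQ 114 Q114 (allL N114 (tt N142 (iv F374)) (tt N92 F297) (tt N89 F298) (tt N144 D144) (tt N88 (iv D114)) (tt N145 D145))
theorem Q116 : ∀ i, i < 116 → P i := stepQ 115 Q115 (allL N115 (tt N143 (iv F376)) (tt N93 F299) (tt N115 F300) (tt N115 F301) (tt N145 (iv F383)) (tt N88 (iv D115)))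
theorem Q117 : ∀ i, i < 117 → P i := stepQ 116 Q116 (allL N116 (tt N141 (iv F371)) (tt N90 (iv D116)) (tt N116 F302) (tt N116 F303) (tt N146 D146) (tt N147 D147))
theorem Q118 : ∀ i, i < 118 → P i := stepQ 117 Q117 (allL N117 (tt N92 F304) (tt N146 (iv F384)) (tt N91 F305) (tt N148 D148) (tt N90 (iv D117)) (tt N149 D149))
theorem Q119 : ∀ i, i < 119 → P i := stepQ 118 Q118 (allL N118 (tt N93 F306) (tt N147 (iv F386)) (tt N96 F307) (tt N118 F308) (tt N149 (iv F393)) (tt N90 (iv D118)))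
theorem Q120 : ∀ i, i < 120 → P i := stepQ 119 Q119 (allL N119 (tt N148 (iv F388)) (tt N144 (iv F379)) (tt N119 F309) (tt N92 (iv D119)) (tt N119 F310) (tt N150 D150))
theorem Q121 : ∀ i, i < 121 → P i := stepQ 120 Q120 (allL N120 (tt N149 (iv F391)) (tt N145 (iv F381)) (tt N98 F311) (tt N150 (iv F394)) (tt N93 F312) (tt N92 (iv D120)))
theorem Q122 : ∀ i, i < 122 → P i := stepQ 121 Q121 (allL N121 (tt N121 F313) (tt N95 F314) (tt N121 F315) (tt N151 D151) (tt N94 (iv D121)) (tt N152 D152))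
theorem Q123 : ∀ i, i < 123 → P i := stepQ 122 Q122 (allL N122 (tt N122 F316) (tt N96 F317) (tt N153 D153) (tt N100 F318) (tt N152 (iv F401)) (tt N94 (iv D122)))
theorem Q124 : ∀ i, i < 124 → P i := stepQ 123 Q123 (allL N123 (tt N97 F319) (tt N151 (iv F397)) (tt N123 F320) (tt N95 (iv D123)) (tt N101 F321) (tt N154 D154))
theorem Q125 : ∀ i, i < 125 → P i := stepQ 124 Q124 (allL N124 (tt N98 F322) (tt N152 (iv F400)) (tt N149 (iv F392)) (tt N154 (iv F405)) (tt N96 F323) (tt N95 (iv D124)))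
theorem Q126 : ∀ i, i < 126 → P i := stepQ 125 Q125 (allL N125 (tt N154 (iv F404)) (tt N125 F324) (tt N155 D155) (tt N98 F325) (tt N103 F326) (tt N97 (iv D125)))
theorem Q127 : ∀ i, i < 127 → P i := stepQ 126 Q126 (allL N126 (tt N126 F327) (tt N101 F328) (tt N156 D156) (tt N99 (iv D126)) (tt N151 (iv F398)) (tt N157 D157))
theorem Q128 : ∀ i, i < 128 → P i := stepQ 127 Q127 (allL N127 (tt N127 F329) (tt N102 F330) (tt N158 D158) (tt N157 (iv F414)) (tt N100 F331) (tt N99 (iv D127)))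
theorem Q129 : ∀ i, i < 129 → P i := stepQ 128 Q128 (allL N128 (tt N128 F332) (tt N128 F333) (tt N100 (iv D128)) (tt N159 D159) (tt N158 (iv F417)) (tt N106 F334))
theorem Q130 : ∀ i, i < 130 → P i := stepQ 129 Q129 (allL N129 (tt N103 F335) (tt N157 (iv F413)) (tt N160 D160) (tt N102 F336) (tt N154 (iv F406)) (tt N101 (iv D129)))
theorem Q131 : ∀ i, i < 131 → P i := stepQ 130 Q130 (allL N130 (tt N160 (iv F422)) (tt N161 D161) (tt N103 (iv D130)) (tt N130 F337) (tt N155 (iv F407)) (tt N130 F338))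
theorem Q132 : ∀ i, i < 132 → P i := stepQ 131 Q131 (allL N131 (tt N131 F339) (tt N131 F340) (tt N104 (iv D131)) (tt N156 (iv F411)) (tt N131 F341) (tt N162 D162))
theorem Q133 : ∀ i, i < 133 → P i := stepQ 132 Q132 (allL N132 (tt N132 F342) (tt N107 F343) (tt N163 D163) (tt N105 F344) (tt N132 F345) (tt N104 (iv D132)))
theorem Q134 : ∀ i, i < 134 → P i := stepQ 133 Q133 (allL N133 (tt N133 F346) (tt N133 F347) (tt N105 (iv D133)) (tt N164 D164) (tt N106 F348) (tt N158 (iv F418)))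
theorem Q135 : ∀ i, i < 135 → P i := stepQ 134 Q134 (allL N134 (tt N134 F349) (tt N134 F350) (tt N134 F351) (tt N106 (iv D134)) (tt N165 D165) (tt N159 (iv F421)))
theorem Q136 : ∀ i, i < 136 → P i := stepQ 135 Q135 (allL N135 (tt N108 F352) (tt N166 D166) (tt N107 (iv D135)) (tt N135 F353) (tt N135 F354) (tt N135 F355))
theorem Q137 : ∀ i, i < 137 → P i := stepQ 136 Q136 (allL N136 (tt N167 D167) (tt N108 (iv D136)) (tt N136 F356) (tt N136 F357) (tt N136 F358) (tt N136 F359))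
theorem Q138 : ∀ i, i < 138 → P i := stepQ 137 Q137 (allL N137 (tt N110 F360) (tt N168 D168) (tt N109 (iv D137)) (tt N137 F361) (tt N169 D169) (tt N170 D170))
theorem Q139 : ∀ i, i < 139 → P i := stepQ 138 Q138 (allL N138 (tt N111 F362) (tt N138 F363) (tt N169 (iv F449)) (tt N113 F364) (tt N109 (iv D138)) (tt N138 F365))
theorem Q140 : ∀ i, i < 140 → P i := stepQ 139 Q139 (allL N139 (tt N169 (iv F448)) (tt N139 F366) (tt N111 F367) (tt N171 D171) (tt N110 (iv D139)) (tt N172 D172))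
theorem Q141 : ∀ i, i < 141 → P i := stepQ 140 Q140 (allL N140 (tt N170 (iv F450)) (tt N140 F368) (tt N140 F369) (tt N140 F370) (tt N172 (iv F458)) (tt N110 (iv D140)))
theorem Q142 : ∀ i, i < 142 → P i := stepQ 141 Q141 (allL N141 (tt N116 F371) (tt N112 (iv D141)) (tt N141 F372) (tt N141 F373) (tt N173 D173) (tt N174 D174))
theorem Q143 : ∀ i, i < 143 → P i := stepQ 142 Q142 (allL N142 (tt N114 F374) (tt N173 (iv F460)) (tt N113 F375) (tt N175 D175) (tt N112 (iv D142)) (tt N176 D176))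
theorem Q144 : ∀ i, i < 144 → P i := stepQ 143 Q143 (allL N143 (tt N115 F376) (tt N174 (iv F463)) (tt N143 F377) (tt N143 F378) (tt N176 (iv F469)) (tt N112 (iv D143)))
theorem Q145 : ∀ i, i < 145 → P i := stepQ 144 Q144 (allL N144 (tt N175 (iv F465)) (tt N119 F379) (tt N171 (iv F454)) (tt N114 (iv D144)) (tt N144 F380) (tt N177 D177))
theorem Q146 : ∀ i, i < 146 → P i := stepQ 145 Q145 (allL N145 (tt N176 (iv F467)) (tt N120 F381) (tt N145 F382) (tt N177 (iv F471)) (tt N115 F383) (tt N114 (iv D145)))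
theorem Q147 : ∀ i, i < 147 → P i := stepQ 146 Q146 (allL N146 (tt N173 (iv F459)) (tt N117 F384) (tt N146 F385) (tt N178 D178) (tt N116 (iv D146)) (tt N179 D179))
theorem Q148 : ∀ i, i < 148 → P i := stepQ 147 Q147 (allL N147 (tt N174 (iv F462)) (tt N118 F386) (tt N180 D180) (tt N147 F387) (tt N179 (iv F476)) (tt N116 (iv D147)))
theorem Q149 : ∀ i, i < 149 → P i := stepQ 148 Q148 (allL N148 (tt N119 F388) (tt N178 (iv F473)) (tt N148 F389) (tt N117 (iv D148)) (tt N148 F390) (tt N181 D181))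
theorem Q150 : ∀ i, i < 150 → P i := stepQ 149 Q149 (allL N149 (tt N120 F391) (tt N179 (iv F475)) (tt N124 F392) (tt N181 (iv F480)) (tt N118 F393) (tt N117 (iv D149)))
theorem Q151 : ∀ i, i < 151 → P i := stepQ 150 Q150 (allL N150 (tt N181 (iv F479)) (tt N177 (iv F470)) (tt N182 D182) (tt N120 F394) (tt N150 F395) (tt N119 (iv D150)))
theorem Q152 : ∀ i, i < 152 → P i := stepQ 151 Q151 (allL N151 (tt N151 F396) (tt N123 F397) (tt N183 D183) (tt N121 (iv D151)) (tt N126 F398) (tt N184 D184))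
theorem Q153 : ∀ i, i < 153 → P i := stepQ 152 Q152 (allL N152 (tt N152 F399) (tt N124 F400) (tt N185 D185) (tt N184 (iv F491)) (tt N122 F401) (tt N121 (iv D152)))
theorem Q154 : ∀ i, i < 154 → P i := stepQ 153 Q153 (allL N153 (tt N153 F402) (tt N180 (iv F477)) (tt N122 (iv D153)) (tt N186 D186) (tt N185 (iv F494)) (tt N153 F403))
theorem Q155 : ∀ i, i < 155 → P i := stepQ 154 Q154 (allL N154 (tt N125 F404) (tt N184 (iv F490)) (tt N187 D187) (tt N124 F405) (tt N129 F406) (tt N123 (iv D154)))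
theorem Q156 : ∀ i, i < 156 → P i := stepQ 155 Q155 (allL N155 (tt N187 (iv F499)) (tt N188 D188) (tt N125 (iv D155)) (tt N182 (iv F482)) (tt N130 F407) (tt N155 F408))
theorem Q157 : ∀ i, i < 157 → P i := stepQ 156 Q156 (allL N156 (tt N156 F409) (tt N156 F410) (tt N126 (iv D156)) (tt N131 F411) (tt N183 (iv F488)) (tt N189 D189))
theorem Q158 : ∀ i, i < 158 → P i := stepQ 157 Q157 (allL N157 (tt N157 F412) (tt N129 F413) (tt N190 D190) (tt N127 F414) (tt N184 (iv F492)) (tt N126 (iv D157)))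
theorem Q159 : ∀ i, i < 159 → P i := stepQ 158 Q158 (allL N158 (tt N158 F415) (tt N158 F416) (tt N127 (iv D158)) (tt N191 D191) (tt N128 F417) (tt N133 F418))
theorem Q160 : ∀ i, i < 160 → P i := stepQ 159 Q159 (allL N159 (tt N159 F419) (tt N159 F420) (tt N186 (iv F497)) (tt N128 (iv D159)) (tt N192 D192) (tt N134 F421))
theorem Q161 : ∀ i, i < 161 → P i := stepQ 160 Q160 (allL N160 (tt N130 F422) (tt N193 D193) (tt N129 (iv D160)) (tt N160 F423) (tt N187 (iv F500)) (tt N160 F424))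
theorem Q162 : ∀ i, i < 162 → P i := stepQ 161 Q161 (allL N161 (tt N194 D194) (tt N130 (iv D161)) (tt N161 F425) (tt N161 F426) (tt N188 (iv F503)) (tt N161 F427))
theorem Q163 : ∀ i, i < 163 → P i := stepQ 162 Q162 (allL N162 (tt N162 F428) (tt N162 F429) (tt N195 D195) (tt N189 (iv F507)) (tt N162 F430) (tt N131 (iv D162)))
theorem Q164 : ∀ i, i < 164 → P i := stepQ 163 Q163 (allL N163 (tt N163 F431) (tt N196 D196) (tt N132 (iv D163)) (tt N197 D197) (tt N163 F432) (tt N195 (iv F522)))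
theorem Q165 : ∀ i, i < 165 → P i := stepQ 164 Q164 (allL N164 (tt N164 F433) (tt N164 F434) (tt N197 (iv F526)) (tt N133 (iv D164)) (tt N198 D198) (tt N191 (iv F511)))
theorem Q166 : ∀ i, i < 166 → P i := stepQ 165 Q165 (allL N165 (tt N165 F435) (tt N165 F436) (tt N165 F437) (tt N198 (iv F529)) (tt N134 (iv D165)) (tt N192 (iv F514)))
theorem Q167 : ∀ i, i < 167 → P i := stepQ 166 Q166 (allL N166 (tt N199 D199) (tt N135 (iv D166)) (tt N196 (iv F523)) (tt N166 F438) (tt N166 F439) (tt N166 F440))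
theorem Q168 : ∀ i, i < 168 → P i := stepQ 167 Q167 (allL N167 (tt N136 (iv D167)) (tt N199 (iv F530)) (tt N167 F441) (tt N167 F442) (tt N167 F443) (tt N167 F444))
theorem Q169 : ∀ i, i < 169 → P i := stepQ 168 Q168 (allL N168 (tt N168 F445) (tt N137 (iv D168)) (tt N168 F446) (tt N168 F447) (tt N200 D200) (tt N201 D201))
theorem Q170 : ∀ i, i < 170 → P i := stepQ 169 Q169 (allL N169 (tt N139 F448) (tt N200 (iv F535)) (tt N138 F449) (tt N202 D202) (tt N137 (iv D169)) (tt N203 D203))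
theorem Q171 : ∀ i, i < 171 → P i := stepQ 170 Q170 (allL N170 (tt N140 F450) (tt N201 (iv F538)) (tt N170 F451) (tt N170 F452) (tt N203 (iv F545)) (tt N137 (iv D170)))
theorem Q172 : ∀ i, i < 172 → P i := stepQ 171 Q171 (allL N171 (tt N202 (iv F540)) (tt N171 F453) (tt N144 F454) (tt N139 (iv D171)) (tt N171 F455) (tt N204 D204))
theorem Q173 : ∀ i, i < 173 → P i := stepQ 172 Q172 (allL N172 (tt N203 (iv F543)) (tt N172 F456) (tt N172 F457) (tt N204 (iv F547)) (tt N140 F458) (tt N139 (iv D172)))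
theorem Q174 : ∀ i, i < 174 → P i := stepQ 173 Q173 (allL N173 (tt N146 F459) (tt N142 F460) (tt N173 F461) (tt N205 D205) (tt N141 (iv D173)) (tt N206 D206))
theorem Q175 : ∀ i, i < 175 → P i := stepQ 174 Q174 (allL N174 (tt N147 F462) (tt N143 F463) (tt N207 D207) (tt N174 F464) (tt N206 (iv F554)) (tt N141 (iv D174)))
theorem Q176 : ∀ i, i < 176 → P i := stepQ 175 Q175 (allL N175 (tt N144 F465) (tt N205 (iv F550)) (tt N202 (iv F541)) (tt N142 (iv D175)) (tt N175 F466) (tt N208 D208))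
theorem Q177 : ∀ i, i < 177 → P i := stepQ 176 Q176 (allL N176 (tt N145 F467) (tt N206 (iv F553)) (tt N176 F468) (tt N208 (iv F559)) (tt N143 F469) (tt N142 (iv D176)))
theorem Q178 : ∀ i, i < 178 → P i := stepQ 177 Q177 (allL N177 (tt N208 (iv F558)) (tt N150 F470) (tt N209 D209) (tt N145 F471) (tt N177 F472) (tt N144 (iv D177)))
theorem Q179 : ∀ i, i < 179 → P i := stepQ 178 Q178 (allL N178 (tt N205 (iv F549)) (tt N148 F473) (tt N210 D210) (tt N146 (iv D178)) (tt N178 F474) (tt N211 D211))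
theorem Q180 : ∀ i, i < 180 → P i := stepQ 179 Q179 (allL N179 (tt N206 (iv F552)) (tt N149 F475) (tt N212 D212) (tt N211 (iv F567)) (tt N147 F476) (tt N146 (iv D179)))
theorem Q181 : ∀ i, i < 181 → P i := stepQ 180 Q180 (allL N180 (tt N207 (iv F555)) (tt N153 F477) (tt N147 (iv D180)) (tt N213 D213) (tt N212 (iv F570)) (tt N180 F478))
theorem Q182 : ∀ i, i < 182 → P i := stepQ 181 Q181 (allL N181 (tt N150 F479) (tt N211 (iv F566)) (tt N214 D214) (tt N149 F480) (tt N181 F481) (tt N148 (iv D181)))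
theorem Q183 : ∀ i, i < 183 → P i := stepQ 182 Q182 (allL N182 (tt N214 (iv F575)) (tt N215 D215) (tt N150 (iv D182)) (tt N155 F482) (tt N182 F483) (tt N182 F484))
theorem Q184 : ∀ i, i < 184 → P i := stepQ 183 Q183 (allL N183 (tt N183 F485) (tt N183 F486) (tt N151 (iv D183)) (tt N183 F487) (tt N156 F488) (tt N216 D216))
theorem Q185 : ∀ i, i < 185 → P i := stepQ 184 Q184 (allL N184 (tt N184 F489) (tt N154 F490) (tt N217 D217) (tt N152 F491) (tt N157 F492) (tt N151 (iv D184)))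
theorem Q186 : ∀ i, i < 186 → P i := stepQ 185 Q185 (allL N185 (tt N185 F493) (tt N212 (iv F569)) (tt N152 (iv D185)) (tt N218 D218) (tt N153 F494) (tt N185 F495))
theorem Q187 : ∀ i, i < 187 → P i := stepQ 186 Q186 (allL N186 (tt N186 F496) (tt N213 (iv F572)) (tt N159 F497) (tt N153 (iv D186)) (tt N219 D219) (tt N186 F498))
theorem Q188 : ∀ i, i < 188 → P i := stepQ 187 Q187 (allL N187 (tt N155 F499) (tt N220 D220) (tt N154 (iv D187)) (tt N214 (iv F576)) (tt N160 F500) (tt N187 F501))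
theorem Q189 : ∀ i, i < 189 → P i := stepQ 188 Q188 (allL N188 (tt N221 D221) (tt N155 (iv D188)) (tt N188 F502) (tt N215 (iv F579)) (tt N161 F503) (tt N188 F504))
theorem Q190 : ∀ i, i < 190 → P i := stepQ 189 Q189 (allL N189 (tt N189 F505) (tt N189 F506) (tt N222 D222) (tt N162 F507) (tt N216 (iv F585)) (tt N156 (iv D189)))
theorem Q191 : ∀ i, i < 191 → P i := stepQ 190 Q190 (allL N190 (tt N190 F508) (tt N223 D223) (tt N157 (iv D190)) (tt N224 D224) (tt N217 (iv F587)) (tt N222 (iv F599)))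
theorem Q192 : ∀ i, i < 192 → P i := stepQ 191 Q191 (allL N191 (tt N191 F509) (tt N191 F510) (tt N224 (iv F602)) (tt N158 (iv D191)) (tt N225 D225) (tt N164 F511))
theorem Q193 : ∀ i, i < 193 → P i := stepQ 192 Q192 (allL N192 (tt N192 F512) (tt N192 F513) (tt N219 (iv F591)) (tt N225 (iv F605)) (tt N159 (iv D192)) (tt N165 F514))
theorem Q194 : ∀ i, i < 194 → P i := stepQ 193 Q193 (allL N193 (tt N226 D226) (tt N160 (iv D193)) (tt N223 (iv F600)) (tt N193 F515) (tt N220 (iv F593)) (tt N193 F516))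
theorem Q195 : ∀ i, i < 195 → P i := stepQ 194 Q194 (allL N194 (tt N161 (iv D194)) (tt N226 (iv F607)) (tt N194 F517) (tt N194 F518) (tt N221 (iv F596)) (tt N194 F519))
theorem Q196 : ∀ i, i < 196 → P i := stepQ 195 Q195 (allL N195 (tt N195 F520) (tt N227 D227) (tt N162 (iv D195)) (tt N228 D228) (tt N195 F521) (tt N163 F522))
theorem Q197 : ∀ i, i < 197 → P i := stepQ 196 Q196 (allL N196 (tt N229 D229) (tt N163 (iv D196)) (tt N166 F523) (tt N230 D230) (tt N196 F524) (tt N227 (iv F612)))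
theorem Q198 : ∀ i, i < 198 → P i := stepQ 197 Q197 (allL N197 (tt N197 F525) (tt N230 (iv F618)) (tt N164 F526) (tt N163 (iv D197)) (tt N231 D231) (tt N228 (iv F614)))
theorem Q199 : ∀ i, i < 199 → P i := stepQ 198 Q198 (allL N198 (tt N198 F527) (tt N198 F528) (tt N231 (iv F621)) (tt N165 F529) (tt N164 (iv D198)) (tt N225 (iv F606)))
theorem Q200 : ∀ i, i < 200 → P i := stepQ 199 Q199 (allL N199 (tt N166 (iv D199)) (tt N167 F530) (tt N229 (iv F616)) (tt N199 F531) (tt N199 F532) (tt N199 F533))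
theorem Q201 : ∀ i, i < 201 → P i := stepQ 200 Q200 (allL N200 (tt N200 F534) (tt N169 F535) (tt N200 F536) (tt N232 D232) (tt N168 (iv D200)) (tt N233 D233))
theorem Q202 : ∀ i, i < 202 → P i := stepQ 201 Q201 (allL N201 (tt N201 F537) (tt N170 F538) (tt N234 D234) (tt N201 F539) (tt N233 (iv F628)) (tt N168 (iv D201)))
theorem Q203 : ∀ i, i < 203 → P i := stepQ 202 Q202 (allL N202 (tt N171 F540) (tt N232 (iv F624)) (tt N175 F541) (tt N169 (iv D202)) (tt N202 F542) (tt N235 D235))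
theorem Q204 : ∀ i, i < 204 → P i := stepQ 203 Q203 (allL N203 (tt N172 F543) (tt N233 (iv F627)) (tt N203 F544) (tt N235 (iv F633)) (tt N170 F545) (tt N169 (iv D203)))
theorem Q205 : ∀ i, i < 205 → P i := stepQ 204 Q204 (allL N204 (tt N235 (iv F632)) (tt N204 F546) (tt N236 D236) (tt N172 F547) (tt N204 F548) (tt N171 (iv D204)))
theorem Q206 : ∀ i, i < 206 → P i := stepQ 205 Q205 (allL N205 (tt N178 F549) (tt N175 F550) (tt N237 D237) (tt N173 (iv D205)) (tt N205 F551) (tt N238 D238))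
theorem Q207 : ∀ i, i < 207 → P i := stepQ 206 Q206 (allL N206 (tt N179 F552) (tt N176 F553) (tt N239 D239) (tt N238 (iv F643)) (tt N174 F554) (tt N173 (iv D206)))
theorem Q208 : ∀ i, i < 208 → P i := stepQ 207 Q207 (allL N207 (tt N180 F555) (tt N207 F556) (tt N174 (iv D207)) (tt N240 D240) (tt N239 (iv F647)) (tt N207 F557))
theorem Q209 : ∀ i, i < 209 → P i := stepQ 208 Q208 (allL N208 (tt N177 F558) (tt N238 (iv F642)) (tt N241 D241) (tt N176 F559) (tt N208 F560) (tt N175 (iv D208)))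
theorem Q210 : ∀ i, i < 210 → P i := stepQ 209 Q209 (allL N209 (tt N241 (iv F653)) (tt N242 D242) (tt N177 (iv D209)) (tt N209 F561) (tt N209 F562) (tt N236 (iv F637)))
theorem Q211 : ∀ i, i < 211 → P i := stepQ 210 Q210 (allL N210 (tt N237 (iv F638)) (tt N210 F563) (tt N178 (iv D210)) (tt N210 F564) (tt N210 F565) (tt N243 D243))
theorem Q212 : ∀ i, i < 212 → P i := stepQ 211 Q211 (allL N211 (tt N238 (iv F641)) (tt N181 F566) (tt N244 D244) (tt N179 F567) (tt N211 F568) (tt N178 (iv D211)))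
theorem Q213 : ∀ i, i < 213 → P i := stepQ 212 Q212 (allL N212 (tt N239 (iv F645)) (tt N185 F569) (tt N179 (iv D212)) (tt N245 D245) (tt N180 F570) (tt N212 F571))
theorem Q214 : ∀ i, i < 214 → P i := stepQ 213 Q213 (allL N213 (tt N240 (iv F649)) (tt N186 F572) (tt N213 F573) (tt N180 (iv D213)) (tt N246 D246) (tt N213 F574))
theorem Q215 : ∀ i, i < 215 → P i := stepQ 214 Q214 (allL N214 (tt N182 F575) (tt N247 D247) (tt N181 (iv D214)) (tt N187 F576) (tt N214 F577) (tt N214 F578))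
theorem Q216 : ∀ i, i < 216 → P i := stepQ 215 Q215 (allL N215 (tt N248 D248) (tt N182 (iv D215)) (tt N242 (iv F656)) (tt N188 F579) (tt N215 F580) (tt N215 F581))
theorem Q217 : ∀ i, i < 217 → P i := stepQ 216 Q216 (allL N216 (tt N216 F582) (tt N216 F583) (tt N249 D249) (tt N216 F584) (tt N189 F585) (tt N183 (iv D216)))
theorem Q218 : ∀ i, i < 218 → P i := stepQ 217 Q217 (allL N217 (tt N217 F586) (tt N250 D250) (tt N184 (iv D217)) (tt N251 D251) (tt N190 F587) (tt N249 (iv F676)))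
theorem Q219 : ∀ i, i < 219 → P i := stepQ 218 Q218 (allL N218 (tt N218 F588) (tt N245 (iv F663)) (tt N251 (iv F680)) (tt N185 (iv D218)) (tt N252 D252) (tt N218 F589))
theorem Q220 : ∀ i, i < 220 → P i := stepQ 219 Q219 (allL N219 (tt N219 F590) (tt N246 (iv F665)) (tt N192 F591) (tt N252 (iv F682)) (tt N186 (iv D219)) (tt N219 F592))
theorem Q221 : ∀ i, i < 221 → P i := stepQ 220 Q220 (allL N220 (tt N253 D253) (tt N187 (iv D220)) (tt N250 (iv F677)) (tt N247 (iv F668)) (tt N193 F593) (tt N220 F594))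
theorem Q222 : ∀ i, i < 222 → P i := stepQ 221 Q221 (allL N221 (tt N188 (iv D221)) (tt N253 (iv F684)) (tt N221 F595) (tt N248 (iv F671)) (tt N194 F596) (tt N221 F597))
theorem Q223 : ∀ i, i < 223 → P i := stepQ 222 Q222 (allL N222 (tt N222 F598) (tt N254 D254) (tt N189 (iv D222)) (tt N255 D255) (tt N249 (iv F675)) (tt N190 F599))
theorem Q224 : ∀ i, i < 224 → P i := stepQ 223 Q223 (allL N223 (tt N256 D256) (tt N190 (iv D223)) (tt N193 F600) (tt N257 D257) (tt N250 (iv F678)) (tt N254 (iv F688)))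
theorem Q225 : ∀ i, i < 225 → P i := stepQ 224 Q224 (allL N224 (tt N224 F601) (tt N257 (iv F694)) (tt N191 F602) (tt N190 (iv D224)) (tt N258 D258) (tt N255 (iv F691)))
theorem Q226 : ∀ i, i < 226 → P i := stepQ 225 Q225 (allL N225 (tt N225 F603) (tt N225 F604) (tt N258 (iv F697)) (tt N192 F605) (tt N191 (iv D225)) (tt N198 F606))
theorem Q227 : ∀ i, i < 227 → P i := stepQ 226 Q226 (allL N226 (tt N193 (iv D226)) (tt N194 F607) (tt N256 (iv F693)) (tt N226 F608) (tt N253 (iv F685)) (tt N226 F609))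
theorem Q228 : ∀ i, i < 228 → P i := stepQ 227 Q227 (allL N227 (tt N259 D259) (tt N195 (iv D227)) (tt N227 F610) (tt N260 D260) (tt N227 F611) (tt N196 F612))
theorem Q229 : ∀ i, i < 229 → P i := stepQ 228 Q228 (allL N228 (tt N228 F613) (tt N260 (iv F702)) (tt N255 (iv F690)) (tt N195 (iv D228)) (tt N261 D261) (tt N197 F614))
theorem Q230 : ∀ i, i < 230 → P i := stepQ 229 Q229 (allL N229 (tt N196 (iv D229)) (tt N229 F615) (tt N199 F616) (tt N262 D262) (tt N229 F617) (tt N259 (iv F701)))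
theorem Q231 : ∀ i, i < 231 → P i := stepQ 230 Q230 (allL N230 (tt N262 (iv F707)) (tt N197 F618) (tt N230 F619) (tt N196 (iv D230)) (tt N263 D263) (tt N260 (iv F703)))
theorem Q232 : ∀ i, i < 232 → P i := stepQ 231 Q231 (allL N231 (tt N231 F620) (tt N263 (iv F710)) (tt N198 F621) (tt N231 F622) (tt N197 (iv D231)) (tt N261 (iv F706)))
theorem Q233 : ∀ i, i < 233 → P i := stepQ 232 Q232 (allL N232 (tt N232 F623) (tt N202 F624) (tt N264 D264) (tt N200 (iv D232)) (tt N232 F625) (tt N265 D265))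
theorem Q234 : ∀ i, i < 234 → P i := stepQ 233 Q233 (allL N233 (tt N233 F626) (tt N203 F627) (tt N266 D266) (tt N265 (iv F719)) (tt N201 F628) (tt N200 (iv D233)))
theorem Q235 : ∀ i, i < 235 → P i := stepQ 234 Q234 (allL N234 (tt N234 F629) (tt N234 F630) (tt N201 (iv D234)) (tt N267 D267) (tt N266 (iv F723)) (tt N234 F631))
theorem Q236 : ∀ i, i < 236 → P i := stepQ 235 Q235 (allL N235 (tt N204 F632) (tt N265 (iv F718)) (tt N268 D268) (tt N203 F633) (tt N235 F634) (tt N202 (iv D235)))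
theorem Q237 : ∀ i, i < 237 → P i := stepQ 236 Q236 (allL N236 (tt N268 (iv F729)) (tt N269 D269) (tt N204 (iv D236)) (tt N236 F635) (tt N236 F636) (tt N209 F637))
theorem Q238 : ∀ i, i < 238 → P i := stepQ 237 Q237 (allL N237 (tt N210 F638) (tt N264 (iv F714)) (tt N205 (iv D237)) (tt N237 F639) (tt N237 F640) (tt N270 D270))
theorem Q239 : ∀ i, i < 239 → P i := stepQ 238 Q238 (allL N238 (tt N211 F641) (tt N208 F642) (tt N271 D271) (tt N206 F643) (tt N238 F644) (tt N205 (iv D238)))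
theorem Q240 : ∀ i, i < 240 → P i := stepQ 239 Q239 (allL N239 (tt N212 F645) (tt N239 F646) (tt N206 (iv D239)) (tt N272 D272) (tt N207 F647) (tt N239 F648))
theorem Q241 : ∀ i, i < 241 → P i := stepQ 240 Q240 (allL N240 (tt N213 F649) (tt N240 F650) (tt N240 F651) (tt N207 (iv D240)) (tt N273 D273) (tt N240 F652))
theorem Q242 : ∀ i, i < 242 → P i := stepQ 241 Q241 (allL N241 (tt N209 F653) (tt N274 D274) (tt N208 (iv D241)) (tt N241 F654) (tt N241 F655) (tt N268 (iv F732)))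
theorem Q243 : ∀ i, i < 243 → P i := stepQ 242 Q242 (allL N242 (tt N275 D275) (tt N209 (iv D242)) (tt N215 F656) (tt N242 F657) (tt N242 F658) (tt N269 (iv F736)))
theorem Q244 : ∀ i, i < 244 → P i := stepQ 243 Q243 (allL N243 (tt N270 (iv F737)) (tt N243 F659) (tt N276 D276) (tt N243 F660) (tt N243 F661) (tt N210 (iv D243)))
theorem Q245 : ∀ i, i < 245 → P i := stepQ 244 Q244 (allL N244 (tt N271 (iv F740)) (tt N277 D277) (tt N211 (iv D244)) (tt N278 D278) (tt N244 F662) (tt N276 (iv F755)))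
theorem Q246 : ∀ i, i < 246 → P i := stepQ 245 Q245 (allL N245 (tt N272 (iv F742)) (tt N218 F663) (tt N278 (iv F758)) (tt N212 (iv D245)) (tt N279 D279) (tt N245 F664))
theorem Q247 : ∀ i, i < 247 → P i := stepQ 246 Q246 (allL N246 (tt N273 (iv F745)) (tt N219 F665) (tt N246 F666) (tt N279 (iv F760)) (tt N213 (iv D246)) (tt N246 F667))
theorem Q248 : ∀ i, i < 248 → P i := stepQ 247 Q247 (allL N247 (tt N280 D280) (tt N214 (iv D247)) (tt N277 (iv F756)) (tt N220 F668) (tt N247 F669) (tt N247 F670))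
theorem Q249 : ∀ i, i < 249 → P i := stepQ 248 Q248 (allL N248 (tt N215 (iv D248)) (tt N280 (iv F762)) (tt N275 (iv F751)) (tt N221 F671) (tt N248 F672) (tt N248 F673))
theorem Q250 : ∀ i, i < 250 → P i := stepQ 249 Q249 (allL N249 (tt N249 F674) (tt N281 D281) (tt N216 (iv D249)) (tt N282 D282) (tt N222 F675) (tt N217 F676))
theorem Q251 : ∀ i, i < 251 → P i := stepQ 250 Q250 (allL N250 (tt N283 D283) (tt N217 (iv D250)) (tt N220 F677) (tt N284 D284) (tt N223 F678) (tt N281 (iv F768)))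
theorem Q252 : ∀ i, i < 252 → P i := stepQ 251 Q251 (allL N251 (tt N251 F679) (tt N284 (iv F775)) (tt N218 F680) (tt N217 (iv D251)) (tt N285 D285) (tt N282 (iv F771)))
theorem Q253 : ∀ i, i < 253 → P i := stepQ 252 Q252 (allL N252 (tt N252 F681) (tt N279 (iv F759)) (tt N285 (iv F777)) (tt N219 F682) (tt N218 (iv D252)) (tt N252 F683))
theorem Q254 : ∀ i, i < 254 → P i := stepQ 253 Q253 (allL N253 (tt N220 (iv D253)) (tt N221 F684) (tt N283 (iv F773)) (tt N280 (iv F763)) (tt N226 F685) (tt N253 F686))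
theorem Q255 : ∀ i, i < 255 → P i := stepQ 254 Q254 (allL N254 (tt N286 D286) (tt N222 (iv D254)) (tt N254 F687) (tt N287 D287) (tt N281 (iv F767)) (tt N223 F688))
theorem Q256 : ∀ i, i < 256 → P i := stepQ 255 Q255 (allL N255 (tt N255 F689) (tt N287 (iv F782)) (tt N228 F690) (tt N222 (iv D255)) (tt N288 D288) (tt N224 F691))
theorem Q257 : ∀ i, i < 257 → P i := stepQ 256 Q256 (allL N256 (tt N223 (iv D256)) (tt N256 F692) (tt N226 F693) (tt N289 D289) (tt N283 (iv F774)) (tt N286 (iv F781)))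
theorem Q258 : ∀ i, i < 258 → P i := stepQ 257 Q257 (allL N257 (tt N289 (iv F787)) (tt N224 F694) (tt N257 F695) (tt N223 (iv D257)) (tt N290 D290) (tt N287 (iv F783)))
theorem Q259 : ∀ i, i < 259 → P i := stepQ 258 Q258 (allL N258 (tt N258 F696) (tt N290 (iv F790)) (tt N225 F697) (tt N285 (iv F778)) (tt N224 (iv D258)) (tt N288 (iv F786)))
theorem Q260 : ∀ i, i < 260 → P i := stepQ 259 Q259 (allL N259 (tt N227 (iv D259)) (tt N259 F698) (tt N259 F699) (tt N291 D291) (tt N259 F700) (tt N229 F701))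
theorem Q261 : ∀ i, i < 261 → P i := stepQ 260 Q260 (allL N260 (tt N291 (iv F792)) (tt N228 F702) (tt N292 D292) (tt N227 (iv D260)) (tt N293 D293) (tt N230 F703))
theorem Q262 : ∀ i, i < 262 → P i := stepQ 261 Q261 (allL N261 (tt N261 F704) (tt N293 (iv F797)) (tt N288 (iv F785)) (tt N261 F705) (tt N228 (iv D261)) (tt N231 F706))
theorem Q263 : ∀ i, i < 263 → P i := stepQ 262 Q262 (allL N262 (tt N230 F707) (tt N262 F708) (tt N262 F709) (tt N229 (iv D262)) (tt N294 D294) (tt N291 (iv F794)))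
theorem Q264 : ∀ i, i < 264 → P i := stepQ 263 Q263 (allL N263 (tt N294 (iv F800)) (tt N231 F710) (tt N263 F711) (tt N263 F712) (tt N230 (iv D263)) (tt N293 (iv F799)))
theorem Q265 : ∀ i, i < 265 → P i := stepQ 264 Q264 (allL N264 (tt N264 F713) (tt N237 F714) (tt N232 (iv D264)) (tt N264 F715) (tt N264 F716) (tt N295 D295))
theorem Q266 : ∀ i, i < 266 → P i := stepQ 265 Q265 (allL N265 (tt N265 F717) (tt N235 F718) (tt N296 D296) (tt N233 F719) (tt N265 F720) (tt N232 (iv D265)))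
theorem Q267 : ∀ i, i < 267 → P i := stepQ 266 Q266 (allL N266 (tt N266 F721) (tt N266 F722) (tt N233 (iv D266)) (tt N297 D297) (tt N234 F723) (tt N266 F724))
theorem Q268 : ∀ i, i < 268 → P i := stepQ 267 Q267 (allL N267 (tt N267 F725) (tt N267 F726) (tt N267 F727) (tt N234 (iv D267)) (tt N298 D298) (tt N267 F728))
theorem Q269 : ∀ i, i < 269 → P i := stepQ 268 Q268 (allL N268 (tt N236 F729) (tt N299 D299) (tt N235 (iv D268)) (tt N268 F730) (tt N268 F731) (tt N241 F732))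
theorem Q270 : ∀ i, i < 270 → P i := stepQ 269 Q269 (allL N269 (tt N300 D300) (tt N236 (iv D269)) (tt N269 F733) (tt N269 F734) (tt N269 F735) (tt N242 F736))
theorem Q271 : ∀ i, i < 271 → P i := stepQ 270 Q270 (allL N270 (tt N243 F737) (tt N295 (iv F805)) (tt N301 D301) (tt N270 F738) (tt N270 F739) (tt N237 (iv D270)))
theorem Q272 : ∀ i, i < 272 → P i := stepQ 271 Q271 (allL N271 (tt N244 F740) (tt N302 D302) (tt N238 (iv D271)) (tt N303 D303) (tt N271 F741) (tt N301 (iv F826)))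
theorem Q273 : ∀ i, i < 273 → P i := stepQ 272 Q272 (allL N272 (tt N245 F742) (tt N272 F743) (tt N303 (iv F830)) (tt N239 (iv D272)) (tt N304 D304) (tt N272 F744))
theorem Q274 : ∀ i, i < 274 → P i := stepQ 273 Q273 (allL N273 (tt N246 F745) (tt N273 F746) (tt N273 F747) (tt N304 (iv F833)) (tt N240 (iv D273)) (tt N273 F748))
theorem Q275 : ∀ i, i < 275 → P i := stepQ 274 Q274 (allL N274 (tt N305 D305) (tt N241 (iv D274)) (tt N302 (iv F827)) (tt N274 F749) (tt N274 F750) (tt N299 (iv F819)))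
theorem Q276 : ∀ i, i < 276 → P i := stepQ 275 Q275 (allL N275 (tt N242 (iv D275)) (tt N305 (iv F835)) (tt N248 F751) (tt N275 F752) (tt N275 F753) (tt N300 (iv F823)))
theorem Q277 : ∀ i, i < 277 → P i := stepQ 276 Q276 (allL N276 (tt N301 (iv F824)) (tt N306 D306) (tt N243 (iv D276)) (tt N307 D307) (tt N276 F754) (tt N244 F755))
theorem Q278 : ∀ i, i < 278 → P i := stepQ 277 Q277 (allL N277 (tt N308 D308) (tt N244 (iv D277)) (tt N247 F756) (tt N309 D309) (tt N277 F757) (tt N306 (iv F840)))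
theorem Q279 : ∀ i, i < 279 → P i := stepQ 278 Q278 (allL N278 (tt N303 (iv F829)) (tt N309 (iv F845)) (tt N245 F758) (tt N244 (iv D278)) (tt N310 D310) (tt N307 (iv F842)))
theorem Q280 : ∀ i, i < 280 → P i := stepQ 279 Q279 (allL N279 (tt N304 (iv F831)) (tt N252 F759) (tt N310 (iv F847)) (tt N246 F760) (tt N245 (iv D279)) (tt N279 F761))
theorem Q281 : ∀ i, i < 281 → P i := stepQ 280 Q280 (allL N280 (tt N247 (iv D280)) (tt N248 F762) (tt N308 (iv F843)) (tt N253 F763) (tt N280 F764) (tt N280 F765))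
theorem Q282 : ∀ i, i < 282 → P i := stepQ 281 Q281 (allL N281 (tt N311 D311) (tt N249 (iv D281)) (tt N281 F766) (tt N312 D312) (tt N254 F767) (tt N250 F768))
theorem Q283 : ∀ i, i < 283 → P i := stepQ 282 Q282 (allL N282 (tt N282 F769) (tt N312 (iv F853)) (tt N282 F770) (tt N249 (iv D282)) (tt N313 D313) (tt N251 F771))
theorem Q284 : ∀ i, i < 284 → P i := stepQ 283 Q283 (allL N283 (tt N250 (iv D283)) (tt N283 F772) (tt N253 F773) (tt N314 D314) (tt N256 F774) (tt N311 (iv F852)))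
theorem Q285 : ∀ i, i < 285 → P i := stepQ 284 Q284 (allL N284 (tt N314 (iv F859)) (tt N251 F775) (tt N309 (iv F846)) (tt N250 (iv D284)) (tt N315 D315) (tt N312 (iv F854)))
theorem Q286 : ∀ i, i < 286 → P i := stepQ 285 Q285 (allL N285 (tt N285 F776) (tt N315 (iv F861)) (tt N252 F777) (tt N258 F778) (tt N251 (iv D285)) (tt N313 (iv F858)))
theorem Q287 : ∀ i, i < 287 → P i := stepQ 286 Q286 (allL N286 (tt N254 (iv D286)) (tt N286 F779) (tt N286 F780) (tt N316 D316) (tt N311 (iv F851)) (tt N256 F781))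
theorem Q288 : ∀ i, i < 288 → P i := stepQ 287 Q287 (allL N287 (tt N316 (iv F863)) (tt N255 F782) (tt N317 D317) (tt N254 (iv D287)) (tt N318 D318) (tt N257 F783))
theorem Q289 : ∀ i, i < 289 → P i := stepQ 288 Q288 (allL N288 (tt N288 F784) (tt N318 (iv F869)) (tt N261 F785) (tt N313 (iv F857)) (tt N255 (iv D288)) (tt N258 F786))
theorem Q290 : ∀ i, i < 290 → P i := stepQ 289 Q289 (allL N289 (tt N257 F787) (tt N289 F788) (tt N289 F789) (tt N256 (iv D289)) (tt N319 D319) (tt N316 (iv F865)))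
theorem Q291 : ∀ i, i < 291 → P i := stepQ 290 Q290 (allL N290 (tt N319 (iv F871)) (tt N258 F790) (tt N290 F791) (tt N315 (iv F862)) (tt N257 (iv D290)) (tt N318 (iv F870)))
theorem Q292 : ∀ i, i < 292 → P i := stepQ 291 Q291 (allL N291 (tt N260 F792) (tt N291 F793) (tt N320 D320) (tt N259 (iv D291)) (tt N321 D321) (tt N262 F794))
theorem Q293 : ∀ i, i < 293 → P i := stepQ 292 Q292 (allL N292 (tt N320 (iv F874)) (tt N317 (iv F866)) (tt N260 (iv D292)) (tt N292 F795) (tt N322 D322) (tt N292 F796))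
theorem Q294 : ∀ i, i < 294 → P i := stepQ 293 Q293 (allL N293 (tt N321 (iv F877)) (tt N261 F797) (tt N322 (iv F881)) (tt N293 F798) (tt N260 (iv D293)) (tt N263 F799))
theorem Q295 : ∀ i, i < 295 → P i := stepQ 294 Q294 (allL N294 (tt N263 F800) (tt N294 F801) (tt N294 F802) (tt N294 F803) (tt N262 (iv D294)) (tt N321 (iv F880)))
theorem Q296 : ∀ i, i < 296 → P i := stepQ 295 Q295 (allL N295 (tt N295 F804) (tt N270 F805) (tt N323 D323) (tt N295 F806) (tt N295 F807) (tt N264 (iv D295)))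
theorem Q297 : ∀ i, i < 297 → P i := stepQ 296 Q296 (allL N296 (tt N296 F808) (tt N324 D324) (tt N265 (iv D296)) (tt N325 D325) (tt N296 F809) (tt N323 (iv F885)))
theorem Q298 : ∀ i, i < 298 → P i := stepQ 297 Q297 (allL N297 (tt N297 F810) (tt N297 F811) (tt N325 (iv F889)) (tt N266 (iv D297)) (tt N326 D326) (tt N297 F812))
theorem Q299 : ∀ i, i < 299 → P i := stepQ 298 Q298 (allL N298 (tt N298 F813) (tt N298 F814) (tt N298 F815) (tt N326 (iv F892)) (tt N267 (iv D298)) (tt N298 F816))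
theorem Q300 : ∀ i, i < 300 → P i := stepQ 299 Q299 (allL N299 (tt N327 D327) (tt N268 (iv D299)) (tt N324 (iv F886)) (tt N299 F817) (tt N299 F818) (tt N274 F819))
theorem Q301 : ∀ i, i < 301 → P i := stepQ 300 Q300 (allL N300 (tt N269 (iv D300)) (tt N327 (iv F894)) (tt N300 F820) (tt N300 F821) (tt N300 F822) (tt N275 F823))
theorem Q302 : ∀ i, i < 302 → P i := stepQ 301 Q301 (allL N301 (tt N276 F824) (tt N328 D328) (tt N270 (iv D301)) (tt N329 D329) (tt N301 F825) (tt N271 F826))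
theorem Q303 : ∀ i, i < 303 → P i := stepQ 302 Q302 (allL N302 (tt N330 D330) (tt N271 (iv D302)) (tt N274 F827) (tt N331 D331) (tt N302 F828) (tt N328 (iv F899)))
theorem Q304 : ∀ i, i < 304 → P i := stepQ 303 Q303 (allL N303 (tt N278 F829) (tt N331 (iv F906)) (tt N272 F830) (tt N271 (iv D303)) (tt N332 D332) (tt N329 (iv F902)))
theorem Q305 : ∀ i, i < 305 → P i := stepQ 304 Q304 (allL N304 (tt N279 F831) (tt N304 F832) (tt N332 (iv F909)) (tt N273 F833) (tt N272 (iv D304)) (tt N304 F834))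
theorem Q306 : ∀ i, i < 306 → P i := stepQ 305 Q305 (allL N305 (tt N274 (iv D305)) (tt N275 F835) (tt N330 (iv F904)) (tt N305 F836) (tt N305 F837) (tt N327 (iv F897)))
theorem Q307 : ∀ i, i < 307 → P i := stepQ 306 Q306 (allL N306 (tt N333 D333) (tt N276 (iv D306)) (tt N306 F838) (tt N334 D334) (tt N306 F839) (tt N277 F840))
theorem Q308 : ∀ i, i < 308 → P i := stepQ 307 Q307 (allL N307 (tt N329 (iv F900)) (tt N334 (iv F914)) (tt N307 F841) (tt N276 (iv D307)) (tt N335 D335) (tt N278 F842))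
theorem Q309 : ∀ i, i < 309 → P i := stepQ 308 Q308 (allL N308 (tt N277 (iv D308)) (tt N330 (iv F903)) (tt N280 F843) (tt N336 D336) (tt N308 F844) (tt N333 (iv F913)))
theorem Q310 : ∀ i, i < 310 → P i := stepQ 309 Q309 (allL N309 (tt N336 (iv F919)) (tt N278 F845) (tt N284 F846) (tt N277 (iv D309)) (tt N337 D337) (tt N334 (iv F915)))
theorem Q311 : ∀ i, i < 311 → P i := stepQ 310 Q310 (allL N310 (tt N332 (iv F908)) (tt N337 (iv F921)) (tt N279 F847) (tt N310 F848) (tt N278 (iv D310)) (tt N335 (iv F918)))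
theorem Q312 : ∀ i, i < 312 → P i := stepQ 311 Q311 (allL N311 (tt N281 (iv D311)) (tt N311 F849) (tt N311 F850) (tt N338 D338) (tt N286 F851) (tt N283 F852))
theorem Q313 : ∀ i, i < 313 → P i := stepQ 312 Q312 (allL N312 (tt N338 (iv F924)) (tt N282 F853) (tt N339 D339) (tt N281 (iv D312)) (tt N340 D340) (tt N284 F854))
theorem Q314 : ∀ i, i < 314 → P i := stepQ 313 Q313 (allL N313 (tt N313 F855) (tt N340 (iv F929)) (tt N313 F856) (tt N288 F857) (tt N282 (iv D313)) (tt N285 F858))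
theorem Q315 : ∀ i, i < 315 → P i := stepQ 314 Q314 (allL N314 (tt N284 F859) (tt N314 F860) (tt N336 (iv F920)) (tt N283 (iv D314)) (tt N341 D341) (tt N338 (iv F926)))
theorem Q316 : ∀ i, i < 316 → P i := stepQ 315 Q315 (allL N315 (tt N341 (iv F932)) (tt N285 F861) (tt N337 (iv F922)) (tt N290 F862) (tt N284 (iv D315)) (tt N340 (iv F931)))
theorem Q317 : ∀ i, i < 317 → P i := stepQ 316 Q316 (allL N316 (tt N287 F863) (tt N316 F864) (tt N342 D342) (tt N286 (iv D316)) (tt N343 D343) (tt N289 F865))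
theorem Q318 : ∀ i, i < 318 → P i := stepQ 317 Q317 (allL N317 (tt N342 (iv F935)) (tt N292 F866) (tt N287 (iv D317)) (tt N317 F867) (tt N344 D344) (tt N317 F868))
theorem Q319 : ∀ i, i < 319 → P i := stepQ 318 Q318 (allL N318 (tt N343 (iv F938)) (tt N288 F869) (tt N344 (iv F942)) (tt N340 (iv F930)) (tt N287 (iv D318)) (tt N290 F870))
theorem Q320 : ∀ i, i < 320 → P i := stepQ 319 Q319 (allL N319 (tt N290 F871) (tt N319 F872) (tt N319 F873) (tt N341 (iv F934)) (tt N289 (iv D319)) (tt N343 (iv F940)))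
theorem Q321 : ∀ i, i < 321 → P i := stepQ 320 Q320 (allL N320 (tt N292 F874) (tt N345 D345) (tt N291 (iv D320)) (tt N320 F875) (tt N346 D346) (tt N320 F876))
theorem Q322 : ∀ i, i < 322 → P i := stepQ 321 Q321 (allL N321 (tt N293 F877) (tt N321 F878) (tt N346 (iv F948)) (tt N321 F879) (tt N291 (iv D321)) (tt N294 F880))
theorem Q323 : ∀ i, i < 323 → P i := stepQ 322 Q322 (allL N322 (tt N346 (iv F947)) (tt N344 (iv F941)) (tt N293 F881) (tt N347 D347) (tt N292 (iv D322)) (tt N322 F882))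
theorem Q324 : ∀ i, i < 324 → P i := stepQ 323 Q323 (allL N323 (tt N323 F883) (tt N348 D348) (tt N295 (iv D323)) (tt N349 D349) (tt N323 F884) (tt N296 F885))
theorem Q325 : ∀ i, i < 325 → P i := stepQ 324 Q324 (allL N324 (tt N350 D350) (tt N296 (iv D324)) (tt N299 F886) (tt N351 D351) (tt N324 F887) (tt N348 (iv F955)))
theorem Q326 : ∀ i, i < 326 → P i := stepQ 325 Q325 (allL N325 (tt N325 F888) (tt N351 (iv F962)) (tt N297 F889) (tt N296 (iv D325)) (tt N352 D352) (tt N349 (iv F958)))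
theorem Q327 : ∀ i, i < 327 → P i := stepQ 326 Q326 (allL N326 (tt N326 F890) (tt N326 F891) (tt N352 (iv F965)) (tt N298 F892) (tt N297 (iv D326)) (tt N326 F893))
theorem Q328 : ∀ i, i < 328 → P i := stepQ 327 Q327 (allL N327 (tt N299 (iv D327)) (tt N300 F894) (tt N350 (iv F960)) (tt N327 F895) (tt N327 F896) (tt N305 F897))
theorem Q329 : ∀ i, i < 329 → P i := stepQ 328 Q328 (allL N328 (tt N353 D353) (tt N301 (iv D328)) (tt N348 (iv F953)) (tt N354 D354) (tt N328 F898) (tt N302 F899))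
theorem Q330 : ∀ i, i < 330 → P i := stepQ 329 Q329 (allL N329 (tt N307 F900) (tt N354 (iv F970)) (tt N329 F901) (tt N301 (iv D329)) (tt N355 D355) (tt N303 F902))
theorem Q331 : ∀ i, i < 331 → P i := stepQ 330 Q330 (allL N330 (tt N302 (iv D330)) (tt N308 F903) (tt N305 F904) (tt N356 D356) (tt N330 F905) (tt N353 (iv F969)))
theorem Q332 : ∀ i, i < 332 → P i := stepQ 331 Q331 (allL N331 (tt N356 (iv F976)) (tt N303 F906) (tt N331 F907) (tt N302 (iv D331)) (tt N357 D357) (tt N354 (iv F971)))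
theorem Q333 : ∀ i, i < 333 → P i := stepQ 332 Q332 (allL N332 (tt N310 F908) (tt N357 (iv F979)) (tt N304 F909) (tt N332 F910) (tt N303 (iv D332)) (tt N355 (iv F975)))
theorem Q334 : ∀ i, i < 334 → P i := stepQ 333 Q333 (allL N333 (tt N306 (iv D333)) (tt N353 (iv F967)) (tt N333 F911) (tt N358 D358) (tt N333 F912) (tt N308 F913))
theorem Q335 : ∀ i, i < 335 → P i := stepQ 334 Q334 (allL N334 (tt N358 (iv F982)) (tt N307 F914) (tt N359 D359) (tt N306 (iv D334)) (tt N360 D360) (tt N309 F915))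
theorem Q336 : ∀ i, i < 336 → P i := stepQ 335 Q335 (allL N335 (tt N355 (iv F972)) (tt N360 (iv F987)) (tt N335 F916) (tt N335 F917) (tt N307 (iv D335)) (tt N310 F918))
theorem Q337 : ∀ i, i < 337 → P i := stepQ 336 Q336 (allL N336 (tt N309 F919) (tt N356 (iv F977)) (tt N314 F920) (tt N308 (iv D336)) (tt N361 D361) (tt N358 (iv F983)))
theorem Q338 : ∀ i, i < 338 → P i := stepQ 337 Q337 (allL N337 (tt N361 (iv F990)) (tt N310 F921) (tt N315 F922) (tt N337 F923) (tt N309 (iv D337)) (tt N360 (iv F989)))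
theorem Q339 : ∀ i, i < 339 → P i := stepQ 338 Q338 (allL N338 (tt N312 F924) (tt N338 F925) (tt N362 D362) (tt N311 (iv D338)) (tt N363 D363) (tt N314 F926))
theorem Q340 : ∀ i, i < 340 → P i := stepQ 339 Q339 (allL N339 (tt N362 (iv F993)) (tt N339 F927) (tt N312 (iv D339)) (tt N339 F928) (tt N364 D364) (tt N359 (iv F986)))
theorem Q341 : ∀ i, i < 341 → P i := stepQ 340 Q340 (allL N340 (tt N363 (iv F995)) (tt N313 F929) (tt N364 (iv F1000)) (tt N318 F930) (tt N312 (iv D340)) (tt N315 F931))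
theorem Q342 : ∀ i, i < 342 → P i := stepQ 341 Q341 (allL N341 (tt N315 F932) (tt N341 F933) (tt N361 (iv F991)) (tt N319 F934) (tt N314 (iv D341)) (tt N363 (iv F998)))
theorem Q343 : ∀ i, i < 343 → P i := stepQ 342 Q342 (allL N342 (tt N317 F935) (tt N365 D365) (tt N316 (iv D342)) (tt N342 F936) (tt N366 D366) (tt N342 F937))
theorem Q344 : ∀ i, i < 344 → P i := stepQ 343 Q343 (allL N343 (tt N318 F938) (tt N343 F939) (tt N366 (iv F1006)) (tt N363 (iv F997)) (tt N316 (iv D343)) (tt N319 F940))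
theorem Q345 : ∀ i, i < 345 → P i := stepQ 344 Q344 (allL N344 (tt N366 (iv F1005)) (tt N322 F941) (tt N318 F942) (tt N367 D367) (tt N317 (iv D344)) (tt N344 F943))
theorem Q346 : ∀ i, i < 346 → P i := stepQ 345 Q345 (allL N345 (tt N365 (iv F1001)) (tt N320 (iv D345)) (tt N345 F944) (tt N345 F945) (tt N368 D368) (tt N345 F946))
theorem Q347 : ∀ i, i < 347 → P i := stepQ 346 Q346 (allL N346 (tt N322 F947) (tt N368 (iv F1011)) (tt N321 F948) (tt N369 D369) (tt N320 (iv D346)) (tt N346 F949))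
theorem Q348 : ∀ i, i < 348 → P i := stepQ 347 Q347 (allL N347 (tt N369 (iv F1014)) (tt N367 (iv F1008)) (tt N347 F950) (tt N322 (iv D347)) (tt N347 F951) (tt N347 F952))
theorem Q349 : ∀ i, i < 349 → P i := stepQ 348 Q348 (allL N348 (tt N370 D370) (tt N323 (iv D348)) (tt N328 F953) (tt N371 D371) (tt N348 F954) (tt N324 F955))
theorem Q350 : ∀ i, i < 350 → P i := stepQ 349 Q349 (allL N349 (tt N349 F956) (tt N371 (iv F1022)) (tt N349 F957) (tt N323 (iv D349)) (tt N372 D372) (tt N325 F958))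
theorem Q351 : ∀ i, i < 351 → P i := stepQ 350 Q350 (allL N350 (tt N324 (iv D350)) (tt N350 F959) (tt N327 F960) (tt N373 D373) (tt N350 F961) (tt N370 (iv F1021)))
theorem Q352 : ∀ i, i < 352 → P i := stepQ 351 Q351 (allL N351 (tt N373 (iv F1028)) (tt N325 F962) (tt N351 F963) (tt N324 (iv D351)) (tt N374 D374) (tt N371 (iv F1023)))
theorem Q353 : ∀ i, i < 353 → P i := stepQ 352 Q352 (allL N352 (tt N352 F964) (tt N374 (iv F1031)) (tt N326 F965) (tt N352 F966) (tt N325 (iv D352)) (tt N372 (iv F1027)))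
theorem Q354 : ∀ i, i < 354 → P i := stepQ 353 Q353 (allL N353 (tt N328 (iv D353)) (tt N333 F967) (tt N370 (iv F1019)) (tt N375 D375) (tt N353 F968) (tt N330 F969))
theorem Q355 : ∀ i, i < 355 → P i := stepQ 354 Q354 (allL N354 (tt N375 (iv F1034)) (tt N329 F970) (tt N376 D376) (tt N328 (iv D354)) (tt N377 D377) (tt N331 F971))
theorem Q356 : ∀ i, i < 356 → P i := stepQ 355 Q355 (allL N355 (tt N335 F972) (tt N377 (iv F1039)) (tt N355 F973) (tt N355 F974) (tt N329 (iv D355)) (tt N332 F975))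
theorem Q357 : ∀ i, i < 357 → P i := stepQ 356 Q356 (allL N356 (tt N331 F976) (tt N336 F977) (tt N356 F978) (tt N330 (iv D356)) (tt N378 D378) (tt N375 (iv F1036)))
theorem Q358 : ∀ i, i < 358 → P i := stepQ 357 Q357 (allL N357 (tt N378 (iv F1042)) (tt N332 F979) (tt N357 F980) (tt N357 F981) (tt N331 (iv D357)) (tt N377 (iv F1041)))
theorem Q359 : ∀ i, i < 359 → P i := stepQ 358 Q358 (allL N358 (tt N334 F982) (tt N375 (iv F1035)) (tt N379 D379) (tt N333 (iv D358)) (tt N380 D380) (tt N336 F983))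
theorem Q360 : ∀ i, i < 360 → P i := stepQ 359 Q359 (allL N359 (tt N379 (iv F1046)) (tt N359 F984) (tt N334 (iv D359)) (tt N359 F985) (tt N381 D381) (tt N339 F986))
theorem Q361 : ∀ i, i < 361 → P i := stepQ 360 Q360 (allL N360 (tt N380 (iv F1049)) (tt N335 F987) (tt N381 (iv F1053)) (tt N360 F988) (tt N334 (iv D360)) (tt N337 F989))
theorem Q362 : ∀ i, i < 362 → P i := stepQ 361 Q361 (allL N361 (tt N337 F990) (tt N378 (iv F1043)) (tt N341 F991) (tt N361 F992) (tt N336 (iv D361)) (tt N380 (iv F1051)))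
theorem Q363 : ∀ i, i < 363 → P i := stepQ 362 Q362 (allL N362 (tt N339 F993) (tt N382 D382) (tt N338 (iv D362)) (tt N362 F994) (tt N383 D383) (tt N379 (iv F1048)))
theorem Q364 : ∀ i, i < 364 → P i := stepQ 363 Q363 (allL N363 (tt N340 F995) (tt N363 F996) (tt N383 (iv F1059)) (tt N343 F997) (tt N338 (iv D363)) (tt N341 F998))
theorem Q365 : ∀ i, i < 365 → P i := stepQ 364 Q364 (allL N364 (tt N383 (iv F1058)) (tt N364 F999) (tt N340 F1000) (tt N384 D384) (tt N339 (iv D364)) (tt N381 (iv F1054)))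
theorem Q366 : ∀ i, i < 366 → P i := stepQ 365 Q365 (allL N365 (tt N345 F1001) (tt N342 (iv D365)) (tt N365 F1002) (tt N365 F1003) (tt N385 D385) (tt N365 F1004))
theorem Q367 : ∀ i, i < 367 → P i := stepQ 366 Q366 (allL N366 (tt N344 F1005) (tt N385 (iv F1064)) (tt N343 F1006) (tt N386 D386) (tt N342 (iv D366)) (tt N366 F1007))
theorem Q368 : ∀ i, i < 368 → P i := stepQ 367 Q367 (allL N367 (tt N386 (iv F1067)) (tt N347 F1008) (tt N384 (iv F1061)) (tt N344 (iv D367)) (tt N367 F1009) (tt N367 F1010))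
theorem Q369 : ∀ i, i < 369 → P i := stepQ 368 Q368 (allL N368 (tt N385 (iv F1063)) (tt N346 F1011) (tt N368 F1012) (tt N387 D387) (tt N345 (iv D368)) (tt N368 F1013))
theorem Q370 : ∀ i, i < 370 → P i := stepQ 369 Q369 (allL N369 (tt N347 F1014) (tt N387 (iv F1070)) (tt N369 F1015) (tt N346 (iv D369)) (tt N369 F1016) (tt N369 F1017))
theorem Q371 : ∀ i, i < 371 → P i := stepQ 370 Q370 (allL N370 (tt N348 (iv D370)) (tt N370 F1018) (tt N353 F1019) (tt N388 D388) (tt N370 F1020) (tt N350 F1021))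
theorem Q372 : ∀ i, i < 372 → P i := stepQ 371 Q371 (allL N371 (tt N388 (iv F1073)) (tt N349 F1022) (tt N389 D389) (tt N348 (iv D371)) (tt N390 D390) (tt N351 F1023))
theorem Q373 : ∀ i, i < 373 → P i := stepQ 372 Q372 (allL N372 (tt N372 F1024) (tt N390 (iv F1079)) (tt N372 F1025) (tt N372 F1026) (tt N349 (iv D372)) (tt N352 F1027))
theorem Q374 : ∀ i, i < 374 → P i := stepQ 373 Q373 (allL N373 (tt N351 F1028) (tt N373 F1029) (tt N373 F1030) (tt N350 (iv D373)) (tt N391 D391) (tt N388 (iv F1075)))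
theorem Q375 : ∀ i, i < 375 → P i := stepQ 374 Q374 (allL N374 (tt N391 (iv F1082)) (tt N352 F1031) (tt N374 F1032) (tt N374 F1033) (tt N351 (iv D374)) (tt N390 (iv F1081)))
theorem Q376 : ∀ i, i < 376 → P i := stepQ 375 Q375 (allL N375 (tt N354 F1034) (tt N358 F1035) (tt N392 D392) (tt N353 (iv D375)) (tt N393 D393) (tt N356 F1036))
theorem Q377 : ∀ i, i < 377 → P i := stepQ 376 Q376 (allL N376 (tt N392 (iv F1086)) (tt N376 F1037) (tt N354 (iv D376)) (tt N389 (iv F1077)) (tt N394 D394) (tt N376 F1038))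
theorem Q378 : ∀ i, i < 378 → P i := stepQ 377 Q377 (allL N377 (tt N393 (iv F1088)) (tt N355 F1039) (tt N394 (iv F1093)) (tt N377 F1040) (tt N354 (iv D377)) (tt N357 F1041))
theorem Q379 : ∀ i, i < 379 → P i := stepQ 378 Q378 (allL N378 (tt N357 F1042) (tt N361 F1043) (tt N378 F1044) (tt N378 F1045) (tt N356 (iv D378)) (tt N393 (iv F1091)))
theorem Q380 : ∀ i, i < 380 → P i := stepQ 379 Q379 (allL N379 (tt N359 F1046) (tt N395 D395) (tt N358 (iv D379)) (tt N379 F1047) (tt N396 D396) (tt N362 F1048))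
theorem Q381 : ∀ i, i < 381 → P i := stepQ 380 Q380 (allL N380 (tt N360 F1049) (tt N393 (iv F1089)) (tt N396 (iv F1099)) (tt N380 F1050) (tt N358 (iv D380)) (tt N361 F1051))
theorem Q382 : ∀ i, i < 382 → P i := stepQ 381 Q381 (allL N381 (tt N396 (iv F1098)) (tt N381 F1052) (tt N360 F1053) (tt N397 D397) (tt N359 (iv D381)) (tt N364 F1054))
theorem Q383 : ∀ i, i < 383 → P i := stepQ 382 Q382 (allL N382 (tt N382 F1055) (tt N362 (iv D382)) (tt N382 F1056) (tt N382 F1057) (tt N398 D398) (tt N395 (iv F1097)))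
theorem Q384 : ∀ i, i < 384 → P i := stepQ 383 Q383 (allL N383 (tt N364 F1058) (tt N398 (iv F1106)) (tt N363 F1059) (tt N399 D399) (tt N362 (iv D383)) (tt N396 (iv F1100)))
theorem Q385 : ∀ i, i < 385 → P i := stepQ 384 Q384 (allL N384 (tt N399 (iv F1108)) (tt N384 F1060) (tt N367 F1061) (tt N364 (iv D384)) (tt N384 F1062) (tt N397 (iv F1104)))
theorem Q386 : ∀ i, i < 386 → P i := stepQ 385 Q385 (allL N385 (tt N368 F1063) (tt N366 F1064) (tt N385 F1065) (tt N400 D400) (tt N365 (iv D385)) (tt N385 F1066))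
theorem Q387 : ∀ i, i < 387 → P i := stepQ 386 Q386 (allL N386 (tt N367 F1067) (tt N400 (iv F1112)) (tt N399 (iv F1109)) (tt N366 (iv D386)) (tt N386 F1068) (tt N386 F1069))
theorem Q388 : ∀ i, i < 388 → P i := stepQ 387 Q387 (allL N387 (tt N400 (iv F1111)) (tt N369 F1070) (tt N401 D401) (tt N368 (iv D387)) (tt N387 F1071) (tt N387 F1072))
theorem Q389 : ∀ i, i < 389 → P i := stepQ 388 Q388 (allL N388 (tt N371 F1073) (tt N388 F1074) (tt N402 D402) (tt N370 (iv D388)) (tt N403 D403) (tt N373 F1075))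
theorem Q390 : ∀ i, i < 390 → P i := stepQ 389 Q389 (allL N389 (tt N402 (iv F1118)) (tt N389 F1076) (tt N371 (iv D389)) (tt N376 F1077) (tt N404 D404) (tt N389 F1078))
theorem Q391 : ∀ i, i < 391 → P i := stepQ 390 Q390 (allL N390 (tt N403 (iv F1121)) (tt N372 F1079) (tt N404 (iv F1126)) (tt N390 F1080) (tt N371 (iv D390)) (tt N374 F1081))
theorem Q392 : ∀ i, i < 392 → P i := stepQ 391 Q391 (allL N391 (tt N374 F1082) (tt N391 F1083) (tt N391 F1084) (tt N391 F1085) (tt N373 (iv D391)) (tt N403 (iv F1124)))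
theorem Q393 : ∀ i, i < 393 → P i := stepQ 392 Q392 (allL N392 (tt N376 F1086) (tt N405 D405) (tt N375 (iv D392)) (tt N402 (iv F1119)) (tt N406 D406) (tt N392 F1087))
theorem Q394 : ∀ i, i < 394 → P i := stepQ 393 Q393 (allL N393 (tt N377 F1088) (tt N380 F1089) (tt N406 (iv F1132)) (tt N393 F1090) (tt N375 (iv D393)) (tt N378 F1091))
theorem Q395 : ∀ i, i < 395 → P i := stepQ 394 Q394 (allL N394 (tt N406 (iv F1131)) (tt N394 F1092) (tt N377 F1093) (tt N407 D407) (tt N376 (iv D394)) (tt N394 F1094))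
theorem Q396 : ∀ i, i < 396 → P i := stepQ 395 Q395 (allL N395 (tt N395 F1095) (tt N379 (iv D395)) (tt N405 (iv F1129)) (tt N395 F1096) (tt N408 D408) (tt N382 F1097))
theorem Q397 : ∀ i, i < 397 → P i := stepQ 396 Q396 (allL N396 (tt N381 F1098) (tt N408 (iv F1138)) (tt N380 F1099) (tt N409 D409) (tt N379 (iv D396)) (tt N383 F1100))
theorem Q398 : ∀ i, i < 398 → P i := stepQ 397 Q397 (allL N397 (tt N409 (iv F1140)) (tt N397 F1101) (tt N397 F1102) (tt N381 (iv D397)) (tt N397 F1103) (tt N384 F1104))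
theorem Q399 : ∀ i, i < 399 → P i := stepQ 398 Q398 (allL N398 (tt N398 F1105) (tt N383 F1106) (tt N398 F1107) (tt N410 D410) (tt N382 (iv D398)) (tt N408 (iv F1139)))
theorem Q400 : ∀ i, i < 400 → P i := stepQ 399 Q399 (allL N399 (tt N384 F1108) (tt N410 (iv F1145)) (tt N386 F1109) (tt N383 (iv D399)) (tt N399 F1110) (tt N409 (iv F1143)))
theorem Q401 : ∀ i, i < 401 → P i := stepQ 400 Q400 (allL N400 (tt N387 F1111) (tt N386 F1112) (tt N411 D411) (tt N385 (iv D400)) (tt N400 F1113) (tt N400 F1114))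
theorem Q402 : ∀ i, i < 402 → P i := stepQ 401 Q401 (allL N401 (tt N411 (iv F1147)) (tt N401 F1115) (tt N387 (iv D401)) (tt N401 F1116) (tt N401 F1117) (tt N412 D412))
theorem Q403 : ∀ i, i < 403 → P i := stepQ 402 Q402 (allL N402 (tt N389 F1118) (tt N413 D413) (tt N388 (iv D402)) (tt N392 F1119) (tt N414 D414) (tt N402 F1120))
theorem Q404 : ∀ i, i < 404 → P i := stepQ 403 Q403 (allL N403 (tt N390 F1121) (tt N403 F1122) (tt N414 (iv F1159)) (tt N403 F1123) (tt N388 (iv D403)) (tt N391 F1124))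
theorem Q405 : ∀ i, i < 405 → P i := stepQ 404 Q404 (allL N404 (tt N414 (iv F1158)) (tt N404 F1125) (tt N390 F1126) (tt N415 D415) (tt N389 (iv D404)) (tt N404 F1127))
theorem Q406 : ∀ i, i < 406 → P i := stepQ 405 Q405 (allL N405 (tt N405 F1128) (tt N392 (iv D405)) (tt N395 F1129) (tt N413 (iv F1156)) (tt N416 D416) (tt N405 F1130))
theorem Q407 : ∀ i, i < 407 → P i := stepQ 406 Q406 (allL N406 (tt N394 F1131) (tt N416 (iv F1166)) (tt N393 F1132) (tt N417 D417) (tt N392 (iv D406)) (tt N406 F1133))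
theorem Q408 : ∀ i, i < 408 → P i := stepQ 407 Q407 (allL N407 (tt N417 (iv F1169)) (tt N407 F1134) (tt N407 F1135) (tt N394 (iv D407)) (tt N415 (iv F1163)) (tt N407 F1136))
theorem Q409 : ∀ i, i < 409 → P i := stepQ 408 Q408 (allL N408 (tt N408 F1137) (tt N396 F1138) (tt N416 (iv F1167)) (tt N418 D418) (tt N395 (iv D408)) (tt N398 F1139))
theorem Q410 : ∀ i, i < 410 → P i := stepQ 409 Q409 (allL N409 (tt N397 F1140) (tt N418 (iv F1173)) (tt N409 F1141) (tt N396 (iv D409)) (tt N409 F1142) (tt N399 F1143))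
theorem Q411 : ∀ i, i < 411 → P i := stepQ 410 Q410 (allL N410 (tt N410 F1144) (tt N399 F1145) (tt N419 D419) (tt N398 (iv D410)) (tt N410 F1146) (tt N418 (iv F1175)))
theorem Q412 : ∀ i, i < 412 → P i := stepQ 411 Q411 (allL N411 (tt N401 F1147) (tt N419 (iv F1177)) (tt N400 (iv D411)) (tt N411 F1148) (tt N411 F1149) (tt N420 D420))
theorem Q413 : ∀ i, i < 413 → P i := stepQ 412 Q412 (allL N412 (tt N420 (iv F1180)) (tt N412 F1150) (tt N412 F1151) (tt N412 F1152) (tt N412 F1153) (tt N401 (iv D412)))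
theorem Q414 : ∀ i, i < 414 → P i := stepQ 413 Q413 (allL N413 (tt N413 F1154) (tt N402 (iv D413)) (tt N413 F1155) (tt N405 F1156) (tt N421 D421) (tt N413 F1157))
theorem Q415 : ∀ i, i < 415 → P i := stepQ 414 Q414 (allL N414 (tt N404 F1158) (tt N421 (iv F1185)) (tt N403 F1159) (tt N422 D422) (tt N402 (iv D414)) (tt N414 F1160))
theorem Q416 : ∀ i, i < 416 → P i := stepQ 415 Q415 (allL N415 (tt N422 (iv F1188)) (tt N415 F1161) (tt N415 F1162) (tt N404 (iv D415)) (tt N407 F1163) (tt N415 F1164))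
theorem Q417 : ∀ i, i < 417 → P i := stepQ 416 Q416 (allL N416 (tt N416 F1165) (tt N406 F1166) (tt N408 F1167) (tt N423 D423) (tt N405 (iv D416)) (tt N416 F1168))
theorem Q418 : ∀ i, i < 418 → P i := stepQ 417 Q417 (allL N417 (tt N407 F1169) (tt N423 (iv F1193)) (tt N417 F1170) (tt N406 (iv D417)) (tt N422 (iv F1190)) (tt N417 F1171))
theorem Q419 : ∀ i, i < 419 → P i := stepQ 418 Q418 (allL N418 (tt N418 F1172) (tt N409 F1173) (tt N424 D424) (tt N408 (iv D418)) (tt N418 F1174) (tt N410 F1175))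
theorem Q420 : ∀ i, i < 420 → P i := stepQ 419 Q419 (allL N419 (tt N419 F1176) (tt N411 F1177) (tt N410 (iv D419)) (tt N419 F1178) (tt N419 F1179) (tt N425 D425))
theorem Q421 : ∀ i, i < 421 → P i := stepQ 420 Q420 (allL N420 (tt N412 F1180) (tt N425 (iv F1199)) (tt N420 F1181) (tt N420 F1182) (tt N420 F1183) (tt N411 (iv D420)))
theorem Q422 : ∀ i, i < 422 → P i := stepQ 421 Q421 (allL N421 (tt N421 F1184) (tt N414 F1185) (tt N421 F1186) (tt N426 D426) (tt N413 (iv D421)) (tt N421 F1187))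
theorem Q423 : ∀ i, i < 423 → P i := stepQ 422 Q422 (allL N422 (tt N415 F1188) (tt N426 (iv F1203)) (tt N422 F1189) (tt N414 (iv D422)) (tt N417 F1190) (tt N422 F1191))
theorem Q424 : ∀ i, i < 424 → P i := stepQ 423 Q423 (allL N423 (tt N423 F1192) (tt N417 F1193) (tt N427 D427) (tt N416 (iv D423)) (tt N426 (iv F1204)) (tt N423 F1194))
theorem Q425 : ∀ i, i < 425 → P i := stepQ 424 Q424 (allL N424 (tt N424 F1195) (tt N424 F1196) (tt N418 (iv D424)) (tt N427 (iv F1208)) (tt N424 F1197) (tt N428 D428))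
theorem Q426 : ∀ i, i < 426 → P i := stepQ 425 Q425 (allL N425 (tt N425 F1198) (tt N420 F1199) (tt N428 (iv F1211)) (tt N425 F1200) (tt N425 F1201) (tt N419 (iv D425)))
theorem Q427 : ∀ i, i < 427 → P i := stepQ 426 Q426 (allL N426 (tt N426 F1202) (tt N422 F1203) (tt N429 D429) (tt N421 (iv D426)) (tt N423 F1204) (tt N426 F1205))
theorem Q428 : ∀ i, i < 428 → P i := stepQ 427 Q427 (allL N427 (tt N427 F1206) (tt N427 F1207) (tt N423 (iv D427)) (tt N424 F1208) (tt N429 (iv F1216)) (tt N430 D430))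
theorem Q429 : ∀ i, i < 429 → P i := stepQ 428 Q428 (allL N428 (tt N428 F1209) (tt N428 F1210) (tt N425 F1211) (tt N430 (iv F1220)) (tt N428 F1212) (tt N424 (iv D428)))
theorem Q430 : ∀ i, i < 430 → P i := stepQ 429 Q429 (allL N429 (tt N429 F1213) (tt N429 F1214) (tt N426 (iv D429)) (tt N429 F1215) (tt N427 F1216) (tt N431 D431))
theorem Q431 : ∀ i, i < 431 → P i := stepQ 430 Q430 (allL N430 (tt N430 F1217) (tt N430 F1218) (tt N430 F1219) (tt N428 F1220) (tt N431 (iv F1225)) (tt N427 (iv D430)))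
theorem Q432 : ∀ i, i < 432 → P i := stepQ 431 Q431 (allL N431 (tt N431 F1221) (tt N431 F1222) (tt N431 F1223) (tt N431 F1224) (tt N430 F1225) (tt N429 (iv D431)))

theorem closedN : ∀ i, i < N → P i := Q432

end Cfsg.Agent.Helper17.FiQ3TC
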