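import Cfsg.Agent.Helper17.FiQ3TC.Facts1

set_option autoImplicit false
set_option linter.all false
set_option maxRecDepth 100000

noncomputable section

namespace Cfsg.Agent.Helper17.FiQ3TC

def N : ℕ := 432

def nl : ℕ := 6

def parT : ℕ := 0xd6eaf55a8d3e9747a2d067b3b9bcd6632d95ca64b2591c863b198bc56231185c26130781bfdfafb7bbdde2ef77badcee772b85badb6cb55aacf66b3592c562b0d7ebd5dae572b559ac55aad53a954aa14ea7536974aa4d229145a25128743a1502813d9e4f275389c4de6b3499cca652f974ba5b2d95ca6512893c92472390c7e3f1e8e46e35198cc5a2b158a452251087c3e1d0d8642e15098441a090481c0600ff7f3f9f6fa7d3e5f2f77abd1e8f3793c5e0ef773b5d8eb753a5d0e873395c8e371b81bedf6f379b8da6cb65b0d76b355a8d369345a0cf673359acc6532590c862b1188c361b057ebe5f2f578bb5d2e570b75b2d568b3592c962af572b55aab54aa550a85329146a351285409f4f275389b4d26530974ba59289349249208e472351a8b45a2512894421d0c854220d0481401fcfc7e3e9ecf4793c9dcea753a1d0e472381c0e06e371b4da6c359a8d2683419cca643198cc25f2f978bc5c2e168b45a2c160ae572a954a853289409e4f2692c964a2512090462311888442190c8241200fc7c3e1e0e874391c8dc6e351a8d46633190c86030178b85a2d160b0542a140a05026130944a231188842201007c3e1e0e070361b0c86430170b0582a150a04c22110803c1c0e06834180b058281209040200e06030140a040180c0401008000000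

def pletT : ℕ := 0xb554ea6e54dc70d4dc70c89371c3229136e386452271c61c70c8a44e38c461970c8a44e38c46191195229138e311864465031ab2271c6230c88ca06354a6aa8e311864465031aa53552aab8c32232818d529aa9555daec11940c6a94d54aaaed76576106354a6aa55576bb2bb0d9114d54aaaed765761b2289aaabb5d95d86c8a2718b5d95d86c8a271866bb0d9144e30cab2289c6195627186559186556caa95340

def par (i : ℕ) : ℕ := (parT >>> (9 * i)) &&& 511

def plet (i : ℕ) : ℕ := (pletT >>> (3 * i)) &&& 7

def chk (i p l : ℕ) : Bool :=
  decide (0 < i) && decide (i < N) && decide (par i = p) && decide (p < i) && decide (plet i = l)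

def nd (i : ℕ) : Q :=
  if h : 0 < i ∧ i < N ∧ par i < i then act (plet i) (nd (par i)) else n0
termination_by i
decreasing_by exact h.2.2

theorem nd_zero : nd 0 = n0 := by
  rw [nd, dif_neg]; omega

theorem nd_ge {i : ℕ} (h : N ≤ i) : nd i = n0 := by
  rw [nd, dif_neg]; omega

theorem nd_step {i p l : ℕ} (h : chk i p l = true) : nd i = act l (nd p) := by
  simp only [chk, Bool.and_eq_true, decide_eq_true_eq] at h
  obtain ⟨⟨⟨⟨h1, h2⟩, h3⟩, h4⟩, h5⟩ := h
  rw [nd, dif_pos ⟨h1, h2, h3 ▸ h4⟩, h3, h5]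

theorem ndS {i p l : ℕ} {y x : Q} (h : chk i p l = true) (e : nd p = y) (F : act l y = x) :
    nd i = x := by
  rw [nd_step h, e, F]

def P (i : ℕ) : Prop := ∀ l, l < nl → ∃ j, act l (nd i) = nd j

theorem tt {l j : ℕ} {x y : Q} (e : nd j = y) (F : act l x = y) : ∃ j, act l x = nd j :=
  ⟨j, F.trans e.symm⟩

theorem allL {i : ℕ} {x : Q} (e : nd i = x) (h0 : ∃ j, act 0 x = nd j) (h1 : ∃ j, act 1 x = nd j) (h2 : ∃ j, act 2 x = nd j) (h3 : ∃ j, act 3 x = nd j) (h4 : ∃ j, act 4 x = nd j) (h5 : ∃ j, act 5 x = nd j) : P i := by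
  intro l hl; rw [e]; unfold nl at hl; interval_cases l <;> assumption

theorem stepQ (k : ℕ) (h : ∀ i, i < k → P i) (hk : P k) : ∀ i, i < k + 1 → P i := by
  intro i hi
  rcases Nat.lt_succ_iff_lt_or_eq.mp hi with h1 | h1
  · exact h i h1
  · exact h1 ▸ hk

theorem Q0 : ∀ i, i < 0 → P i := fun i h => absurd h (Nat.not_lt_zero i)

theorem N0 : nd 0 = n0 := nd_zero


end Cfsg.Agent.Helper17.FiQ3TC
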